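import Groth.Agent.Lib.OX.RHomDual
import Groth.Agent.Lib.Detect22.PerfectDetect

/-! # `- ⊗^L D = RHom(K, -)` naturally, for a dual pair `(K, D)` of perfect complexes -/

set_option autoImplicit false
set_option maxHeartbeats 1000000
set_option linter.style.haveILetI false
set_option backward.isDefEq.respectTransparency false
universe u

open CategoryTheory CategoryTheory.Limits AlgebraicGeometry HomologicalComplex

attribute [local instance] HasDerivedCategory.standard

noncomputable section

namespace GrothLib.RightAdj20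

open GrothLib.OX

variable {X : Scheme.{u}}

/-- K-flat complexes with flat terms. -/
def kff (X : Scheme.{u}) : ObjectProperty (CochainComplex X.Modules ℤ) := fun A => DCoh.IsKFlat A ∧ FlatTerms A

/-- Natural transformations on K-flat resolutions descend to the derived category. -/
theorem nonempty_descend {C : Type*} [Category C] {F G : DCoh.D X ⥤ C}
    (τ : (kff X).ι ⋙ DerivedCategory.Q ⋙ F ≅ (kff X).ι ⋙ DerivedCategory.Q ⋙ G) : Nonempty (F ≅ G) := by
  have hrep : ∀ Z : DCoh.D X, ∃ A : (kff X).FullSubcategory, Nonempty (DerivedCategory.Q.obj A.obj ≅ Z) := fun Z => by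
    obtain ⟨A, q, hA, hA', hq, -⟩ := exists_kflat_resolution (DerivedCategory.Q.objPreimage Z)
    exact ⟨⟨A, hA, hA'⟩, ⟨asIso (DerivedCategory.Q.map q) ≪≫ DerivedCategory.Q.objObjPreimageIso Z⟩⟩
  choose A hA using hrep
  let a := fun Z => (hA Z).some
  have hnat : ∀ (P P' : (kff X).FullSubcategory) (g : DerivedCategory.Q.obj P.obj ⟶ DerivedCategory.Q.obj P'.obj),
      F.map g ≫ τ.hom.app P' = τ.hom.app P ≫ G.map g := fun P P' g => by
    obtain ⟨Z, s, hs, t, rfl⟩ := DerivedCategory.right_fac g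
    obtain ⟨T, r, hT, hT', hr, -⟩ := exists_kflat_resolution Z
    haveI := hr
    haveI : IsIso (DerivedCategory.Q.map r) := inferInstance
    haveI : IsIso (DerivedCategory.Q.map s) := hs
    let T₀ : (kff X).FullSubcategory := ⟨T, hT, hT'⟩
    have n₁ : F.map (DerivedCategory.Q.map (r ≫ s)) ≫ τ.hom.app P =
        τ.hom.app T₀ ≫ G.map (DerivedCategory.Q.map (r ≫ s)) :=
      τ.hom.naturality (ObjectProperty.homMk (r ≫ s) : T₀ ⟶ P)
    have n₂ : F.map (DerivedCategory.Q.map (r ≫ t)) ≫ τ.hom.app P' =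
        τ.hom.app T₀ ≫ G.map (DerivedCategory.Q.map (r ≫ t)) :=
      τ.hom.naturality (ObjectProperty.homMk (r ≫ t) : T₀ ⟶ P')
    haveI : IsIso (DerivedCategory.Q.map (r ≫ s)) := by rw [Functor.map_comp]; infer_instance
    have hg : inv (DerivedCategory.Q.map s) ≫ DerivedCategory.Q.map t =
        inv (DerivedCategory.Q.map (r ≫ s)) ≫ DerivedCategory.Q.map (r ≫ t) := by
      rw [IsIso.eq_inv_comp]
      simp
    rw [hg, Functor.map_comp, Category.assoc, n₂, Functor.map_inv, IsIso.inv_comp_eq, ← Category.assoc, n₁,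
      Category.assoc, ← Functor.map_comp]
    simp
  exact ⟨NatIso.ofComponents (fun Z => F.mapIso (a Z).symm ≪≫ τ.app (A Z) ≪≫ G.mapIso (a Z)) fun {Z Z'} g => by
    have h := hnat (A Z) (A Z') ((a Z).hom ≫ g ≫ (a Z').inv)
    simp only [Iso.trans_hom, Functor.mapIso_hom, Iso.app_hom, Iso.symm_hom, Category.assoc]
    rw [Functor.map_comp, Functor.map_comp, Category.assoc, Category.assoc] at h
    rw [← cancel_epi (F.map (a Z).hom), reassoc_of% h]
    simp only [← Functor.map_comp, ← F.map_comp_assoc, Iso.hom_inv_id, Iso.inv_hom_id, F.map_id, Category.id_comp,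
      Category.comp_id, Category.assoc, Iso.hom_inv_id_assoc]⟩

/-- Naturality of `psi` in the first complex. -/
theorem psi_natural₁ {A A' : CochainComplex X.Modules ℤ} (a : A ⟶ A') (J E : CochainComplex X.Modules ℤ) :
    ((DCoh.tensorCx (X := X)).map a).app ((homCx E).obj J) ≫
        psi A' J (𝟙 (((DCoh.tensorCx (X := X)).obj A').obj J)) E =
      psi A J (𝟙 (((DCoh.tensorCx (X := X)).obj A).obj J)) E ≫
        (homCx E).map (((DCoh.tensorCx (X := X)).map a).app J) := by
  rw [psi, psi, ← Adjunction.homEquiv_naturality_left, ← Adjunction.homEquiv_naturality_right]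
  refine congrArg ((homCxAdj E).homEquiv _ _) ?_
  simp only [Category.assoc]
  have h1 := (tensorCxCompIso ((homCx E).obj J) E).hom.naturality a
  have h2 := ((DCoh.tensorCx (X := X)).map a).naturality ((homCxAdj E).counit.app J)
  refine ((Category.assoc _ _ _).symm.trans (congrArg (· ≫ _) h1)).trans
    ((Category.assoc _ _ _).trans (congrArg (_ ≫ ·) ?_))
  exact (congrArg (_ ≫ ·) (Category.comp_id _)).trans (h2.symm.trans (congrArg (_ ≫ ·) (Category.id_comp _).symm))

variable (K : CochainComplex X.Modules ℤ) [DCoh.HasLTensorCx K] [DCoh.HasRSheafHom K]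

/-- The comparison `Hom(K, -) ⟶ RHom(K, -)`. -/
def toR : homCx K ⋙ DerivedCategory.Q ⟶ DerivedCategory.Q ⋙ DCoh.RSheafHom K where
  app Y := (DCoh.RSheafHomAdj K).homEquiv _ _
    (((DCoh.tensorCxQ K).totalLeftDerivedCounit DerivedCategory.Q
      (HomologicalComplex.quasiIso X.Modules (ComplexShape.up ℤ))).app ((homCx K).obj Y) ≫
      DerivedCategory.Q.map ((homCxAdj K).counit.app Y))
  naturality {Y Y'} g := by
    dsimp only [Functor.comp_map, Functor.comp_obj]
    rw [← Adjunction.homEquiv_naturality_left, ← Adjunction.homEquiv_naturality_right]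
    refine congrArg ((DCoh.RSheafHomAdj K).homEquiv _ _) ?_
    have h1 := ((DCoh.tensorCxQ K).totalLeftDerivedCounit DerivedCategory.Q
      (HomologicalComplex.quasiIso X.Modules (ComplexShape.up ℤ))).naturality ((homCx K).map g)
    have h2 := (homCxAdj K).counit.naturality g
    refine ((Category.assoc _ _ _).symm.trans (congrArg (· ≫ _) h1)).trans ?_
    refine (Category.assoc _ _ _).trans ((congrArg (_ ≫ ·) ?_).trans (Category.assoc _ _ _).symm)
    exact (DerivedCategory.Q.map_comp _ _).symm.trans ((congrArg DerivedCategory.Q.map h2).trans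
      (DerivedCategory.Q.map_comp _ _))

/-- Bijectivity of the evaluation (same argument as `OX.nonempty_representableBy_ltensor`). -/
theorem bijective_ev (E : CochainComplex X.Modules ℤ) [DCoh.HasLTensorCx E]
    (hE : DCoh.IsKFlat E) (I : CochainComplex X.Modules ℤ) [I.IsKInjective] (Z₀ : DCoh.D X) :
    Function.Bijective fun b : Z₀ ⟶ DerivedCategory.Q.obj ((homCx E).obj I) =>
      (DCoh.LTensorCx E).map b ≫ ((DCoh.tensorCxQ E).totalLeftDerivedCounit DerivedCategory.Q
        (HomologicalComplex.quasiIso X.Modules (ComplexShape.up ℤ))).app ((homCx E).obj I) ≫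
        DerivedCategory.Q.map ((homCxAdj E).counit.app I) := by
  let α := (DCoh.tensorCxQ E).totalLeftDerivedCounit DerivedCategory.Q
    (HomologicalComplex.quasiIso X.Modules (ComplexShape.up ℤ))
  let ε₀ : (DCoh.LTensorCx E).obj (DerivedCategory.Q.obj ((homCx E).obj I)) ⟶ DerivedCategory.Q.obj I :=
    α.app ((homCx E).obj I) ≫ DerivedCategory.Q.map ((homCxAdj E).counit.app I)
  let ev : ∀ Z, (Z ⟶ DerivedCategory.Q.obj ((homCx E).obj I)) → ((DCoh.LTensorCx E).obj Z ⟶ DerivedCategory.Q.obj I) :=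
    fun Z b => (DCoh.LTensorCx E).map b ≫ ε₀
  have := isKInjective_homCx hE I
  have hev : ∀ {A : CochainComplex X.Modules ℤ} (b : A ⟶ (homCx E).obj I), ev _ (DerivedCategory.Q.map b) =
      α.app A ≫ DerivedCategory.Q.map (((homCxAdj E).homEquiv A I).symm b) := fun {A} b => by
    rw [Adjunction.homEquiv_counit, Functor.map_comp]
    exact ((Category.assoc _ _ _).symm.trans (congrArg (· ≫ _) (α.naturality b))).trans (Category.assoc _ _ _)
  have hQ : ∀ A : CochainComplex X.Modules ℤ, Function.Bijective (ev (DerivedCategory.Q.obj A)) := fun A => by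
    have hα : IsIso (α.app A) := isIso_counit_of_isKFlat E hE A
    constructor
    · intro b₁ b₂ hb
      obtain ⟨c₁, rfl⟩ := Q_map_surjective b₁
      obtain ⟨c₂, rfl⟩ := Q_map_surjective b₂
      rw [hev, hev] at hb
      have hb' := (cancel_epi (α.app A)).1 hb
      obtain ⟨c₁', rfl⟩ := ((homCxAdj E).homEquiv A I).surjective c₁
      obtain ⟨c₂', rfl⟩ := ((homCxAdj E).homEquiv A I).surjective c₂
      rw [Equiv.symm_apply_apply, Equiv.symm_apply_apply] at hb'
      have h0 : DerivedCategory.Q.map (c₁' - c₂') = 0 := by rw [Functor.map_sub, hb', sub_self]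
      obtain ⟨h⟩ := nonempty_homotopy_of_Q_map_eq_zero h0
      have hq := HomotopyCategory.eq_of_homotopy _ _ (Homotopy.equivSubZero.symm h)
      obtain ⟨k⟩ := transpose_null h
      have hq' := Q_map_eq_zero_of_null k
      have := (homCxAdj E).right_adjoint_additive
      rw [Adjunction.homEquiv_unit, Functor.map_sub, Preadditive.comp_sub, Functor.map_sub, sub_eq_zero] at hq'
      rw [Adjunction.homEquiv_unit, Adjunction.homEquiv_unit]
      exact hq'
    · intro g
      obtain ⟨c, hc⟩ := Q_map_surjective (inv (α.app A) ≫ g)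
      refine ⟨DerivedCategory.Q.map ((homCxAdj E).homEquiv A I c), ?_⟩
      rw [hev, Equiv.symm_apply_apply, hc, IsIso.hom_inv_id_assoc]
  have hall : ∀ Z, Function.Bijective (ev Z) := fun Z => by
    let e := DerivedCategory.Q.objObjPreimageIso Z
    have h := hQ (DerivedCategory.Q.objPreimage Z)
    have he : ∀ b, ev Z b = inv ((DCoh.LTensorCx E).map e.hom) ≫ ev _ (e.hom ≫ b) := fun b => by
      simp [ev]
    refine ⟨fun b₁ b₂ hb => ?_, fun g => ?_⟩
    · rw [he, he] at hb
      exact (cancel_epi e.hom).1 (h.1 ((cancel_epi _).1 hb))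
    · obtain ⟨b, hb⟩ := h.2 ((DCoh.LTensorCx E).map e.hom ≫ g)
      refine ⟨e.inv ≫ b, ?_⟩
      rw [he, e.hom_inv_id_assoc, hb, IsIso.inv_hom_id_assoc]
  exact hall Z₀

theorem isIso_toR (hK : DCoh.IsKFlat K) (I : CochainComplex X.Modules ℤ) [I.IsKInjective] : IsIso ((toR K).app I) := by
  let α := (DCoh.tensorCxQ K).totalLeftDerivedCounit DerivedCategory.Q
    (HomologicalComplex.quasiIso X.Modules (ComplexShape.up ℤ))
  let ε₀ := α.app ((homCx K).obj I) ≫ DerivedCategory.Q.map ((homCxAdj K).counit.app I)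
  have := isKInjective_homCx hK I
  let u := (toR K).app I
  have key : ∀ {Z : DCoh.D X} (b : Z ⟶ DerivedCategory.Q.obj ((homCx K).obj I)),
      ((DCoh.RSheafHomAdj K).homEquiv _ _).symm (b ≫ u) = (DCoh.LTensorCx K).map b ≫ ε₀ := fun {Z} b => by
    rw [Adjunction.homEquiv_naturality_left_symm]
    exact congrArg (_ ≫ ·) (Equiv.symm_apply_apply _ _)
  refine (CategoryTheory.isIso_iff_yoneda_map_bijective _).2 fun Z => ?_
  have hb : Function.Bijective fun b : Z ⟶ DerivedCategory.Q.obj ((homCx K).obj I) =>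
      (DCoh.LTensorCx K).map b ≫ ε₀ := bijective_ev K hK I Z
  exact (Function.Bijective.of_comp_iff' (((DCoh.RSheafHomAdj K).homEquiv _ _).symm.bijective) _).1 (by
    convert hb using 1
    exact funext fun b => key b)

variable (J : CochainComplex X.Modules ℤ)

/-- `psi` with no resolution, natural in the first complex. -/
def psiNat : (tensR ((homCx K).obj J)) ⋙ DerivedCategory.Q ⟶ tensR J ⋙ homCx K ⋙ DerivedCategory.Q where
  app A := DerivedCategory.Q.map (psi A J (𝟙 _) K)
  naturality {A A'} a :=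
    (DerivedCategory.Q.map_comp _ _).symm.trans ((congrArg DerivedCategory.Q.map (psi_natural₁ a J K)).trans
      (DerivedCategory.Q.map_comp _ _))

/-- The comparison `- ⊗^L Hom(K, J) ⟶ RHom(K, - ⊗ J)`. -/
def theta [DCoh.HasLTensorCx ((homCx K).obj J)] :
    (kff X).ι ⋙ DerivedCategory.Q ⋙ DCoh.LTensorCx ((homCx K).obj J) ⟶
      (kff X).ι ⋙ tensR J ⋙ DerivedCategory.Q ⋙ DCoh.RSheafHom K :=
  Functor.whiskerLeft (kff X).ι
    (((DCoh.tensorCxQ ((homCx K).obj J)).totalLeftDerivedCounit DerivedCategory.Q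
      (HomologicalComplex.quasiIso X.Modules (ComplexShape.up ℤ))) ≫ psiNat K J ≫
      Functor.whiskerLeft (tensR J) (toR K))

theorem isIso_theta_app [DCoh.HasLTensorCx ((homCx K).obj J)] [J.IsKInjective] (hK : DCoh.IsKFlat K)
    (hKp : DCoh.IsPerfect (DerivedCategory.Q.obj K)) (A : (kff X).FullSubcategory) : IsIso ((theta K J).app A) := by
  obtain ⟨hA, hA'⟩ := A.property
  obtain ⟨B, β, hβ, hB, -⟩ :=
    KInj.exists_kInjective_resolution (A := X.Modules) (((DCoh.tensorCx (X := X)).obj A.obj).obj J)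
  haveI : QuasiIso β := hβ
  haveI := hB
  have hn := (toR K).naturality β
  have h1 : IsIso (((DCoh.tensorCxQ ((homCx K).obj J)).totalLeftDerivedCounit DerivedCategory.Q
      (HomologicalComplex.quasiIso X.Modules (ComplexShape.up ℤ))).app A.obj) :=
    (cxResolvable_tensor ((homCx K).obj J)).isIso_app_of_isLeftDerivedFunctor (DCoh.LTensorCx _) _ hA
  have h2 : IsIso ((toR K).app B) := isIso_toR K hK B
  have h3 : IsIso ((DCoh.RSheafHom K).map (DerivedCategory.Q.map β)) :=
    map_isIso_of (DCoh.RSheafHom K) inferInstance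
  have hp : psi A.obj J (𝟙 _) K ≫ (homCx K).map β = psi A.obj J β K := by
    rw [psi, psi, ← Adjunction.homEquiv_naturality_right]
    refine congrArg ((homCxAdj K).homEquiv _ _) ?_
    exact (Category.assoc _ _ _).trans (congrArg (_ ≫ ·) ((Category.assoc _ _ _).trans
      (congrArg (_ ≫ ·) (Category.id_comp _))))
  have h4 : IsIso (DerivedCategory.Q.map (psi A.obj J β K)) :=
    @isIso_Q_psi X A.obj J B β ‹J.IsKInjective› hB hβ hA hA' K hK hKp
  have e : (DerivedCategory.Q.map (psi A.obj J (𝟙 _) K) ≫ (toR K).app ((tensR J).obj A.obj)) ≫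
      (DCoh.RSheafHom K).map (DerivedCategory.Q.map β) =
        DerivedCategory.Q.map (psi A.obj J β K) ≫ (toR K).app B :=
    (Category.assoc _ _ _).trans ((congrArg (_ ≫ ·) hn.symm).trans ((Category.assoc _ _ _).symm.trans
      (congrArg (· ≫ _) ((DerivedCategory.Q.map_comp _ _).symm.trans (congrArg DerivedCategory.Q.map hp)))))
  exact @IsIso.comp_isIso _ _ _ _ _ _ _ h1
    (@IsIso.of_isIso_fac_right _ _ _ _ _ _ _ _ h3 (@IsIso.comp_isIso _ _ _ _ _ _ _ h4 h2) e)

/-- `A = A ⊗ J` for K-flat `A` and a resolution `J` of `O`. -/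
def etaIso (i₀ : unitCx X ⟶ J) [QuasiIso i₀] :
    (kff X).ι ⋙ DerivedCategory.Q ≅ (kff X).ι ⋙ tensR J ⋙ DerivedCategory.Q :=
  NatIso.ofComponents (fun A =>
    (DerivedCategory.Q.mapIso (singleUnitNatIso.app A.obj)).symm ≪≫
      @asIso _ _ _ _ (DerivedCategory.Q.map (((DCoh.tensorCx (X := X)).obj A.obj).map i₀))
        (have := quasiIso_tensor_map_of_isKFlat i₀ A.obj A.property.1
         inferInstance))
    (fun {A A'} a => by
      have h1 := singleUnitNatIso.inv.naturality a.hom
      have h2 := (((DCoh.tensorCx (X := X)).map a.hom).naturality i₀)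
      have h1' := congrArg DerivedCategory.Q.map h1
      have h2' := congrArg DerivedCategory.Q.map h2
      rw [Functor.map_comp, Functor.map_comp] at h1' h2'
      exact (Category.assoc _ _ _).symm.trans ((congrArg (· ≫ _) h1').trans ((Category.assoc _ _ _).trans
        ((congrArg (_ ≫ ·) h2'.symm).trans (Category.assoc _ _ _).symm))))

/-- **`- ⊗^L D = RHom(K, -)`, naturally, for `K` perfect with dual `D`.** -/
theorem nonempty_ltensor_dual_natIso (D : CochainComplex X.Modules ℤ) (hK : DCoh.IsKFlat K)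
    (hKp : DCoh.IsPerfect (DerivedCategory.Q.obj K)) [DCoh.HasLTensorCx D]
    (i : DerivedCategory.Q.obj D ≅
      (DCoh.RSheafHom K).obj ((DerivedCategory.singleFunctor X.Modules 0).obj (Coh.structureModule X))) :
    Nonempty (DCoh.LTensorCx D ≅ DCoh.RSheafHom K) := by
  obtain ⟨J, i₀, hi₀, hJ, -⟩ := KInj.exists_kInjective_resolution (A := X.Modules) (unitCx X)
  haveI := hi₀
  haveI := hJ
  obtain ⟨vJ⟩ := nonempty_RSheafHom_value K hK J
  haveI := hasLTensorCx ((homCx K).obj J)
  let iH : DerivedCategory.Q.obj D ≅ DerivedCategory.Q.obj ((homCx K).obj J) :=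
    i ≪≫ (DCoh.RSheafHom K).mapIso ((unitCxQIso X).symm ≪≫ asIso (DerivedCategory.Q.map i₀)) ≪≫ vJ
  obtain ⟨c⟩ := nonempty_ltensorCx_congr_of_iso iH
  haveI : ∀ A, IsIso ((theta K J).app A) := isIso_theta_app K J hK hKp
  haveI := NatIso.isIso_of_isIso_app (theta K J)
  obtain ⟨t⟩ := nonempty_descend (asIso (theta K J) ≪≫ Functor.isoWhiskerRight (etaIso J i₀).symm (DCoh.RSheafHom K))
  exact ⟨c ≪≫ t⟩

/-- Maps out of `K` are sections of `D ⊗^L -`. -/
theorem nonempty_homO {K' D : CochainComplex X.Modules ℤ} [DCoh.HasLTensorCx K'] [DCoh.HasRSheafHom K']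
    [DCoh.HasLTensorCx D] (hK : DCoh.IsKFlat K') (hKp : DCoh.IsPerfect (DerivedCategory.Q.obj K'))
    (i : DerivedCategory.Q.obj D ≅
      (DCoh.RSheafHom K').obj ((DerivedCategory.singleFunctor X.Modules 0).obj (Coh.structureModule X))) :
    Nonempty (coyoneda.obj (Opposite.op (DerivedCategory.Q.obj K')) ≅
      DCoh.LTensorCx D ⋙ coyoneda.obj (Opposite.op (DerivedCategory.Q.obj (unitCx X)))) := by
  obtain ⟨τ⟩ := nonempty_ltensor_dual_natIso K' D hK hKp i
  obtain ⟨t⟩ := Detect22.nonempty_ltensor_unit K'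
  exact ⟨NatIso.ofComponents (fun N => ((t.homFromEquiv (Z := N)).trans
      ((((DCoh.RSheafHomAdj K').homEquiv _ _).trans ((τ.app N).symm.homToEquiv)))).toIso) fun {N N'} g => by
    ext x
    show ((DCoh.RSheafHomAdj K').homEquiv _ _ (t.inv ≫ x ≫ g)) ≫ τ.inv.app N' =
      (((DCoh.RSheafHomAdj K').homEquiv _ _ (t.inv ≫ x)) ≫ τ.inv.app N) ≫ (DCoh.LTensorCx D).map g
    rw [← Category.assoc t.inv, Adjunction.homEquiv_naturality_right, Category.assoc, Category.assoc]
    exact congrArg (_ ≫ ·) (τ.inv.naturality g)⟩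

end GrothLib.RightAdj20
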