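import Groth.Agent.Lib.RelAmp22.BaseChange
import Groth.Agent.Lib.ShriekBridge22.SelfHom
import Groth.Agent.Lib.ShriekBridge22.PerfShriek
import Groth.Agent.Lib.HomBC22.Linear

/-! # Squares, charts and base change -/

set_option autoImplicit false
set_option maxHeartbeats 1000000
set_option linter.style.haveILetI false
universe u

open CategoryTheory CategoryTheory.Limits AlgebraicGeometry HomologicalComplex GrothLib.OX

attribute [local instance] HasDerivedCategory.standard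

noncomputable section

namespace GrothLib.RightAdj20

variable {X S X' S' : Scheme.{u}}

/-- Derived inverse image commutes with restriction along open immersions. -/
theorem nonempty_resD_lpull_square {U U' : Scheme.{u}} (q : X' ⟶ X) [DCoh.HasLpull q] (j' : U' ⟶ X')
    [IsOpenImmersion j'] (j : U ⟶ X) [IsOpenImmersion j] (k : U' ⟶ U) [DCoh.HasLpull k] (w : k ≫ j = j' ≫ q) :
    Nonempty (DCoh.Lpull q ⋙ resD j' ≅ resD j ⋙ DCoh.Lpull k) := by
  haveI : DCoh.HasRpush q := KInj.hasRightDerivedFunctor _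
  haveI : DCoh.HasRpush k := KInj.hasRightDerivedFunctor _
  obtain ⟨b⟩ := nonempty_lpullAdj q
  obtain ⟨b'⟩ := nonempty_lpullAdj k
  exact ⟨((b.ofNatIsoRight (rpushIsoRres q)).comp (resDAdj j')).leftAdjointUniq
    (((resDAdj j).comp (b'.ofNatIsoRight (rpushIsoRres k))).ofNatIsoRight
      (RRCompIso k j ≪≫ RRCongr w ≪≫ (RRCompIso j' q).symm))⟩

/-- Relative perfectness is stable under base change along any cartesian square. -/
theorem relPerf_of_isPullback {q : X' ⟶ X} {f' : X' ⟶ S'} {f : X ⟶ S} {g : S' ⟶ S} (hsq : IsPullback q f' f g)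
    [Flat f] [DCoh.HasLpull q] {K : DCoh.D X} (hK : RelAmp22.RelPerf f K) :
    RelAmp22.RelPerf f' ((DCoh.Lpull q).obj K) := by
  refine ⟨fun m => isPseudoCoherent_lpull _ (hK.1 m), ?_⟩
  haveI : Flat f' := MorphismProperty.of_isPullback (P := @Flat) hsq ‹Flat f›
  obtain ⟨P, hP, ⟨e⟩⟩ := exists_kflat_rep K
  obtain ⟨v⟩ := lpull_value q P hP
  refine (RelAmp22.locHasFiniteRelTorDim_iff f' _).2 fun x' => ?_
  obtain ⟨V, a, b, hx, hV⟩ := (RelAmp22.locHasFiniteRelTorDim_iff f K).1 hK.2 (q x')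
  refine ⟨q ⁻¹ᵁ V, a, b, hx, fun y hy => ?_⟩
  let P₀ := (DCoh.restrictCx V).obj P
  let eV : DerivedCategory.Q.obj P₀ ≅ (resD V.ι).obj K :=
    ((resDFac V.ι).app P).symm ≪≫ (resD V.ι).mapIso e
  have hF : DerSch.HasTorAmplitude (V.ι ≫ f) a b P₀ :=
    (RelAmp22.hasTorAmplitude_iff (V.ι ≫ f) a b P₀).2 fun z =>
      RelAmp22.ampAt_of_iso _ eV.symm ((RelAmp22.ampAt_resD_iff f V.ι K z).2 (hV _ z.2))
  have HY : IsPullback g (𝟙 S') (𝟙 S) g := IsPullback.of_vert_isIso ⟨by simp⟩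
  have H : IsPullback (q ∣_ V) ((q ⁻¹ᵁ V).ι ≫ f') (V.ι ≫ f) g :=
    (isPullback_morphismRestrict q V).paste_vert hsq
  haveI := hasLpull (q ∣_ V)
  haveI : Flat ((V.ι ≫ f) ≫ 𝟙 S) := inferInstance
  have hD := GrothLib.KSix19.hasTorAmplitudeD_lpull_flat_base HY H hF
  obtain ⟨w⟩ := lpull_value (q ∣_ V) P₀ (isKFlat_restrictCx V hP)
  have h1 := (RelAmp22.hasTorAmplitude_iff ((q ⁻¹ᵁ V).ι ≫ f') a b _).1
    (hD ((pullCxF (q ∣_ V)).obj P₀) ⟨w.symm⟩) ⟨y, hy⟩
  exact (RelAmp22.ampAt_resD_iff f' (q ⁻¹ᵁ V).ι _ ⟨y, hy⟩).1 (RelAmp22.ampAt_of_iso _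
    ((DerivedCategory.Q.mapIso (pullSquareCxIso q V P)).symm ≪≫
      ((resDFac (q ⁻¹ᵁ V).ι).app ((pullCxF q).obj P)).symm ≪≫
      (resD (q ⁻¹ᵁ V).ι).mapIso (v.symm ≪≫ (DCoh.Lpull q).mapIso e)) h1)

/-- Relative perfectness is local on the source and may be read on an open of the base. -/
theorem relPerf_of_opens (f : X ⟶ S) [Flat f] {K : DCoh.D X}
    (h : ∀ x : X, ∃ (U T : Scheme.{u}) (j : U ⟶ X) (_ : IsOpenImmersion j) (i : T ⟶ S) (_ : IsOpenImmersion i)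
      (f₀ : U ⟶ T) (_ : Flat f₀), f₀ ≫ i = j ≫ f ∧ x ∈ Set.range j ∧ RelAmp22.RelPerf f₀ ((resD j).obj K)) :
    (∀ m : ℤ, DCoh.IsPseudoCoherentD m K) ∧ DCoh.LocHasFiniteRelTorDim f K := by
  refine ⟨fun m => isPseudoCoherentD_of_local fun x => ?_, (RelAmp22.locHasFiniteRelTorDim_iff f K).2 fun x => ?_⟩
  · obtain ⟨U, T, j, hj, i, hi, f₀, hf₀, w, hx, hK⟩ := h x
    exact ⟨U, j, hj, hx, hK.1 m⟩
  · obtain ⟨U, T, j, hj, i, hi, f₀, hf₀, w, ⟨y, rfl⟩, hK⟩ := h x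
    haveI := hj
    haveI := hi
    obtain ⟨W, a, b, hy, hW⟩ := (RelAmp22.locHasFiniteRelTorDim_iff f₀ _).1 hK.2 y
    refine ⟨j ''ᵁ W, a, b, ⟨y, hy, rfl⟩, ?_⟩
    rintro z ⟨z', hz', rfl⟩
    refine (RelAmp22.ampAt_resD_iff f j K z').1 ?_
    rw [← w]
    exact (RelAmp22.ampAt_comp_openImmersion f₀ i _ z').2 (hW z' hz')

open ShriekBridge22 in
/-- **`O → RHom(E, E)` is an isomorphism when `E` is simple on a basis of affine charts.** -/
theorem isIso_transpose_of_charts [∀ (R : CommRingCat.{u}), PreservesFiniteLimits (tilde.functor R)]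
    (E : CochainComplex X.Modules ℤ) [DCoh.HasLTensorCx E] [DCoh.HasRSheafHom E]
    (υ : (DCoh.LTensorCx E).obj (DCoh.inD X (Coh.structureModule X)) ≅ DCoh.toD X E)
    (h : ∀ (T : X.Opens) (x : X), x ∈ T → ∃ (B : Type u) (_ : CommRing B) (j : Spec (CommRingCat.of B) ⟶ X)
      (_ : IsOpenImmersion j), x ∈ Set.range j ∧ j.opensRange ≤ T ∧ ∃ M : Dual.D B,
        (Function.Bijective fun b : B => b • 𝟙 M) ∧ (∀ i : ℤ, i ≠ 0 → Subsingleton (M ⟶ M⟦i⟧)) ∧
        Nonempty ((resD j).obj (DCoh.toD X E) ≅ (DCoh.tildeD (CommRingCat.of B)).obj M)) :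
    IsIso (((DCoh.RSheafHomAdj E).homEquiv (DCoh.inD X (Coh.structureModule X)) (DCoh.toD X E)) υ.hom) := by
  refine isIso_of_hom_gen_basis _ (fun W => ∃ (B : Type u) (_ : CommRing B) (j : Spec (CommRingCat.of B) ⟶ X)
      (_ : IsOpenImmersion j), j.opensRange = W ∧ ∃ M : Dual.D B,
        (Function.Bijective fun b : B => b • 𝟙 M) ∧ (∀ i : ℤ, i ≠ 0 → Subsingleton (M ⟶ M⟦i⟧)) ∧
        Nonempty ((resD j).obj (DCoh.toD X E) ≅ (DCoh.tildeD (CommRingCat.of B)).obj M))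
    (fun T x hx => ?_) fun W hW k => bijective_comp_transpose (DCoh.RSheafHomAdj E) υ ?_
  · obtain ⟨B, _, j, hj, hxj, hjT, hM⟩ := h T x hx
    exact ⟨j.opensRange, ⟨B, _, j, hj, rfl, hM⟩, hxj, hjT⟩
  obtain ⟨B, _, j, hj, hjW, M, hM, hM', ⟨eM⟩⟩ := hW
  haveI := hj
  haveI := hasLTensorCx ((resCx j).obj E)
  let U := Spec (CommRingCat.of B)
  let A := (DerivedCategory.singleFunctor U.Modules k).obj (Coh.structureModule U)
  let ζ : (CxOX.extZeroD j).obj A ≅ (DerivedCategory.singleFunctor X.Modules k).obj ((genF X).obj W) :=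
    ((CxOX.extZero j).mapDerivedCategorySingleFunctor k).app _ ≪≫ (DerivedCategory.singleFunctor X.Modules k).mapIso
      ((CxOX.extZero j).mapIso (genTopIso U).symm ≪≫ (extZeroGenIso' j ⊤).symm ≪≫
        (genF X).mapIso (eqToIso (show j ''ᵁ ⊤ = W from (Scheme.Hom.image_top_eq_opensRange _).trans hjW)))
  obtain ⟨eN⟩ := BCPerf20.nonempty_resD_inD j (Coh.structureModule X)
  obtain ⟨eU⟩ := nonempty_inD_iso_tildeD (B := B)
  have hb := bijective_map_extZero j E (A := A) (M := DCoh.inD X (Coh.structureModule X))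
    (bijective_map_affine ((resCx j).obj E) hM hM' (((resDFac j).app E).symm ≪≫ eM)
      (eN ≪≫ (DerivedCategory.singleFunctor U.Modules 0).mapIso (OX.pullUnitIso j) ≪≫ eU) k)
  let F := DCoh.LTensorCx E
  have key : (fun z : (DerivedCategory.singleFunctor X.Modules k).obj ((genF X).obj W) ⟶
      DCoh.inD X (Coh.structureModule X) => F.map z) =
      (fun t => F.map ζ.inv ≫ t) ∘ (fun z => F.map z) ∘ (fun z => ζ.hom ≫ z) := funext fun z => by
    simp [← Functor.map_comp]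
  rw [key]
  exact Function.Bijective.comp ⟨fun a b hab => (cancel_epi (F.map ζ.inv)).1 hab, fun b => ⟨F.map ζ.hom ≫ b, by
    simp [← Functor.map_comp_assoc]⟩⟩ (hb.comp ⟨fun a b hab => (cancel_epi ζ.hom).1 hab, fun b => ⟨ζ.inv ≫ b, by simp⟩⟩)

end GrothLib.RightAdj20
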