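import Groth.Agent.Lib.RightAdj20.RestrictHeart
import Groth.Agent.Lib.OX.AffinePushNat
import Groth.Agent.Lib.ShriekBridge22.SelfHom
import Groth.Agent.Lib.KSix19.ProjPush.Detect
import Groth.Agent.Lib.HomBC22.Linear
import Groth.Agent.Lib.ShriekBridge22.PerfShriek

/-! # Maps of direct images on affine schemes commuting with scalars -/

set_option autoImplicit false
set_option maxHeartbeats 1000000
set_option linter.style.haveILetI false
set_option backward.isDefEq.respectTransparency false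
universe u

open CategoryTheory CategoryTheory.Limits AlgebraicGeometry GrothLib.OX

attribute [local instance] HasDerivedCategory.standard

noncomputable section

namespace GrothLib.RightAdj20

variable {R A : Type u} [CommRing R] [CommRing A] (φ : R →+* A)

local notation "SA" => Spec (CommRingCat.of A)
local notation "π" => Spec.map (CommRingCat.ofHom φ)

theorem chain_comm {C : Type*} [Category C] {x a b c d y : C} (p : x ⟶ a) (i : a ⟶ b) (D : b ⟶ c) (j : c ⟶ d)
    (q : d ⟶ y) {sa : a ⟶ a} {sb : b ⟶ b} {sc : c ⟶ c} {sd : d ⟶ d} (e1 : sa ≫ i = i ≫ sb) (h : sb ≫ D = D ≫ sc)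
    (e2 : sc ≫ j = j ≫ sd) : p ≫ sa ≫ i ≫ D ≫ j ≫ q = p ≫ i ≫ D ≫ j ≫ sd ≫ q := by
  rw [reassoc_of% e1, reassoc_of% h, reassoc_of% e2]

theorem exists_RR_map_of_equivariant {K N : DCoh.D SA} (hK : DCoh.IsQCohD K) [K.IsLE 0]
    (eN : N ≅ DCoh.inD SA (Coh.structureModule SA)) (D : (RR π).obj K ⟶ (RR π).obj N)
    (h : ∀ s : A, (RR π).map (s • 𝟙 K) ≫ D = D ≫ (RR π).map (s • 𝟙 N)) :
    ∃ d : K ⟶ N, (RR π).map d = D := by
  haveI : ∀ B : CommRingCat.{u}, PreservesFiniteLimits (tilde.functor B) := OX.preservesFiniteLimits_tildeGen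
  haveI := (tildeD_full_faithful_essImage (R := CommRingCat.of A)).2.1
  haveI := (tildeD_full_faithful_essImage (R := CommRingCat.of R)).1
  haveI := (tildeD_full_faithful_essImage (R := CommRingCat.of R)).2.1
  obtain ⟨M, ⟨eK⟩⟩ := (tildeD_full_faithful_essImage (R := CommRingCat.of A)).2.2 K hK
  obtain ⟨eO⟩ := ShriekBridge22.nonempty_inD_iso_tildeD (B := A)
  haveI := OX.faithful_tildeGen (CommRingCat.of A)
  haveI : M.IsLE 0 := (DerivedCategory.isLE_iff _ _).2 fun i hi =>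
    (IsZero.iff_id_eq_zero _).2 ((tilde.functor (CommRingCat.of A)).map_injective
      (((DerivedCategory.isZero_of_isLE K 0 i hi).of_iso ((HDTildeIso M i).symm ≪≫
        (DerivedCategory.homologyFunctor _ i).mapIso eK)).eq_of_src _ _))
  let ρ := RRTildeIso (CommRingCat.ofHom φ)
  let T := DCoh.tildeD (CommRingCat.of A)
  let T₀ := DCoh.tildeD (CommRingCat.of R)
  let R₀ := DRing.restrictD φ
  let eN' : T.obj (Dual.inD A A) ≅ N := eO.symm ≪≫ eN.symm
  have hρ : ∀ {P P' : Dual.D A} (f : P ⟶ P'), T₀.map (R₀.map f) = ρ.inv.app P ≫ (RR π).map (T.map f) ≫ ρ.hom.app P' :=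
    fun f => (Iso.eq_inv_comp (ρ.app _)).2 (ρ.hom.naturality f).symm
  obtain ⟨D₀, hD₀⟩ := T₀.map_surjective
    (ρ.inv.app M ≫ (RR π).map eK.hom ≫ D ≫ (RR π).map eN'.inv ≫ ρ.hom.app (Dual.inD A A))
  obtain ⟨d, hd⟩ := exists_map_of_equivariant φ (M := M) (ModuleCat.of A A) D₀ fun s => by
    apply T₀.map_injective
    rw [T₀.map_comp, T₀.map_comp, hρ, hρ, hD₀]
    simp only [Category.assoc, Iso.hom_inv_id_app_assoc]
    rw [ShriekBridge22.tildeD_map_smul_id, ShriekBridge22.tildeD_map_smul_id]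
    have e1 : (RR π).map (s • 𝟙 (T.obj M)) ≫ (RR π).map eK.hom = (RR π).map eK.hom ≫ (RR π).map (s • 𝟙 K) := by
      rw [← Functor.map_comp, ← Functor.map_comp, Linear.smul_comp, Category.id_comp, Linear.comp_smul,
        Category.comp_id]
    have e2 : (RR π).map (s • 𝟙 N) ≫ (RR π).map eN'.inv = (RR π).map eN'.inv ≫ (RR π).map (s • 𝟙 (T.obj (Dual.inD A A))) := by
      rw [← Functor.map_comp, ← Functor.map_comp, Linear.smul_comp, Category.id_comp, Linear.comp_smul,
        Category.comp_id]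
    exact chain_comm _ _ _ _ _ e1 (h s) e2
  refine ⟨eK.inv ≫ T.map d ≫ eN'.hom, ?_⟩
  have h2 : (RR π).map (T.map d) = ρ.hom.app M ≫ T₀.map (R₀.map d) ≫ ρ.inv.app (Dual.inD A A) := by
    exact (NatIso.naturality_2 ρ d).symm
  rw [Functor.map_comp, Functor.map_comp, h2, show R₀.map d = D₀ from hd, hD₀]
  simp only [Category.assoc, Iso.hom_inv_id_app_assoc]
  rw [← (RR π).map_comp eN'.inv, eN'.inv_hom_id, CategoryTheory.Functor.map_id,
    Category.comp_id, ← (RR π).map_comp_assoc, eK.inv_hom_id, CategoryTheory.Functor.map_id, Category.id_comp]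

/-- Maps commuting with scalars out of `Rπ_* Lπ^* Q` are determined on `Q`. -/
theorem eq_of_equivariant {L : DCoh.D (Spec (CommRingCat.of R)) ⥤ DCoh.D SA} (adj : L ⊣ RR π)
    (Q : DCoh.D (Spec (CommRingCat.of R))) (hQ : DCoh.IsQCohD (L.obj Q)) [(L.obj Q).IsLE 0]
    {N : DCoh.D SA} (eN : N ≅ DCoh.inD SA (Coh.structureModule SA))
    (D D' : (RR π).obj (L.obj Q) ⟶ (RR π).obj N)
    (h : ∀ s : A, (RR π).map (s • 𝟙 (L.obj Q)) ≫ D = D ≫ (RR π).map (s • 𝟙 N))
    (h' : ∀ s : A, (RR π).map (s • 𝟙 (L.obj Q)) ≫ D' = D' ≫ (RR π).map (s • 𝟙 N))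
    (hu : adj.unit.app Q ≫ D = adj.unit.app Q ≫ D') : D = D' := by
  obtain ⟨d, rfl⟩ := exists_RR_map_of_equivariant φ hQ eN D h
  obtain ⟨d', rfl⟩ := exists_RR_map_of_equivariant φ hQ eN D' h'
  exact congrArg _ ((adj.homEquiv _ _).injective
    ((adj.homEquiv_unit _ _ _).trans (hu.trans (adj.homEquiv_unit _ _ _).symm)))

end GrothLib.RightAdj20
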