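import Groth.Agent.Lib.RightAdj22.Main
import Groth.Agent.Lib.RightAdj22.Proj
import Groth.Agent.Lib.TorBC25.Perfect
import Groth.Agent.Lib.BaseChange22.Square
import Groth.Agent.Lib.OX.TensorScalar
import Groth.Agent.Lib.HomBC22.Linear

/-! # The relative dual of a base change, compatibly with scalars -/

set_option autoImplicit false
set_option maxHeartbeats 2000000
set_option linter.style.haveILetI false
set_option backward.isDefEq.respectTransparency false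
universe u

open CategoryTheory CategoryTheory.Limits AlgebraicGeometry GrothLib.OX

attribute [local instance] HasDerivedCategory.standard

noncomputable section

namespace GrothLib.RightAdj20

variable {A : Type u} [CommRing A]

/-- Tensoring commutes with scalars on all objects. -/
theorem ltensorCx_map_smul {X : Scheme.{u}} [X.Over (Spec (CommRingCat.of A))] (E : CochainComplex X.Modules ℤ)
    [DCoh.HasLTensorCx E] (a : A) (Z : DCoh.D X) :
    (DCoh.LTensorCx E).map (a • 𝟙 Z) = a • 𝟙 _ := by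
  obtain ⟨P, hP, ⟨e⟩⟩ := exists_kflat_rep Z
  let F := DCoh.LTensorCx E
  have h : a • 𝟙 Z = e.inv ≫ (a • 𝟙 (DerivedCategory.Q.obj P)) ≫ e.hom := by
    rw [Linear.smul_comp, Category.id_comp, Linear.comp_smul, e.inv_hom_id]
  rw [h, F.map_comp, F.map_comp, ltensorCx_map_smul_id (A := A) E a P hP, Linear.smul_comp, Category.id_comp, Linear.comp_smul,
    ← F.map_comp, e.inv_hom_id, CategoryTheory.Functor.map_id]

/-- Flat inverse image commutes with scalars of the base. -/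
theorem lpull_map_smul_of_isOver {X Y : Scheme.{u}} [X.Over (Spec (CommRingCat.of A))]
    [Y.Over (Spec (CommRingCat.of A))] (f : X ⟶ Y) [f.IsOver (Spec (CommRingCat.of A))] [Flat f] [DCoh.HasLpull f]
    (a : A) {K L : DCoh.D Y} (χ : K ⟶ L) : (DCoh.Lpull f).map (a • χ) = a • (DCoh.Lpull f).map χ := by
  haveI := OX.additive_pullback f
  haveI := preservesFiniteLimits_pullback_of_flat f
  haveI : (Scheme.Modules.pushforward f).Additive :=
    (Scheme.Modules.pullbackPushforwardAdjunction f).right_adjoint_additive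
  obtain ⟨l⟩ := DualRing.nonempty_lpull_flat f
  refine HomBC22.map_smul_of_natIso l a a (fun χ => LinAdj.mapDerived_map_smul (Scheme.Modules.pullback f) a a
    (fun χ => ?_) χ) χ
  haveI := LinAdj.linear_of_rightAdjoint (R := A) (Scheme.Modules.pullbackPushforwardAdjunction f)
  exact Functor.map_smul _ _ _

theorem conj_comm {C : Type*} [Category C] {W W₁ W₂ : C} (i : W ⟶ W₁) (j : W₁ ⟶ W₂) {sW : W ⟶ W} {s₁ : W₁ ⟶ W₁}
    {s₂ : W₂ ⟶ W₂} (h₁ : sW ≫ i = i ≫ s₁) (h₂ : s₁ ≫ j = j ≫ s₂) : sW ≫ (i ≫ j) = (i ≫ j) ≫ s₂ := by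
  rw [reassoc_of% h₁, h₂, Category.assoc]

variable {X X₀ S₀ : Scheme.{u}} {p : X₀ ⟶ S₀} {π : Spec (CommRingCat.of A) ⟶ S₀} {q : X ⟶ X₀}
  {f : X ⟶ Spec (CommRingCat.of A)}

/-- `a₀ (Rπ_* O)` is `Rq_* Lq^*` of the relative dual, compatibly with the scalars. -/
theorem exists_psi [CompactSpace S₀] [QuasiSeparatedSpace S₀] [IsAffineHom π] [IsProper p] [Flat p]
    [LocallyOfFinitePresentation p] (hsq : IsPullback q f p π) [X.Over (Spec (CommRingCat.of A))]
    [f.IsOver (Spec (CommRingCat.of A))] [DCoh.HasRpush p] (hp : DCoh.RpushPreservesQCoh p)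
    {a₀ : DCoh.DQCoh S₀ ⥤ DCoh.DQCoh X₀} (adj₀ : DCoh.RpushQ p hp ⊣ a₀) (O₀ : DCoh.DQCoh S₀)
    (hO₀ : Nonempty (O₀.obj ≅ DCoh.inD S₀ (Coh.structureModule S₀))) [DCoh.HasRpush π]
    (hπ : DCoh.RpushPreservesQCoh π) [DCoh.HasRpush q] [DCoh.HasLpull q] (O : DCoh.DQCoh (Spec (CommRingCat.of A)))
    (hO : Nonempty (O.obj ≅ DCoh.inD _ (Coh.structureModule (Spec (CommRingCat.of A))))) :
    ∃ ψ : (a₀.obj ((DCoh.RpushQ π hπ).obj O)).obj ≅ (DCoh.Rpush q).obj ((DCoh.Lpull q).obj (a₀.obj O₀).obj),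
      ∀ s : A, (a₀.map ((DCoh.RpushQ π hπ).map (s • 𝟙 O))).hom ≫ ψ.hom =
        ψ.hom ≫ (DCoh.Rpush q).map (s • 𝟙 _) := by
  haveI : CompactSpace X₀ := QuasiCompact.compactSpace_of_compactSpace p
  haveI : QuasiSeparatedSpace X₀ := quasiSeparatedSpace_of_quasiSeparated p
  haveI : IsAffineHom q := MorphismProperty.of_isPullback hsq.flip ‹IsAffineHom π›
  haveI : Flat f := MorphismProperty.of_isPullback (P := @Flat) hsq ‹Flat p›
  haveI := hasLpull p
  haveI := hasLpull f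
  haveI : DCoh.HasRpush f := KInj.hasRightDerivedFunctor _
  obtain ⟨P₀, hP₀, ⟨eP₀⟩⟩ := exists_kflat_rep (a₀.obj O₀).obj
  haveI := hasLTensorCx P₀
  haveI := hasLTensorCx ((pullCxF q).obj P₀)
  obtain ⟨Φ⟩ := RightAdj22.nonempty_iso p hp adj₀ (fun J => RightAdj22.preservesColimitsOfShape adj₀
    (fun P hP => isPerfect_of_iso (TorBC25.isPerfect_RR p hP) ((rpushIsoRres p).app P.obj).symm) J) O₀ hO₀ P₀ ⟨eP₀⟩
  obtain ⟨cp⟩ := nonempty_lpullAdj p
  obtain ⟨cf⟩ := nonempty_lpullAdj f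
  let adjp := cp.ofNatIsoRight (rpushIsoRres p)
  let adjf := cf.ofNatIsoRight (rpushIsoRres f)
  have hbc : TorBC25.BC hsq.flip :=
    TorBC25.BC_of_torIndep hsq.flip (BaseChange22.tor_of_flat (Or.inr ‹Flat p›))
  have hP₀q : DCoh.IsQCohD (DerivedCategory.Q.obj P₀) := fun i =>
    isQCoh_of_iso ((DerivedCategory.homologyFunctor _ i).mapIso eP₀.symm) ((a₀.obj O₀).property i)
  obtain ⟨τ⟩ := RightAdj22.nonempty_proj_nat q P₀ hP₀ hP₀q
  let N := O.obj
  let Z := (DCoh.Lpull f).obj N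
  have hZ : DCoh.IsQCohD Z := TorBC25.isQCohD_lpull f O.property
  haveI hth : IsIso (TorBC25.thA hsq.flip adjp adjf N) := hbc _ adjp _ adjf N O.property
  let LT := DCoh.LTensorCx P₀
  let LT' := DCoh.LTensorCx ((pullCxF q).obj P₀)
  -- the tensor product over the base change
  obtain ⟨eO⟩ := hO
  obtain ⟨eU⟩ := SuppTens22.nonempty_ltensor_unit ((pullCxF q).obj P₀)
  obtain ⟨v⟩ := lpull_value q P₀ hP₀
  obtain ⟨w⟩ := lpull_value f (unitCx (Spec (CommRingCat.of A))) (isKFlat_single _ (flat_structureModule _) 0)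
  let eZ : Z ≅ DCoh.inD X (Coh.structureModule X) := (DCoh.Lpull f).mapIso (eO ≪≫ (unitCxQIso _).symm) ≪≫ w ≪≫
    DerivedCategory.Q.mapIso ((HomologicalComplex.singleMapHomologicalComplex (Scheme.Modules.pullback f)
      (ComplexShape.up ℤ) 0).app _ ≪≫ (HomologicalComplex.single X.Modules (ComplexShape.up ℤ) 0).mapIso
        (OX.pullUnitIso f)) ≪≫ unitCxQIso X
  let c₄ : LT'.obj Z ≅ (DCoh.Lpull q).obj (a₀.obj O₀).obj :=
    LT'.mapIso eZ ≪≫ eU ≪≫ v.symm ≪≫ (DCoh.Lpull q).mapIso eP₀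
  let r := rpushIsoRres π
  let rq := rpushIsoRres q
  let i₁ := Φ.app ((DCoh.RpushQ π hπ).obj O)
  let i₂ := (DCoh.Lpull p ⋙ LT).mapIso (r.app N) ≪≫ LT.mapIso (asIso (TorBC25.thA hsq.flip adjp adjf N))
  let i₃ := τ.app (⟨Z, hZ⟩ : (DCoh.IsQCohD (X := X)).FullSubcategory)
  let i₄ := (RR q).mapIso c₄ ≪≫ (rq.app _).symm
  refine ⟨i₁ ≪≫ i₂ ≪≫ i₃ ≪≫ i₄, fun s => ?_⟩
  simp only [Iso.trans_hom]
  refine conj_comm _ _ (Φ.hom.naturality ((DCoh.RpushQ π hπ).map (s • 𝟙 O))) ?_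
  refine conj_comm _ _ (s₁ := LT.map ((RR q).map (s • 𝟙 Z))) ?_ ?_
  · show LT.map ((DCoh.Lpull p).map ((DCoh.Rpush π).map (s • 𝟙 N))) ≫
      (LT.map ((DCoh.Lpull p).map (r.hom.app N)) ≫ LT.map (TorBC25.thA hsq.flip adjp adjf N)) =
      (LT.map ((DCoh.Lpull p).map (r.hom.app N)) ≫ LT.map (TorBC25.thA hsq.flip adjp adjf N)) ≫ _
    simp only [← Functor.map_comp, ← Functor.map_comp_assoc]
    congr 1
    rw [r.hom.naturality, Functor.map_comp, Category.assoc, Category.assoc,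
      TorBC25.thA_naturality hsq.flip adjp adjf, lpull_map_smul_of_isOver f, CategoryTheory.Functor.map_id]
  refine conj_comm _ _ (s₁ := (RR q).map (LT'.map (s • 𝟙 Z))) ?_ ?_
  · exact τ.hom.naturality (ObjectProperty.homMk (s • 𝟙 Z) :
      (⟨Z, hZ⟩ : (DCoh.IsQCohD (X := X)).FullSubcategory) ⟶ ⟨Z, hZ⟩)
  · show (RR q).map (LT'.map (s • 𝟙 Z)) ≫ ((RR q).map c₄.hom ≫ rq.inv.app _) = ((RR q).map c₄.hom ≫ rq.inv.app _) ≫ _
    refine conj_comm _ _ (s₁ := (RR q).map (s • 𝟙 _)) ?_ (rq.inv.naturality (s • 𝟙 _))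
    rw [← Functor.map_comp, ← Functor.map_comp, ltensorCx_map_smul, Linear.smul_comp, Category.id_comp,
      Linear.comp_smul, Category.comp_id]

end GrothLib.RightAdj20
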