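import Groth.Agent.Lib.RightAdj20.MateScalar
import Groth.Agent.Lib.RightAdj20.EquivariantPush
import Groth.Agent.Lib.RightAdj20.ModelPsi
import Groth.Agent.Lib.ShriekBridge22.PosVanish
import Groth.Agent.Lib.ThickDesc6.Pull

/-! # The relative dual of a base change from a noetherian model -/

set_option autoImplicit false
set_option maxHeartbeats 2000000
set_option linter.style.haveILetI false
set_option backward.isDefEq.respectTransparency false
universe u

open CategoryTheory CategoryTheory.Limits AlgebraicGeometry GrothLib.OX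

attribute [local instance] HasDerivedCategory.standard

noncomputable section

namespace GrothLib.RightAdj20

variable {R A : Type u} [CommRing R] [CommRing A] (φ : R →+* A)

/-- **The relative dualizing complex commutes with base change.** -/
theorem nonempty_lpull_adjoint {X X₀ : Scheme.{u}} {p : X₀ ⟶ Spec (CommRingCat.of R)} {q : X ⟶ X₀}
    {f : X ⟶ Spec (CommRingCat.of A)} [IsProper p] [Flat p] [LocallyOfFinitePresentation p]
    (hsq : IsPullback q f p (Spec.map (CommRingCat.ofHom φ))) [DCoh.HasRpush p] (hp : DCoh.RpushPreservesQCoh p)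
    {a₀ : DCoh.DQCoh (Spec (CommRingCat.of R)) ⥤ DCoh.DQCoh X₀} (adj₀ : DCoh.RpushQ p hp ⊣ a₀)
    (O₀ : DCoh.DQCoh (Spec (CommRingCat.of R)))
    (hO₀ : Nonempty (O₀.obj ≅ DCoh.inD _ (Coh.structureModule (Spec (CommRingCat.of R)))))
    [DCoh.HasRpush f] (hf : DCoh.RpushPreservesQCoh f) {a : DCoh.DQCoh (Spec (CommRingCat.of A)) ⥤ DCoh.DQCoh X}
    (adj : DCoh.RpushQ f hf ⊣ a) (O : DCoh.DQCoh (Spec (CommRingCat.of A)))
    (hO : Nonempty (O.obj ≅ DCoh.inD _ (Coh.structureModule (Spec (CommRingCat.of A)))))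
    [DCoh.HasLpull q] : Nonempty ((DCoh.Lpull q).obj (a₀.obj O₀).obj ≅ (a.obj O).obj) := by
  let π : Spec (CommRingCat.of A) ⟶ Spec (CommRingCat.of R) := Spec.map (CommRingCat.ofHom φ)
  haveI : IsAffineHom π := isAffineHom_of_isAffine π
  haveI : IsAffineHom q := MorphismProperty.of_isPullback hsq.flip ‹IsAffineHom π›
  haveI : CompactSpace X₀ := QuasiCompact.compactSpace_of_compactSpace p
  haveI : QuasiSeparatedSpace X₀ := quasiSeparatedSpace_of_quasiSeparated p
  letI : X.Over (Spec (CommRingCat.of A)) := ⟨f⟩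
  haveI : f.IsOver (Spec (CommRingCat.of A)) := ⟨(congrArg (f ≫ ·) (Spec.map_id _)).trans (Category.comp_id f)⟩
  haveI := hasLpull π
  haveI : DCoh.HasRpush π := KInj.hasRightDerivedFunctor _
  haveI : DCoh.HasRpush q := KInj.hasRightDerivedFunctor _
  have hπ : DCoh.RpushPreservesQCoh π := fun K hK i => isQCoh_of_iso
    ((DerivedCategory.homologyFunctor _ i).mapIso ((rpushIsoRres π).app K).symm) (isQCohD_Rres π K hK i)
  have hq : DCoh.RpushPreservesQCoh q := fun K hK i => isQCoh_of_iso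
    ((DerivedCategory.homologyFunctor _ i).mapIso ((rpushIsoRres q).app K).symm) (isQCohD_Rres q K hK i)
  obtain ⟨cπ⟩ := nonempty_lpullAdj π
  obtain ⟨cq⟩ := nonempty_lpullAdj q
  let adjg := BaseChange22.adjQ hπ cπ
  let adjg' := BaseChange22.adjQ hq cq
  obtain ⟨e, he⟩ := BaseChange22.exists_sqQ_bc hp hf hπ hq hsq
    (TorBC25.BC_of_torIndep hsq (BaseChange22.tor_of_flat (Or.inl ‹Flat p›)))
  have hξ := BaseChange22.isIso_xi adj₀ adj e adjg adjg' (fun K => he _ _ adjg adjg' K) O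
  let E := a₀.obj O₀
  obtain ⟨ψ₀, hψ₀⟩ := exists_psi hsq hp adj₀ O₀ hO₀ hπ O hO
  let Z := (Dual3.LpullQ q (fun _ hK => TorBC25.isQCohD_lpull q hK)).obj E
  let ψ : a₀.obj ((DCoh.RpushQ π hπ).obj O) ≅ (DCoh.RpushQ q hq).obj Z :=
    (DCoh.IsQCohD (X := X₀)).isoMk ψ₀
  let Q := (DCoh.RpushQ p hp).obj E
  haveI : Q.obj.IsLE 0 := (DerivedCategory.isLE_iff _ _).2 fun i hi =>
    ShriekBridge22.PosVanish.isZero_HD_Rpush_adjoint p hp adj₀ O₀ hO₀ i hi
  haveI : ((DCoh.Lpull π).obj Q.obj).IsLE 0 := ThickDesc6.isLE_lpull π (K := Q.obj) inferInstance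
  obtain ⟨w, hw⟩ := exists_isIso_map adj₀ adj e adjg adjg' (fun (s : A) (W : DCoh.DQCoh X) => s • 𝟙 W)
    (fun (s : A) (W : DCoh.DQCoh (Spec (CommRingCat.of A))) => s • 𝟙 W)
    (fun s _ _ χ => by rw [Linear.smul_comp, Category.id_comp, Linear.comp_smul, Category.comp_id])
    (fun s _ _ χ => by rw [Linear.smul_comp, Category.id_comp, Linear.comp_smul, Category.comp_id])
    (fun s W => (HomBC22.RpushQ_map_smul f hf s (𝟙 W)).trans (congrArg (s • ·) (CategoryTheory.Functor.map_id _ _)))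
    O E hξ (he _ _ adjg adjg' E) ψ (fun s => ObjectProperty.hom_ext _ (hψ₀ s)) fun D D' hD hD' hu => by
      let r := rpushIsoRres π
      let adjR := cπ.ofNatIsoRight r
      obtain ⟨eO⟩ := hO
      let L := (DCoh.Lpull π).obj Q.obj
      let T : ((DCoh.RpushQ π hπ).obj ⟨L, TorBC25.isQCohD_lpull π Q.property⟩ ⟶ (DCoh.RpushQ π hπ).obj O) →
          ((RR π).obj L ⟶ (RR π).obj O.obj) := fun t => r.inv.app _ ≫ t.hom ≫ r.hom.app _
      have hT : ∀ t, (∀ s : A, (DCoh.RpushQ π hπ).map (s • 𝟙 _) ≫ t = t ≫ (DCoh.RpushQ π hπ).map (s • 𝟙 O)) →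
          ∀ s : A, (RR π).map (s • 𝟙 L) ≫ T t = T t ≫ (RR π).map (s • 𝟙 O.obj) := fun t ht s => by
        have h1 : (DCoh.Rpush π).map (s • 𝟙 L) ≫ t.hom = t.hom ≫ (DCoh.Rpush π).map (s • 𝟙 O.obj) :=
          (have h0 := congrArg (fun m => InducedCategory.Hom.hom m) (ht s); h0)
        simp only [T, Category.assoc]
        rw [← r.hom.naturality, ← reassoc_of% h1]
        exact (r.inv.naturality_assoc (s • 𝟙 L) _)
      have h2 : T D = T D' := by
        refine eq_of_equivariant φ adjR Q.obj (TorBC25.isQCohD_lpull π Q.property) eO _ _ (hT D hD) (hT D' hD') ?_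
        have h3 : cπ.unit.app Q.obj ≫ D.hom = cπ.unit.app Q.obj ≫ D'.hom := by
          rw [← BaseChange22.adjQ_unit_hom hπ cπ Q]
          have h0 := congrArg (fun m => InducedCategory.Hom.hom m) hu
          exact h0
        have h4 : adjR.unit.app Q.obj = cπ.unit.app Q.obj ≫ r.hom.app L := by
          simp [adjR, Adjunction.ofNatIsoRight, L]
        simp only [T]
        rw [h4]
        simp only [Category.assoc]
        rw [Iso.hom_inv_id_app_assoc, Iso.hom_inv_id_app_assoc]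
        exact (Category.assoc _ _ _).symm.trans ((congrArg (· ≫ r.hom.app _) h3).trans (Category.assoc _ _ _))
      refine ObjectProperty.hom_ext _ ?_
      exact (cancel_mono (r.hom.app _)).1 ((cancel_epi (r.inv.app _)).1 h2)
  haveI : IsIso ((DCoh.Rpush q).map w.hom) :=
    inferInstanceAs (IsIso ((DCoh.IsQCohD (X := X₀)).ι.map ((DCoh.RpushQ q hq).map w)))
  haveI : IsIso w.hom := OX.isIso_of_isIso_Rpush q Z.property (a.obj O).property w.hom inferInstance
  exact ⟨asIso w.hom⟩

end GrothLib.RightAdj20
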