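import Groth.Agent.Lib.RightAdj20.RestrictAdjoint
import Groth.Agent.Lib.RightAdj22.QFun

/-! # Right adjoints and isomorphisms of the base -/

set_option autoImplicit false
set_option maxHeartbeats 1000000
set_option linter.style.haveILetI false
set_option backward.isDefEq.respectTransparency false
universe u

open CategoryTheory CategoryTheory.Limits AlgebraicGeometry GrothLib.OX

attribute [local instance] HasDerivedCategory.standard

noncomputable section

namespace GrothLib.RightAdj20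

variable {U V S : Scheme.{u}} (g : U ⟶ V) (σ : V ≅ S) [DCoh.HasRpush g] [DCoh.HasRpush (g ≫ σ.hom)]

/-- The right adjoint after an isomorphism of the base. -/
theorem nonempty_adjoint_comp_iso (hg : DCoh.RpushPreservesQCoh g) {aV : DCoh.DQCoh V ⥤ DCoh.DQCoh U}
    (adjV : DCoh.RpushQ g hg ⊣ aV) (hg' : DCoh.RpushPreservesQCoh (g ≫ σ.hom))
    {a' : DCoh.DQCoh S ⥤ DCoh.DQCoh U} (adj' : DCoh.RpushQ (g ≫ σ.hom) hg' ⊣ a') (K : DCoh.DQCoh S) :
    Nonempty ((aV.obj ⟨(resD σ.hom).obj K.obj, isQCohD_resD σ.hom K.property⟩).obj ≅ (a'.obj K).obj) := by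
  let K' : DCoh.DQCoh V := ⟨(resD σ.hom).obj K.obj, isQCohD_resD σ.hom K.property⟩
  let A := resDAdj σ.hom
  haveI : IsIso A.unit := RightAdj22.isIso_unit_of_iso σ
  haveI : IsIso A.counit := by
    haveI : ∀ E, IsIso (A.counit.app E) := fun E => isIso_resDAdj_counit_app σ.hom E
    exact NatIso.isIso_of_isIso_app _
  haveI : (RR σ.hom).Full := A.fullyFaithfulROfIsIsoCounit.full
  haveI : (RR σ.hom).Faithful := A.fullyFaithfulROfIsIsoCounit.faithful
  let ι := (rpushIsoRres (g ≫ σ.hom)).app (aV.obj K').obj ≪≫ ((RRCompIso g σ.hom).app (aV.obj K').obj).symm ≪≫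
    (RR σ.hom).mapIso ((rpushIsoRres g).app (aV.obj K').obj).symm
  let ε : (DCoh.RpushQ (g ≫ σ.hom) hg').obj (aV.obj K') ⟶ K :=
    ObjectProperty.homMk (ι.hom ≫ (RR σ.hom).map (adjV.counit.app K').hom ≫ inv (A.unit.app K.obj))
  obtain ⟨e⟩ := nonempty_iso_of_bijective adj' ε fun N => by
    let ιN := (rpushIsoRres (g ≫ σ.hom)).app N.obj ≪≫ ((RRCompIso g σ.hom).app N.obj).symm ≪≫
      (RR σ.hom).mapIso ((rpushIsoRres g).app N.obj).symm
    let Φ : ((DCoh.RpushQ g hg).obj N ⟶ K') → ((DCoh.RpushQ (g ≫ σ.hom) hg').obj N ⟶ K) := fun t =>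
      ObjectProperty.homMk (ιN.hom ≫ (RR σ.hom).map t.hom ≫ inv (A.unit.app K.obj))
    have h : (fun y : N ⟶ aV.obj K' => (DCoh.RpushQ (g ≫ σ.hom) hg').map y ≫ ε) = Φ ∘ (adjV.homEquiv N K').symm := by
      funext y
      refine ObjectProperty.hom_ext _ ?_
      show (DCoh.Rpush (g ≫ σ.hom)).map y.hom ≫ ι.hom ≫ (RR σ.hom).map (adjV.counit.app K').hom ≫ inv (A.unit.app K.obj) = _
      have e1 : (DCoh.Rpush (g ≫ σ.hom)).map y.hom ≫ ι.hom =
          ιN.hom ≫ (RR σ.hom).map ((DCoh.Rpush g).map y.hom) := by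
        simp only [ι, ιN, Iso.trans_hom, Iso.symm_hom, Functor.mapIso_hom, Iso.app_hom, Iso.app_inv, Category.assoc]
        refine ((rpushIsoRres (g ≫ σ.hom)).hom.naturality_assoc _ _).trans (congrArg (_ ≫ ·) ?_)
        refine ((RRCompIso g σ.hom).inv.naturality_assoc _ _).trans (congrArg (_ ≫ ·) ?_)
        show (RR σ.hom).map _ ≫ (RR σ.hom).map _ = _
        rw [← Functor.map_comp, ← Functor.map_comp]
        exact congrArg _ ((rpushIsoRres g).inv.naturality _)
      rw [reassoc_of% e1]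
      refine (congrArg (ιN.hom ≫ ·) ((Category.assoc _ _ _).symm.trans (congrArg (· ≫ _) ((RR σ.hom).map_comp _ _).symm))).trans ?_
      show _ = (Φ ((adjV.homEquiv N K').symm y)).hom
      rw [show Φ ((adjV.homEquiv N K').symm y) = Φ ((DCoh.RpushQ g hg).map y ≫ adjV.counit.app K') from
        congrArg Φ (adjV.homEquiv_counit _ _ _)]
      rfl
    rw [h]
    refine Function.Bijective.comp ⟨fun t t' ht => ?_, fun s => ?_⟩ (Equiv.bijective _)
    · have h0 := (cancel_mono (inv (A.unit.app K.obj))).1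
        ((Category.assoc _ _ _).trans ((congrArg (fun m => InducedCategory.Hom.hom m) ht).trans (Category.assoc _ _ _).symm))
      exact ObjectProperty.hom_ext _ ((RR σ.hom).map_injective ((cancel_epi ιN.hom).1 h0))
    · obtain ⟨t, ht⟩ := (RR σ.hom).map_surjective (ιN.inv ≫ s.hom ≫ A.unit.app K.obj)
      refine ⟨ObjectProperty.homMk t, ObjectProperty.hom_ext _ ?_⟩
      show ιN.hom ≫ (RR σ.hom).map t ≫ _ = _
      rw [ht]
      simp
  exact ⟨(DCoh.IsQCohD (X := U)).ι.mapIso e⟩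

end GrothLib.RightAdj20
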