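import Groth.Agent.Lib.HomBC22.LocalAdj
import Groth.Agent.Lib.TorBC25.Perfect
import Groth.Agent.Lib.RightAdj22.Coprod

/-! # The right adjoint over an affine open of the base -/

set_option autoImplicit false
set_option maxHeartbeats 1000000
set_option linter.style.haveILetI false
set_option backward.isDefEq.respectTransparency false
universe u v₁ v₂ w₁ w₂

open CategoryTheory CategoryTheory.Limits AlgebraicGeometry GrothLib.OX

attribute [local instance] HasDerivedCategory.standard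

noncomputable section

namespace GrothLib.RightAdj20

/-- An object with the universal property of a right adjoint is isomorphic to it. -/
theorem nonempty_iso_of_bijective {C : Type w₁} [Category.{v₁} C] {D : Type w₂} [Category.{v₂} D] {F : C ⥤ D}
    {a : D ⥤ C} (adj : F ⊣ a) {K : D} {E : C} (ε : F.obj E ⟶ K)
    (h : ∀ N : C, Function.Bijective fun y : N ⟶ E => F.map y ≫ ε) : Nonempty (E ≅ a.obj K) := by
  let w := adj.homEquiv E K ε
  haveI : IsIso w := isIso_of_yoneda_map_bijective w fun N => by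
    have e : (fun y : N ⟶ E => y ≫ w) = (adj.homEquiv N K) ∘ fun y : N ⟶ E => F.map y ≫ ε := funext fun y =>
      (adj.homEquiv_naturality_left y ε).symm
    rw [e]
    exact (adj.homEquiv N K).bijective.comp (h N)
  exact ⟨asIso w⟩

variable {X Y : Scheme.{u}} [CompactSpace Y] [QuasiSeparatedSpace Y] (f : X ⟶ Y) [IsProper f] [Flat f]
  [LocallyOfFinitePresentation f] [DCoh.HasRpush f]

/-- **The relative dualizing complex restricts to affine opens of the base.** -/
theorem nonempty_resD_adjoint (hf : DCoh.RpushPreservesQCoh f) {a : DCoh.DQCoh Y ⥤ DCoh.DQCoh X}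
    (adj : DCoh.RpushQ f hf ⊣ a) (V : Y.Opens) (hV : IsAffineOpen V) [DCoh.HasRpush (f ∣_ V)]
    (hfV : DCoh.RpushPreservesQCoh (f ∣_ V)) {aV : DCoh.DQCoh V.toScheme ⥤ DCoh.DQCoh (f ⁻¹ᵁ V).toScheme}
    (adjV : DCoh.RpushQ (f ∣_ V) hfV ⊣ aV) (K : DCoh.DQCoh Y) :
    Nonempty ((resD (f ⁻¹ᵁ V).ι).obj (a.obj K).obj ≅
      (aV.obj ⟨(resD V.ι).obj K.obj, isQCohD_resD V.ι K.property⟩).obj) := by
  haveI : CompactSpace X := QuasiCompact.compactSpace_of_compactSpace f
  haveI : QuasiSeparatedSpace X := quasiSeparatedSpace_of_quasiSeparated f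
  haveI : CompactSpace V.toScheme := isCompact_iff_compactSpace.1 hV.isCompact
  haveI : QuasiCompact V.ι := quasiCompact_of_compactSpace V.ι
  let i := (f ⁻¹ᵁ V).ι
  haveI : QuasiCompact i :=
    MorphismProperty.of_isPullback (P := @QuasiCompact) (isPullback_morphismRestrict f V) ‹_›
  have hsa := HomBC22.isIso_resD_map_locUnit V adj (fun J => RightAdj22.preservesColimitsOfShape adj (fun P hP =>
    isPerfect_of_iso (TorBC25.isPerfect_RR f hP) ((rpushIsoRres f).app P.obj).symm) J) K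
  let E : DCoh.DQCoh (f ⁻¹ᵁ V).toScheme := ⟨(resD i).obj (a.obj K).obj, isQCohD_resD i (a.obj K).property⟩
  let KV : DCoh.DQCoh V.toScheme := ⟨(resD V.ι).obj K.obj, isQCohD_resD V.ι K.property⟩
  let r := rpushIsoRres (f ∣_ V)
  let β := HomBC22.betaR f V
  let ε : (DCoh.RpushQ (f ∣_ V) hfV).obj E ⟶ KV :=
    ObjectProperty.homMk (r.hom.app _ ≫ β.inv.app (a.obj K).obj ≫ (resD V.ι).map (adj.counit.app K).hom)
  obtain ⟨e⟩ := nonempty_iso_of_bijective adjV (K := KV) (E := E) ε fun N => by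
    let M : DCoh.DQCoh X := ⟨(RR i).obj N.obj, isQCohD_Rres i N.obj N.property⟩
    haveI := isIso_resDAdj_counit_app i N.obj
    let c : (resD i).obj M.obj ≅ N.obj := asIso ((resDAdj i).counit.app N.obj)
    have hb := HomBC22.bijective_transp_counit_of_isIso V adj K hsa M
    let L : (DCoh.Rpush (f ∣_ V)).obj N.obj ≅ (resD V.ι).obj ((DCoh.RpushQ f hf).obj M).obj :=
      (DCoh.Rpush (f ∣_ V)).mapIso c.symm ≪≫ r.app _ ≪≫ (β.app M.obj).symm
    let Φ : (N ⟶ E) → ((DCoh.RpushQ (f ∣_ V) hfV).obj N ⟶ KV) := fun y =>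
      ObjectProperty.homMk (L.hom ≫ HomBC22.transp V (HomBC22.counitT adj K) (c.hom ≫ y.hom))
    have hΦ : (fun y : N ⟶ E => (DCoh.RpushQ (f ∣_ V) hfV).map y ≫ ε) = Φ := funext fun y => ObjectProperty.hom_ext _ (by
      show (DCoh.Rpush (f ∣_ V)).map y.hom ≫ r.hom.app _ ≫ β.inv.app _ ≫ (resD V.ι).map (adj.counit.app K).hom = _
      refine Eq.trans ?_ (congrArg (L.hom ≫ ·) rfl)
      simp only [L, HomBC22.transp, Iso.trans_hom, Iso.symm_hom, Functor.mapIso_hom, Iso.app_hom, Iso.app_inv,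
        Category.assoc]
      rw [Iso.inv_hom_id_app_assoc, ← r.hom.naturality_assoc, ← Functor.map_comp_assoc]
      erw [Iso.inv_hom_id_assoc])
    rw [hΦ]
    have e2 : Φ = (fun t => (ObjectProperty.homMk (L.hom ≫ t) : (DCoh.RpushQ (f ∣_ V) hfV).obj N ⟶ KV)) ∘
        (fun y => HomBC22.transp V (HomBC22.counitT adj K) y) ∘ fun y : N ⟶ E => c.hom ≫ y.hom := rfl
    rw [e2]
    refine Function.Bijective.comp ⟨fun t t' h => ?_, fun t => ⟨L.inv ≫ t.hom, ?_⟩⟩ (hb.comp ?_)
    · exact (cancel_epi L.hom).1 (congrArg (fun m => InducedCategory.Hom.hom m) h)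
    · exact ObjectProperty.hom_ext _ (Iso.hom_inv_id_assoc L t.hom)
    · exact ⟨fun y y' h => ObjectProperty.hom_ext _ ((cancel_epi c.hom).1 h),
        fun t => ⟨ObjectProperty.homMk (c.inv ≫ t), Iso.hom_inv_id_assoc c t⟩⟩
  exact ⟨(DCoh.IsQCohD (X := (f ⁻¹ᵁ V).toScheme)).ι.mapIso e⟩

end GrothLib.RightAdj20
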