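import Groth.Agent.Lib.RightAdj20.ModelLocal
import Groth.Agent.Lib.RightAdj20.RestrictAdjoint
import Groth.Agent.Lib.RightAdj20.AdjointIso

/-! # The relative dualizing complex of a proper flat morphism of finite presentation -/

set_option autoImplicit false
set_option maxHeartbeats 2000000
set_option linter.style.haveILetI false
set_option backward.isDefEq.respectTransparency false
universe u

open CategoryTheory CategoryTheory.Limits AlgebraicGeometry GrothLib.OX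

attribute [local instance] HasDerivedCategory.standard

noncomputable section

namespace GrothLib.RightAdj20

variable {X Y : Scheme.{u}} [CompactSpace Y] [QuasiSeparatedSpace Y] (f : X ⟶ Y) [IsProper f] [Flat f]
  [LocallyOfFinitePresentation f] [DCoh.HasRpush f]

/-- Over an affine open of the base: relatively perfect, and simple on charts. -/
theorem local_core (hf : DCoh.RpushPreservesQCoh f) {a : DCoh.DQCoh Y ⥤ DCoh.DQCoh X}
    (adj : DCoh.RpushQ f hf ⊣ a) (O : DCoh.DQCoh Y) (hO : Nonempty (O.obj ≅ DCoh.inD Y (Coh.structureModule Y)))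
    (V : Y.Opens) (hV : IsAffineOpen V) :
    ∃ f₀ : (f ⁻¹ᵁ V).toScheme ⟶ Spec Γ(Y, V), Flat f₀ ∧ f₀ ≫ hV.fromSpec = (f ⁻¹ᵁ V).ι ≫ f ∧
      RelAmp22.RelPerf f₀ ((resD (f ⁻¹ᵁ V).ι).obj (a.obj O).obj) ∧
      ∀ (T : (f ⁻¹ᵁ V).toScheme.Opens) (x : (f ⁻¹ᵁ V).toScheme), x ∈ T →
        ∃ (B : Type u) (_ : CommRing B) (j : Spec (CommRingCat.of B) ⟶ (f ⁻¹ᵁ V).toScheme)
          (_ : IsOpenImmersion j), x ∈ Set.range j ∧ j.opensRange ≤ T ∧ ∃ M : Dual.D B,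
            (Function.Bijective fun b : B => b • 𝟙 M) ∧ (∀ i : ℤ, i ≠ 0 → Subsingleton (M ⟶ M⟦i⟧)) ∧
            Nonempty ((resD j).obj ((resD (f ⁻¹ᵁ V).ι).obj (a.obj O).obj) ≅
              (DCoh.tildeD (CommRingCat.of B)).obj M) := by
  let U := (f ⁻¹ᵁ V).toScheme
  let A : Type u := Γ(Y, V)
  let S := Spec (CommRingCat.of A)
  let σ : V.toScheme ≅ S := hV.isoSpec
  let g := f ∣_ V
  let f' : U ⟶ S := g ≫ σ.hom
  haveI : IsAffine V.toScheme := hV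
  haveI : CompactSpace V.toScheme := isCompact_iff_compactSpace.1 hV.isCompact
  haveI : IsProper f' := inferInstanceAs (IsProper (g ≫ σ.hom))
  haveI : Flat f' := inferInstanceAs (Flat (g ≫ σ.hom))
  haveI : LocallyOfFinitePresentation f' := inferInstanceAs (LocallyOfFinitePresentation (g ≫ σ.hom))
  haveI : CompactSpace U := QuasiCompact.compactSpace_of_compactSpace g
  haveI : QuasiSeparatedSpace U := quasiSeparatedSpace_of_quasiSeparated g
  haveI : DCoh.HasRpush g := KInj.hasRightDerivedFunctor _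
  haveI : DCoh.HasRpush f' := KInj.hasRightDerivedFunctor _
  have hg : DCoh.RpushPreservesQCoh g := fun K hK =>
    GrothLib.KSix19.BettiExact.isQCohD_of_iso' ((rpushIsoRres g).app K).symm (isQCohD_Rres g K hK)
  have hg' : DCoh.RpushPreservesQCoh f' := fun K hK =>
    GrothLib.KSix19.BettiExact.isQCohD_of_iso' ((rpushIsoRres f').app K).symm (isQCohD_Rres f' K hK)
  haveI : (DCoh.RpushQ g hg).IsLeftAdjoint := GrothLib.OX.isLeftAdjoint_lift_Rpush g hg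
  haveI : (DCoh.RpushQ f' hg').IsLeftAdjoint := GrothLib.OX.isLeftAdjoint_lift_Rpush f' hg'
  let adjV := Adjunction.ofIsLeftAdjoint (DCoh.RpushQ g hg)
  let adj' := Adjunction.ofIsLeftAdjoint (DCoh.RpushQ f' hg')
  let OS : DCoh.DQCoh S := ⟨DCoh.inD S (Coh.structureModule S), isQCohD_of_isPerfect (isPerfect_unit S)⟩
  obtain ⟨eO⟩ := hO
  obtain ⟨r₁⟩ := BCPerf20.nonempty_resD_inD V.ι (Coh.structureModule Y)
  obtain ⟨r₂⟩ := BCPerf20.nonempty_resD_inD σ.hom (Coh.structureModule S)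
  let single := DerivedCategory.singleFunctor V.toScheme.Modules 0
  let eV : (resD V.ι).obj O.obj ≅ (resD σ.hom).obj OS.obj :=
    (resD V.ι).mapIso eO ≪≫ r₁ ≪≫ single.mapIso (OX.pullUnitIso V.ι) ≪≫
      (r₂ ≪≫ single.mapIso (OX.pullUnitIso σ.hom)).symm
  obtain ⟨e₁⟩ := nonempty_resD_adjoint f hf adj V hV hg adjV O
  obtain ⟨e₂⟩ := nonempty_adjoint_comp_iso g σ hg adjV hg' adj' OS
  let aV := (DCoh.RpushQ g hg).rightAdjoint
  let e : (resD (f ⁻¹ᵁ V).ι).obj (a.obj O).obj ≅ ((DCoh.RpushQ f' hg').rightAdjoint.obj OS).obj :=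
    e₁ ≪≫ (aV ⋙ ObjectProperty.ι _).mapIso ((DCoh.IsQCohD (X := V.toScheme)).isoMk
      (X := ⟨_, isQCohD_resD V.ι O.property⟩) (Y := ⟨_, isQCohD_resD σ.hom OS.property⟩) eV) ≪≫ e₂
  obtain ⟨hrel, hch⟩ := affine_core f' hg' adj' OS ⟨Iso.refl _⟩
  refine ⟨f', inferInstance, ?_, relPerf_of_iso f' e.symm hrel, fun T x hx => ?_⟩
  · show (g ≫ σ.hom) ≫ hV.fromSpec = _
    rw [Category.assoc, hV.isoSpec_hom_fromSpec, morphismRestrict_ι]
  · obtain ⟨B, _, j, hj, hxj, hjT, M, hb, hi, ⟨eM⟩⟩ := hch T x hx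
    exact ⟨B, _, j, hj, hxj, hjT, M, hb, hi, ⟨(resD j).mapIso e ≪≫ eM⟩⟩

/-- **The relative dualizing complex is relatively perfect.** -/
theorem relPerf_adjoint (hf : DCoh.RpushPreservesQCoh f) {a : DCoh.DQCoh Y ⥤ DCoh.DQCoh X}
    (adj : DCoh.RpushQ f hf ⊣ a) (O : DCoh.DQCoh Y) (hO : Nonempty (O.obj ≅ DCoh.inD Y (Coh.structureModule Y))) :
    (∀ m : ℤ, DCoh.IsPseudoCoherentD m (a.obj O).obj) ∧ DCoh.LocHasFiniteRelTorDim f (a.obj O).obj :=
  relPerf_of_opens f fun x => by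
    obtain ⟨V, hV, hxV, -⟩ := exists_isAffineOpen_mem_and_subset (x := f x) (U := ⊤) trivial
    obtain ⟨f₀, hf₀, w, hrel, -⟩ := local_core f hf adj O hO V hV
    exact ⟨_, _, (f ⁻¹ᵁ V).ι, inferInstance, hV.fromSpec, inferInstance, f₀, hf₀, w, ⟨⟨x, hxV⟩, rfl⟩, hrel⟩

/-- **`O → RHom(ω, ω)` is an isomorphism.** -/
theorem isIso_transpose_adjoint (hf : DCoh.RpushPreservesQCoh f) {a : DCoh.DQCoh Y ⥤ DCoh.DQCoh X}
    (adj : DCoh.RpushQ f hf ⊣ a) (O : DCoh.DQCoh Y) (hO : Nonempty (O.obj ≅ DCoh.inD Y (Coh.structureModule Y)))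
    (E : CochainComplex X.Modules ℤ) (hE : Nonempty (DCoh.toD X E ≅ (a.obj O).obj))
    [DCoh.HasLTensorCx E] [DCoh.HasRSheafHom E]
    (υ : (DCoh.LTensorCx E).obj (DCoh.inD X (Coh.structureModule X)) ≅ DCoh.toD X E) :
    IsIso (((DCoh.RSheafHomAdj E).homEquiv (DCoh.inD X (Coh.structureModule X)) (DCoh.toD X E)) υ.hom) := by
  haveI : ∀ B : CommRingCat.{u}, PreservesFiniteLimits (tilde.functor B) := OX.preservesFiniteLimits_tildeGen
  obtain ⟨eE⟩ := hE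
  refine isIso_transpose_of_charts E υ fun T x hx => ?_
  obtain ⟨V, hV, hxV, -⟩ := exists_isAffineOpen_mem_and_subset (x := f x) (U := ⊤) trivial
  obtain ⟨f₀, -, -, -, hch⟩ := local_core f hf adj O hO V hV
  let i := (f ⁻¹ᵁ V).ι
  obtain ⟨B, _, j, hj, hxj, hjT, M, hb, hi, ⟨eM⟩⟩ := hch (i ⁻¹ᵁ T) ⟨x, hxV⟩ hx
  haveI := hj
  obtain ⟨c⟩ := nonempty_resD_comp j i (DCoh.toD X E)
  refine ⟨B, _, j ≫ i, inferInstance, ?_, ?_, M, hb, hi, ⟨c ≪≫ (resD j).mapIso ((resD i).mapIso eE) ≪≫ eM⟩⟩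
  · obtain ⟨y, hy⟩ := hxj
    exact ⟨y, by rw [Scheme.Hom.comp_apply, hy]; rfl⟩
  · rintro _ ⟨y, rfl⟩
    show (j ≫ i) y ∈ T
    rw [Scheme.Hom.comp_apply]
    exact hjT ⟨y, rfl⟩

end GrothLib.RightAdj20
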