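import Groth.Agent.Lib.RightAdj20.BaseChangeTools
import Groth.Agent.Lib.ShriekBridge22.SelfHom
import Groth.Agent.Lib.HomBC22.LocalAdj
import Groth.Agent.Lib.CptBdd19.Main
import Groth.Agent.Lib.DualCx22.Transfer
import Groth.Agent.Lib.DualRing.Single
import Groth.Agent.Lib.LocFree8.Tilde
import Groth.Agent.Lib.OX.KoszulOrth
import Groth.Agent.Lib.OX.PCohQCoh
import Groth.Agent.Lib.OX.DQCohBrown
import Groth.Agent.Lib.ThickDesc6.Pull
import Groth.Agent.Lib.RightAdj22.Main

/-! # Tools for the base change map of the relative dual -/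

set_option autoImplicit false
set_option maxHeartbeats 2000000
set_option linter.style.haveILetI false
set_option backward.isDefEq.respectTransparency false
universe u v v' w w'

open CategoryTheory CategoryTheory.Limits AlgebraicGeometry CategoryTheory.Pretriangulated GrothLib.OX

attribute [local instance] HasDerivedCategory.standard

noncomputable section

namespace GrothLib.RightAdj20

/-- An exact functor does not raise upper bounds. -/
theorem isLE_mapDerived {A : Type w} [Category.{v} A] [Abelian A] [HasDerivedCategory A] {B : Type w'}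
    [Category.{v'} B] [Abelian B] [HasDerivedCategory B] (F : A ⥤ B) [F.Additive] [PreservesFiniteLimits F]
    [PreservesFiniteColimits F] (K : DerivedCategory A) (b : ℤ) [K.IsLE b] :
    (F.mapDerivedCategory.obj K).IsLE b :=
  (DerivedCategory.isLE_iff _ _).2 fun q hq =>
    (F.map_isZero (DerivedCategory.isZero_of_isLE K b q hq)).of_iso ((DerTrunc.homologyMapIso F q).app K)

/-- An exact functor does not lower lower bounds. -/
theorem isGE_mapDerived' {A : Type w} [Category.{v} A] [Abelian A] [HasDerivedCategory A] {B : Type w'}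
    [Category.{v'} B] [Abelian B] [HasDerivedCategory B] (F : A ⥤ B) [F.Additive] [PreservesFiniteLimits F]
    [PreservesFiniteColimits F] (K : DerivedCategory A) (b : ℤ) [K.IsGE b] :
    (F.mapDerivedCategory.obj K).IsGE b :=
  (DerivedCategory.isGE_iff _ _).2 fun q hq =>
    (F.map_isZero (DerivedCategory.isZero_of_isGE K b q hq)).of_iso ((DerTrunc.homologyMapIso F q).app K)

section Affine

variable {R : Type u} [CommRing R] [PreservesFiniteLimits (tilde.functor (CommRingCat.of R))]

theorem isLE_of_tildeD {M : Dual.D R} {b : ℤ} (h : ((DCoh.tildeD (CommRingCat.of R)).obj M).IsLE b) : M.IsLE b :=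
  (DerivedCategory.isLE_iff _ _).2 fun q hq => (OX.isZero_tilde_iff (A := R) _).1
    ((DerivedCategory.isZero_of_isLE _ b q hq).of_iso (HDTildeIso (R := CommRingCat.of R) M q).symm)

theorem isGE_tildeD (M : Dual.D R) (b : ℤ) [M.IsGE b] : ((DCoh.tildeD (CommRingCat.of R)).obj M).IsGE b :=
  isGE_mapDerived' _ M b

/-- Maps out of the structure sheaf of an affine scheme into quasi-coherent objects in negative degrees vanish. -/
theorem subsingleton_unit_hom {Z : DCoh.D (Spec (CommRingCat.of R))} (hZ : DCoh.IsQCohD Z) [Z.IsLE (-1)] :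
    Subsingleton ((DCoh.tildeD (CommRingCat.of R)).obj (Dual.inD R R) ⟶ Z) := by
  have := (tildeD_full_faithful_essImage (R := CommRingCat.of R)).1
  have := (tildeD_full_faithful_essImage (R := CommRingCat.of R)).2.1
  obtain ⟨M, ⟨e⟩⟩ := (tildeD_full_faithful_essImage (R := CommRingCat.of R)).2.2 Z hZ
  haveI : ((DCoh.tildeD (CommRingCat.of R)).obj M).IsLE (-1) :=
    DerivedCategory.TStructure.t.isLE_of_iso e.symm (-1)
  haveI : M.IsLE (-1) := isLE_of_tildeD inferInstance
  haveI : Subsingleton (Dual.HD R M 0) := (DR.subsingleton_iff_isZero _).2 (DerivedCategory.isZero_of_isLE M (-1) 0 (by omega))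
  obtain ⟨l⟩ := DualRing.exists_hom_ring_equiv M 0
  haveI : Subsingleton (Dual.inD R R ⟶ M) :=
    (((shiftFunctorZero (Dual.D R) ℤ).app M).symm.homToEquiv.trans l.toEquiv).subsingleton
  haveI : Subsingleton ((DCoh.tildeD (CommRingCat.of R)).obj (Dual.inD R R) ⟶
      (DCoh.tildeD (CommRingCat.of R)).obj M) :=
    (Functor.FullyFaithful.ofFullyFaithful (DCoh.tildeD (CommRingCat.of R))).homEquiv.symm.subsingleton
  exact e.symm.homToEquiv.subsingleton

end Affine

section Cover

variable {Y : Scheme.{u}} {R : Type u} [CommRing R] (i : Spec (CommRingCat.of R) ⟶ Y) [IsOpenImmersion i]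
  [PreservesFiniteLimits (tilde.functor (CommRingCat.of R))]

theorem restrBij_of_iso {U : Scheme.{u}} (j : U ⟶ Y) [IsOpenImmersion j] {K K' : DCoh.D Y} (e : K ≅ K')
    (h : HomBC22.RestrBij j K) : HomBC22.RestrBij j K' := fun M hM => by
  have he : (fun φ : M ⟶ K' => (resD j).map φ) =
      ((resD j).mapIso e).homToEquiv ∘ (fun φ : M ⟶ K => (resD j).map φ) ∘ e.homToEquiv.symm := funext fun φ => by
    simp [← Functor.map_comp]
  rw [he]
  exact (Equiv.bijective _).comp ((h M hM).comp (Equiv.bijective _))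

/-- Maps from a shift of the structure sheaf into a local object cover it in top degree. -/
theorem exists_cover [CompactSpace Y] [QuasiSeparatedSpace Y] (K : DCoh.DQCoh Y) (n : ℤ)
    (eK : K.obj ≅ (DCoh.inD Y (Coh.structureModule Y))⟦n⟧) (Q : DCoh.DQCoh Y)
    (hloc : HomBC22.RestrBij i Q.obj) [((resD i).obj Q.obj).IsLE (-n)] :
    ∃ (J : Type u) (c : J → (K ⟶ Q)), ∀ (C : DCoh.DQCoh Y) (g : Q ⟶ C) (d : C ⟶ (∐ fun _ : J => K)⟦(1 : ℤ)⟧),
      Triangle.mk (Sigma.desc c) g d ∈ distTriang (DCoh.DQCoh Y) → ((resD i).obj C.obj).IsLE (-n - 1) := by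
  let S := Spec (CommRingCat.of R)
  let T := DCoh.tildeD (CommRingCat.of R)
  let OR := T.obj (Dual.inD R R)
  have := (tildeD_full_faithful_essImage (R := CommRingCat.of R)).1
  have := (tildeD_full_faithful_essImage (R := CommRingCat.of R)).2.1
  obtain ⟨M, ⟨eM⟩⟩ := (tildeD_full_faithful_essImage (R := CommRingCat.of R)).2.2 _ (isQCohD_resD i Q.property)
  obtain ⟨r⟩ := BCPerf20.nonempty_resD_inD i (Coh.structureModule Y)
  obtain ⟨t⟩ := ShriekBridge22.nonempty_inD_iso_tildeD (B := R)
  let eR : (resD i).obj K.obj ≅ OR⟦n⟧ := (resD i).mapIso eK ≪≫ ((resD i).commShiftIso n).app _ ≪≫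
    (shiftFunctor _ n).mapIso (r ≪≫ (DerivedCategory.singleFunctor S.Modules 0).mapIso (OX.pullUnitIso i) ≪≫ t)
  obtain ⟨l⟩ := DualRing.exists_hom_ring_equiv M (-n)
  let adj := (shiftEquiv (DCoh.D S) n).toAdjunction
  let u : (DCoh.D S) := ((resD i).obj Q.obj)⟦-n⟧
  let P : (K ⟶ Q) ≃ Dual.HD R M (-n) :=
    ((DCoh.IsQCohD (X := Y)).fullyFaithfulι.homEquiv.trans (Equiv.ofBijective _ (hloc K.obj K.property))).trans
      (eR.homFromEquiv.trans ((adj.homEquiv OR ((resD i).obj Q.obj)).trans
        ((((shiftFunctor (DCoh.D S) (-n)).mapIso eM.symm ≪≫ ((T.commShiftIso (-n)).app M).symm).homToEquiv.trans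
          (Functor.FullyFaithful.ofFullyFaithful T).homEquiv.symm).trans l.toEquiv)))
  refine ⟨Dual.HD R M (-n), P.symm, fun C g d hT => ?_⟩
  let J := (Dual.HD R M (-n) : Type u)
  have hT₁ := (resD i).map_distinguished _ ((DCoh.IsQCohD (X := Y)).ι.map_distinguished _ hT)
  obtain ⟨C₁, ⟨eC⟩⟩ := (tildeD_full_faithful_essImage (R := CommRingCat.of R)).2.2 _ (isQCohD_resD i C.property)
  haveI hS : ((resD i).obj (∐ fun _ : J => K).obj).IsLE (-n) := by
    haveI := preservesColimitOfShape_of_createsColimitsOfShape_and_hasColimitsOfShape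
      (F := (DCoh.IsQCohD (X := Y)).ι) (J := Discrete J)
    haveI hK : K.obj.IsLE (-n) := by
      haveI : (DCoh.inD Y (Coh.structureModule Y)).IsLE 0 :=
        inferInstanceAs (((DerivedCategory.singleFunctor Y.Modules 0).obj _).IsLE 0)
      haveI := DerivedCategory.TStructure.t.isLE_shift (DCoh.inD Y (Coh.structureModule Y)) 0 n (-n) (by omega)
      exact DerivedCategory.TStructure.t.isLE_of_iso eK.symm (-n)
    haveI := CptBdd19.isLE_coproduct (fun _ : J => (DCoh.IsQCohD (X := Y)).ι.obj K) (-n) fun _ => hK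
    refine KSix19.isLE_resD i ?_
    exact DerivedCategory.TStructure.t.isLE_of_iso
      (PreservesCoproduct.iso (DCoh.IsQCohD (X := Y)).ι fun _ : J => K).symm (-n)
  suffices h : C₁.IsLE (-n - 1) by
    haveI := h
    haveI := isLE_mapDerived (tilde.functor (CommRingCat.of R)) C₁ (-n - 1)
    exact DerivedCategory.TStructure.t.isLE_of_iso eC (-n - 1)
  refine DualCx22.isLE_of_hom_ring C₁ _ fun k hk => ?_
  suffices h : ∀ x : OR ⟶ ((resD i).obj C.obj)⟦k⟧, x = 0 by
    haveI : Subsingleton (OR ⟶ ((resD i).obj C.obj)⟦k⟧) := ⟨fun a b => (h a).trans (h b).symm⟩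
    haveI : Subsingleton (OR ⟶ T.obj (C₁⟦k⟧)) :=
      ((T.commShiftIso k).app C₁ ≪≫ (shiftFunctor _ k).mapIso eC).homToEquiv.subsingleton
    exact (Functor.FullyFaithful.ofFullyFaithful T).homEquiv.subsingleton
  intro x
  have hT₂ := Triangle.shift_distinguished _ hT₁ k
  haveI : Subsingleton (OR ⟶ ((((resD i).obj (∐ fun _ : J => K).obj)⟦k⟧)⟦(1 : ℤ)⟧)) := by
    haveI := DerivedCategory.TStructure.t.isLE_shift ((resD i).obj (∐ fun _ : J => K).obj) (-n) k (-n - k) (by omega)
    haveI : (((resD i).obj (∐ fun _ : J => K).obj)⟦k⟧).IsLE 0 :=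
      DerivedCategory.TStructure.t.isLE_of_le _ (-n - k) 0 (by omega)
    haveI := DerivedCategory.TStructure.t.isLE_shift (((resD i).obj (∐ fun _ : J => K).obj)⟦k⟧) 0 1 (-1) (by omega)
    exact subsingleton_unit_hom (isQCohD_shift (isQCohD_shift (isQCohD_resD i (∐ fun _ : J => K).property) k) 1)
  obtain ⟨v, hv⟩ := Triangle.coyoneda_exact₃ _ hT₂ x
    (Subsingleton.elim (α := OR ⟶ ((((resD i).obj (∐ fun _ : J => K).obj)⟦k⟧)⟦(1 : ℤ)⟧)) _ _)
  suffices hz : v ≫ (shiftFunctor _ k).map ((resD i).map g.hom) = 0 by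
    refine hv.trans ?_
    show v ≫ (k.negOnePow • (shiftFunctor _ k).map ((resD i).map g.hom)) = 0
    rw [Linear.comp_units_smul, hz, smul_zero]
  rcases lt_or_eq_of_le (show -n ≤ k by omega) with hk' | hk'
  · haveI : (((resD i).obj Q.obj)⟦k⟧).IsLE (-1) := by
      haveI := DerivedCategory.TStructure.t.isLE_shift ((resD i).obj Q.obj) (-n) k (-n - k) (by omega)
      exact DerivedCategory.TStructure.t.isLE_of_le _ (-n - k) (-1) (by omega)
    haveI := subsingleton_unit_hom (R := R) (isQCohD_shift (isQCohD_resD i Q.property) k)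
    rw [show v = 0 from Subsingleton.elim (α := OR ⟶ ((resD i).obj Q.obj)⟦k⟧) _ _]
    exact zero_comp
  · subst hk'
    let w := eR.inv
    obtain ⟨φ, hφ⟩ : ∃ φ : K ⟶ Q, (adj.homEquiv OR ((resD i).obj Q.obj)) (w ≫ (resD i).map φ.hom) = v := by
      obtain ⟨ψ, hψ⟩ := (hloc K.obj K.property).2 (eR.hom ≫ (adj.homEquiv OR ((resD i).obj Q.obj)).symm v)
      refine ⟨ObjectProperty.homMk ψ, ?_⟩
      show adj.homEquiv _ _ (w ≫ (resD i).map ψ) = v
      rw [show (resD i).map ψ = eR.hom ≫ (adj.homEquiv OR ((resD i).obj Q.obj)).symm v from hψ,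
        Iso.inv_hom_id_assoc, Equiv.apply_symm_apply]
    obtain ⟨c₀, hc₀⟩ := P.symm.surjective φ
    have h0 : φ ≫ g = 0 := by
      have h1 : (Sigma.desc P.symm : (∐ fun _ : J => K) ⟶ Q) ≫ g = 0 := comp_distTriang_mor_zero₁₂ _ hT
      rw [← hc₀, ← Sigma.ι_desc (f := fun _ : J => K) P.symm c₀, Category.assoc, h1, comp_zero]
    rw [← hφ]
    erw [← adj.homEquiv_naturality_right]
    rw [Category.assoc, ← Functor.map_comp,
      show φ.hom ≫ g.hom = (φ ≫ g).hom from rfl, h0]
    show adj.homEquiv _ _ (w ≫ (resD i).map (0 : K.obj ⟶ C.obj)) = 0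
    rw [Functor.map_zero, comp_zero, Adjunction.homEquiv_unit, Functor.map_zero, comp_zero]

end Cover

section Scalar

variable {B : Type u} [CommRing B] [PreservesFiniteLimits (tilde.functor (CommRingCat.of B))]

/-- A scalar is invertible on the standard open it defines. -/
theorem isIso_resD_tilde_smul (s : B) (L : Dual.D B) :
    IsIso ((resD (awayMap s)).map (s • 𝟙 ((DCoh.tildeD (CommRingCat.of B)).obj L))) := by
  let Bs := CommRingCat.of (Localization.Away s)
  haveI : PreservesFiniteLimits (tilde.functor Bs) := preservesFiniteLimits_tildeGen _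
  letI : (Spec Bs).Over (Spec (CommRingCat.of B)) := ⟨awayMap s⟩
  haveI : (awayMap s).IsOver (Spec (CommRingCat.of B)) :=
    ⟨(congrArg (awayMap s ≫ ·) (Spec.map_id _)).trans (Category.comp_id _)⟩
  obtain ⟨eL⟩ : Nonempty (DRing.toD (DerivedCategory.Q.objPreimage L) ≅ L) := ⟨DerivedCategory.Q.objObjPreimageIso L⟩
  obtain ⟨r⟩ := OX.nonempty_resD_tildeD s (DerivedCategory.Q.objPreimage L)
  let b : Bs := algebraMap B (Localization.Away s) s
  have hb : IsUnit b := IsLocalization.Away.algebraMap_isUnit (S := Localization.Away s) s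
  let C := (DR.bc (algebraMap B (Localization.Away s))).obj (DerivedCategory.Q.objPreimage L)
  let Z := (DCoh.tildeD Bs).obj (DRing.toD C)
  let e : (resD (awayMap s)).obj ((DCoh.tildeD (CommRingCat.of B)).obj L) ≅ Z :=
    (resD (awayMap s)).mapIso ((DCoh.tildeD (CommRingCat.of B)).mapIso eL.symm) ≪≫ r
  have h1 : (DCoh.tildeD Bs).map (b • 𝟙 (DRing.toD C)) = s • 𝟙 Z := by
    let T := tilde.functor Bs
    have h2 : (T.mapHomologicalComplex (ComplexShape.up ℤ)).map (b • 𝟙 C) =
        s • 𝟙 ((T.mapHomologicalComplex (ComplexShape.up ℤ)).obj C) := HomologicalComplex.hom_ext _ _ fun i => by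
      simp only [Functor.mapHomologicalComplex_map_f, HomologicalComplex.smul_f_apply, HomologicalComplex.id_f]
      refine (OX.tilde_map_smul Bs s b ?_ _).trans (congrArg (s • ·) (T.map_id _))
      exact (congrArg (fun φ => φ.hom s)
        (Scheme.ΓSpecIso_inv_naturality (CommRingCat.ofHom (algebraMap B (Localization.Away s))))).symm
    have h3 : b • 𝟙 (DRing.toD C) = DerivedCategory.Q.map (b • 𝟙 C) := by
      rw [Functor.map_smul, CategoryTheory.Functor.map_id]
    have h4 : s • 𝟙 (DerivedCategory.Q.obj ((T.mapHomologicalComplex (ComplexShape.up ℤ)).obj C)) =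
        DerivedCategory.Q.map (s • 𝟙 ((T.mapHomologicalComplex (ComplexShape.up ℤ)).obj C)) := by
      rw [Functor.map_smul, CategoryTheory.Functor.map_id]
    let fac := T.mapDerivedCategoryFactors
    rw [h3]
    refine ((Iso.eq_comp_inv (fac.app C)).2 (fac.hom.naturality (b • 𝟙 C))).trans ?_
    change (fac.hom.app C ≫ DerivedCategory.Q.map ((T.mapHomologicalComplex (ComplexShape.up ℤ)).map (b • 𝟙 C))) ≫ _ = _
    rw [h2, ← h4, Linear.comp_smul]
    erw [Category.comp_id, Linear.smul_comp]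
    exact congrArg (s • ·) (Iso.hom_inv_id_app fac C)
  haveI : IsIso (b • 𝟙 (DRing.toD C)) := by
    obtain ⟨b', hb'⟩ := hb.exists_left_inv
    exact ⟨b' • 𝟙 _, by rw [Linear.smul_comp, Category.id_comp, smul_smul, mul_comm, hb', one_smul], by
      rw [Linear.smul_comp, Category.id_comp, smul_smul, hb', one_smul]⟩
  haveI : IsIso (s • 𝟙 Z) := h1 ▸ Functor.map_isIso _ _
  have h5 : (resD (awayMap s)).map (s • 𝟙 ((DCoh.tildeD (CommRingCat.of B)).obj L)) =
      e.hom ≫ (s • 𝟙 Z) ≫ e.inv := by
    rw [resD_map_smul (A := B), CategoryTheory.Functor.map_id, Linear.smul_comp, Category.id_comp,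
      Linear.comp_smul, Iso.hom_inv_id]
  rw [h5]
  infer_instance

/-- Over the standard open of an element killing the top cohomology the upper bound drops. -/
theorem isLE_resD_of_smul_eq_zero (L : Dual.D B) (b : ℤ) [L.IsLE b] (e : B)
    (he : ∀ x : Dual.HD B L b, e • x = 0) :
    ((resD (awayMap e)).obj ((DCoh.tildeD (CommRingCat.of B)).obj L)).IsLE (b - 1) := by
  haveI := isIso_resD_tilde_smul e L
  let Z := (resD (awayMap e)).obj ((DCoh.tildeD (CommRingCat.of B)).obj L)
  haveI : Z.IsLE b := KSix19.isLE_resD _ (isLE_mapDerived (tilde.functor (CommRingCat.of B)) L b)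
  let H := DerivedCategory.homologyFunctor (ModuleCat.{u} B) b
  have h0 : H.map (e • 𝟙 L) = 0 := by
    rw [DR.homologyFunctor_map_smul_id]
    exact ModuleCat.hom_ext (LinearMap.ext fun x => he x)
  let F := DCoh.tildeD (CommRingCat.of B) ⋙ resD (awayMap e)
  let n : F ⋙ DerivedCategory.homologyFunctor _ b ≅
      H ⋙ tilde.functor (CommRingCat.of B) ⋙ Scheme.Modules.restrictFunctor (awayMap e) :=
    Functor.associator _ _ _ ≪≫
      Functor.isoWhiskerLeft _ (DerTrunc.homologyMapIso (Scheme.Modules.restrictFunctor (awayMap e)) b) ≪≫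
      (Functor.associator _ _ _).symm ≪≫
      Functor.isoWhiskerRight (DerTrunc.homologyMapIso (tilde.functor (CommRingCat.of B)) b) _ ≪≫
      Functor.associator _ _ _
  have h1 : (DerivedCategory.homologyFunctor _ b).map (F.map (e • 𝟙 L)) = 0 := by
    rw [← cancel_mono (n.hom.app L), zero_comp]
    refine (n.hom.naturality (e • 𝟙 L)).trans ?_
    show n.hom.app L ≫ (Scheme.Modules.restrictFunctor (awayMap e)).map ((tilde.functor _).map (H.map (e • 𝟙 L))) = 0
    rw [h0, Functor.map_zero, Functor.map_zero, comp_zero]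
  have h2 : IsIso ((DerivedCategory.homologyFunctor _ b).map (F.map (e • 𝟙 L))) := by
    haveI : IsIso (F.map (e • 𝟙 L)) := by
      show IsIso ((resD (awayMap e)).map ((DCoh.tildeD (CommRingCat.of B)).map (e • 𝟙 L)))
      rw [ShriekBridge22.tildeD_map_smul_id]
      infer_instance
    exact Functor.map_isIso _ _
  refine (DerivedCategory.isLE_iff _ _).2 fun q hq => ?_
  rcases lt_or_eq_of_le (show b ≤ q by omega) with hq' | rfl
  · exact DerivedCategory.isZero_of_isLE Z b q hq'
  · rw [h1] at h2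
    refine (IsZero.iff_id_eq_zero _).2 ?_
    change 𝟙 ((DerivedCategory.homologyFunctor _ b).obj (F.obj L)) = 0
    rw [← IsIso.hom_inv_id (0 : (DerivedCategory.homologyFunctor _ b).obj (F.obj L) ⟶
      (DerivedCategory.homologyFunctor _ b).obj (F.obj L)), zero_comp]

end Scalar

end GrothLib.RightAdj20
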