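import Groth.Agent.Lib.DualRing.Biduality
import Groth.Agent.Lib.AlmostAmple24.Basic
import Groth.Agent.Lib.OX.KoszulOrth

/-! # The dual of a bounded below coherent complex is bounded above -/

set_option autoImplicit false
set_option maxHeartbeats 1000000
set_option linter.style.haveILetI false
set_option backward.isDefEq.respectTransparency false
universe v u

open CategoryTheory CategoryTheory.Limits AlgebraicGeometry

attribute [local instance] HasDerivedCategory.standard

noncomputable section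

namespace GrothLib.RightAdj20

open GrothLib.OX GrothLib.DualRing GrothLib.DualCx22

/-- Maps into a K-injective complex vanish when the degrees do not overlap. -/
theorem hom_eq_zero_of_bounds {C : Type*} [Category C] [Abelian C] [HasDerivedCategory C] (K I : CochainComplex C ℤ)
    [I.IsKInjective] (h : ∀ t, IsZero (K.X t) ∨ IsZero (I.X t))
    (g : DerivedCategory.Q.obj K ⟶ DerivedCategory.Q.obj I) : g = 0 := by
  let e := DerivedCategory.quotientCompQhIso C
  obtain ⟨ψ, hψ⟩ := (CochainComplex.IsKInjective.Qh_map_bijective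
    ((HomotopyCategory.quotient C (ComplexShape.up ℤ)).obj K) I).2 (e.hom.app K ≫ g ≫ e.inv.app I)
  obtain ⟨c, rfl⟩ := (HomotopyCategory.quotient C (ComplexShape.up ℤ)).map_surjective ψ
  have hc : c = 0 := HomologicalComplex.hom_ext _ _ fun t => by
    rcases h t with h' | h'
    · exact h'.eq_of_src _ _
    · exact h'.eq_of_tgt _ _
  rw [hc, Functor.map_zero, Functor.map_zero] at hψ
  have h1 : e.hom.app K ≫ g ≫ e.inv.app I = 0 := hψ.symm
  rw [← cancel_epi (e.hom.app K), ← cancel_mono (e.inv.app I), Category.assoc, h1]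
  simp

/-- The dual of a complex concentrated in degrees `≥ c` is concentrated in degrees `≤ b - c`. -/
theorem isZero_HD_dual {A : Type u} [CommRing A] {ω : Dual.D A} (r : InjRep ω) (L : DRing.Cx A) (c : ℤ)
    [(DRing.toD L).IsGE c] (i : ℤ) (hi : r.b - c < i) : Subsingleton (Dual.HD A (DRing.toD (r.dual L)) i) := by
  haveI : Subsingleton (DRing.toD L ⟶ ω⟦i⟧) := by
    obtain ⟨K', hK', ⟨e⟩⟩ := DerivedCategory.exists_iso_Q_obj_of_isGE (DRing.toD L) c
    haveI := hK'
    let I' : DRing.Cx A := r.I⟦i⟧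
    haveI : I'.IsStrictlyGE (r.a - i) := (CochainComplex.isStrictlyGE_iff _ _).2 fun t ht =>
      r.vanish (t + i) (Or.inl (by omega))
    haveI : ∀ t, Injective (I'.X t) := fun t => r.inj (t + i)
    haveI : I'.IsKInjective := CochainComplex.isKInjective_of_injective I' (r.a - i)
    let d : DerivedCategory.Q.obj I' ≅ ω⟦i⟧ :=
      (DerivedCategory.Q.commShiftIso i).app r.I ≪≫ (CategoryTheory.shiftFunctor (Dual.D A) i).mapIso r.iso
    refine subsingleton_of_forall_eq 0 fun g => ?_
    have hz := hom_eq_zero_of_bounds K' I' (fun t => by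
      by_cases ht : t < c
      · exact Or.inl (CochainComplex.isZero_of_isStrictlyGE K' c t ht)
      · exact Or.inr (r.vanish (t + i) (Or.inr (by omega)))) (e.inv ≫ g ≫ d.inv)
    rw [← cancel_epi e.inv, ← cancel_mono d.inv, Category.assoc, hz]
    simp
  exact (r.nonempty_HD_dual L i).some.toEquiv.subsingleton

variable {X : Scheme.{u}} [IsLocallyNoetherian X]
  [∀ (U : Scheme.{u}) (j : U ⟶ X) [IsOpenImmersion j], PreservesFiniteLimits (Scheme.Modules.restrictFunctor j)]
  [∀ (R : CommRingCat.{u}), PreservesFiniteLimits (tilde.functor R)]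
  {K : DCoh.D X} (hK : Dual2.IsDualizingSch X K)

include hK in
/-- **The dual of a bounded below coherent complex is bounded above.** -/
theorem exists_isLE_dual [CompactSpace X] (L : CochainComplex X.Modules ℤ)
    (hL : ∀ i : ℤ, Coh.IsCoh (DCoh.HD (DCoh.toD X L) i)) (c : ℤ) [(DCoh.toD X L).IsGE c]
    [DCoh.HasLTensorCx L] [DCoh.HasRSheafHom L] : ∃ B : ℤ, ((DCoh.RSheafHom L).obj K).IsLE B := by
  have h : ∀ x : X, ∃ (U : X.Opens) (B : ℤ), x ∈ U ∧ ∀ i, B < i →
      IsZero ((Scheme.Modules.restrictFunctor U.ι).obj (DCoh.HD ((DCoh.RSheafHom L).obj K) i)) := fun x => by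
    obtain ⟨A, _, _, j, _, hx, ω, r, Lc, -, -, -, -, ⟨eL⟩, ⟨eD⟩⟩ := exists_dual_chart hK L hL x
    haveI : (DRing.toD Lc).IsGE c := (DerivedCategory.isGE_iff _ _).2 fun i hi => by
      refine (isZero_tilde_iff (A := A) _).1 (((Scheme.Modules.restrictFunctor j).map_isZero
        (DerivedCategory.isZero_of_isGE (DCoh.toD X L) c i hi)).of_iso ?_)
      exact (HDTildeIso (R := CommRingCat.of A) (DRing.toD Lc) i).symm ≪≫
        (DerivedCategory.homologyFunctor _ i).mapIso eL.symm ≪≫ HDResIso j _ i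
    refine ⟨j.opensRange, r.b - c, hx, fun i hi => ?_⟩
    have hz : IsZero ((Scheme.Modules.restrictFunctor j).obj (DCoh.HD ((DCoh.RSheafHom L).obj K) i)) :=
      (((isZero_tilde_iff (A := A) _).2 (@ModuleCat.isZero_of_subsingleton _ _ _ (isZero_HD_dual r Lc c i hi))).of_iso
        ((HDResIso j _ i).symm ≪≫ (DerivedCategory.homologyFunctor _ i).mapIso eD ≪≫
          HDTildeIso (R := CommRingCat.of A) _ i))
    exact ((Scheme.Modules.restrictFunctor j.isoOpensRange.inv).map_isZero hz).of_iso
      (((Scheme.Modules.restrictFunctorComp j.isoOpensRange.inv j).symm ≪≫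
        Scheme.Modules.restrictFunctorCongr (by rw [Iso.inv_comp_eq, Scheme.Hom.isoOpensRange_hom_ι])).app _).symm
  choose U B hx hB using h
  obtain ⟨t, ht⟩ := isCompact_univ.elim_finite_subcover (fun x => (U x : Set X)) (fun x => (U x).isOpen)
    fun x _ => Set.mem_iUnion.2 ⟨x, hx x⟩
  obtain ⟨hi₀, hhi⟩ := (t.image B).bddAbove
  refine ⟨hi₀, (DerivedCategory.isLE_iff _ _).2 fun i hi => AlmostAmple24.isZero_of_cover (fun k : t => U k)
    (fun x => ?_) fun k => hB k i (lt_of_le_of_lt (hhi (Finset.mem_image_of_mem B k.2)) hi)⟩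
  obtain ⟨z, hz, hxz⟩ := Set.mem_iUnion₂.1 (ht (Set.mem_univ x))
  exact ⟨⟨z, hz⟩, hxz⟩

end GrothLib.RightAdj20
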