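import Groth.Agent.Lib.RightAdj20.TraceUnit
import Groth.Agent.Lib.DualCx22.DualRep
import Groth.Agent.Lib.HomBC22.Coh
import Groth.Agent.Lib.CMReg.ClosedSeq
import Groth.Agent.Lib.LefPic7.Triv
import Groth.Agent.Lib.OX.LocalLift
import Groth.Agent.Lib.RightAdj22.Coherent

/-! # The trace is invertible exactly when the unit is -/

set_option autoImplicit false
set_option maxHeartbeats 2000000
set_option linter.style.haveILetI false
set_option backward.isDefEq.respectTransparency false
universe u v w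

open CategoryTheory CategoryTheory.Limits AlgebraicGeometry CategoryTheory.Pretriangulated GrothLib.OX

attribute [local instance] HasDerivedCategory.standard

noncomputable section

namespace GrothLib.RightAdj20

/-- Finite objects without maps into a dualizing complex are zero. -/
theorem isZero_of_hom_dualizing {A : Type u} [CommRing A] {ω : Dual.D A} (hω : Dual.IsDualizing A ω) (L : Dual.D A)
    (hfin : ∀ i, Module.Finite A (Dual.HD A L i)) (h : ∀ i : ℤ, Subsingleton (L ⟶ ω⟦i⟧)) : IsZero L := by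
  haveI := hω.isNoetherianRing
  obtain ⟨r⟩ := DualCx22.nonempty_injRep hω
  let P := DerivedCategory.Q.objPreimage L
  let e : DRing.toD P ≅ L := DerivedCategory.Q.objObjPreimageIso L
  have hP : ∀ i, Module.Finite A (Dual.HD A (DRing.toD P) i) := fun i =>
    haveI := hfin i
    Module.Finite.equiv ((DerivedCategory.homologyFunctor (ModuleCat.{u} A) i).mapIso e.symm).toLinearEquiv
  have hd : IsZero (DRing.toD (r.dual P)) := DR.isZero_of_homology _ fun i => by
    obtain ⟨l⟩ := r.nonempty_HD_dual P i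
    haveI := h i
    haveI : Subsingleton (DRing.toD P ⟶ ω⟦i⟧) := e.homFromEquiv.subsingleton
    exact (DR.subsingleton_iff_isZero _).1 l.toEquiv.subsingleton
  refine IsZero.of_iso (DR.isZero_of_homology _ fun i => ?_) e.symm
  obtain ⟨l⟩ := r.nonempty_hom_dual P hP i
  haveI : Subsingleton (DRing.toD (r.dual P) ⟶ ω⟦i⟧) := ⟨fun a b => hd.eq_of_src a b⟩
  exact (DR.subsingleton_iff_isZero _).1 l.symm.toEquiv.subsingleton

section Schemes

variable {X Y : Scheme.{u}} [IsNoetherian Y] (f : X ⟶ Y) [IsProper f] [DCoh.HasRpush f]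
  (hf : DCoh.RpushPreservesQCoh f) {a : DCoh.DQCoh Y ⥤ DCoh.DQCoh X} (adj : DCoh.RpushQ f hf ⊣ a)
  [DCoh.HasLpull f] (b : DCoh.Lpull f ⊣ RR f) (K : DCoh.DQCoh Y)

/-- The trace is invertible when its total form is. -/
theorem isIso_trR_iff : IsIso (trR f hf adj K) ↔ IsIso (adj.counit.app K).hom :=
  isIso_comp_left_iff ((rpushIsoRres f).inv.app _) _

include adj b in
/-- An invertible unit at the structure sheaf makes the trace invertible. -/
theorem isIso_trR_of_isIso_unit (c : ℤ) [K.obj.IsGE c]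
    (hu : IsIso (b.unit.app (DCoh.inD Y (Coh.structureModule Y)))) : IsIso (trR f hf adj K) :=
  TorBC25.isIso_of_local_resD _ fun y => by
    obtain ⟨V, hV, hy, -⟩ := exists_isAffineOpen_mem_and_subset (x := y) (U := ⊤) trivial
    exact ⟨_, hV.fromSpec, inferInstance, OX.mem_range_fromSpec hV hy,
      isIso_resD_trR f hf adj K c hV b hu⟩

include adj b in
/-- A retraction of the unit at the structure sheaf makes the trace surjective on cohomology. -/
theorem epi_HD_trR (c : ℤ) [K.obj.IsGE c]
    (hu : ∃ ρ, b.unit.app (DCoh.inD Y (Coh.structureModule Y)) ≫ ρ = 𝟙 _) (q : ℤ) :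
    Epi ((DerivedCategory.homologyFunctor Y.Modules q).map (trR f hf adj K)) := by
  let φ := (DerivedCategory.homologyFunctor Y.Modules q).map (trR f hf adj K)
  suffices hz : IsZero (cokernel φ) from Abelian.epi_of_cokernel_π_eq_zero _ (hz.eq_of_tgt _ _)
  refine isZero_of_local fun y => ?_
  obtain ⟨V, hV, hy, -⟩ := exists_isAffineOpen_mem_and_subset (x := y) (U := ⊤) trivial
  refine ⟨_, hV.fromSpec, inferInstance, OX.mem_range_fromSpec hV hy, ?_⟩
  let R := Scheme.Modules.restrictFunctor hV.fromSpec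
  haveI := epi_resD_trR f hf adj K c hV b hu q
  haveI : Epi (R.map φ) := by
    let n := DerTrunc.homologyMapIso R q
    have e : R.map φ = n.inv.app _ ≫
        (DerivedCategory.homologyFunctor _ q).map ((resD hV.fromSpec).map (trR f hf adj K)) ≫ n.hom.app _ := by
      refine ((Iso.inv_hom_id_app_assoc n _ _).symm.trans ?_)
      exact congrArg (n.inv.app _ ≫ ·) (n.hom.naturality (trR f hf adj K)).symm
    rw [e]
    infer_instance
  haveI : R.PreservesEpimorphisms := inferInstance
  have h0 : R.map (cokernel.π φ) = 0 := by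
    rw [← cancel_epi (R.map φ), comp_zero, ← Functor.map_comp, cokernel.condition, Functor.map_zero]
  haveI : Epi (R.map (cokernel.π φ)) := inferInstance
  exact IsZero.of_epi_eq_zero (R.map (cokernel.π φ)) h0

include adj b in
/-- An invertible trace at a dualizing complex makes the unit invertible. -/
theorem isIso_unit_of_isIso_trR
    [∀ (U : Scheme.{u}) (j : U ⟶ Y) [IsOpenImmersion j], PreservesFiniteLimits (Scheme.Modules.restrictFunctor j)]
    [∀ R : CommRingCat.{u}, PreservesFiniteLimits (tilde.functor R)]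
    (hK : Dual2.IsDualizingSch Y K.obj) (htr : IsIso (trR f hf adj K)) :
    IsIso (b.unit.app (DCoh.inD Y (Coh.structureModule Y))) := by
  haveI : CompactSpace X := QuasiCompact.compactSpace_of_compactSpace f
  haveI : QuasiSeparatedSpace X := quasiSeparatedSpace_of_quasiSeparated f
  haveI : QuasiCompact f := inferInstance
  obtain ⟨c, hc⟩ := ShriekBridge22.exists_isGE_of_isDualizingSch K.property hK
  haveI := hc
  let O := DCoh.inD Y (Coh.structureModule Y)
  have hO : DCoh.IsQCohD O := isQCohD_of_isPerfect (isPerfect_unit Y)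
  obtain ⟨C, g, d, hT⟩ := distinguished_cocone_triangle (b.unit.app O)
  obtain ⟨l⟩ := TorBC25.nonempty_lpull_structure f
  have hR : DCoh.IsCohD ((RR f).obj ((DCoh.Lpull f).obj O)) :=
    RightAdj22.isCohD_of_iso ((rpushIsoRres f).app _)
      (HomBC22.isCohD_Rpush_perfect f (isPerfect_of_iso (isPerfect_unit X) l.symm)).1
  have hO' : DCoh.IsCohD O := fun i =>
    KSix19.BettiExact.isCoh_HD_of_pseudoCoherent (isPseudoCoherentD_of_isPerfect (isPerfect_unit Y) (i - 1))
      (by omega)
  have hP : ∀ {L : DCoh.D Y}, DCoh.IsCohD L → WSerre.cohIn (RpushSupp20.properP (𝟙 Y)) L := fun h i =>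
    ⟨h i, QCoh.isClosed_support_of_isCoh (h i), inferInstance⟩
  have hC : DCoh.IsCohD C := fun i => (DerTrunc.cohIn_obj₂ (RpushSupp20.properP (𝟙 Y))
    (rot_of_distTriang _ hT) (hP hR) (hP (fun j => QCoh.isCoh_of_iso
      (HDShiftIso O 1 j (1 + j) rfl).symm (hO' (1 + j)))) i).1
  suffices hz : IsZero C from (Triangle.isZero₃_iff_isIso₁ _ hT).1 hz
  refine isZero_of_support_empty fun q => Set.eq_empty_iff_forall_notMem.2 fun y hy => ?_
  obtain ⟨V, hV, hyV, -⟩ := exists_isAffineOpen_mem_and_subset (x := y) (U := ⊤) trivial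
  let i := hV.fromSpec
  refine (isZero_resD_iff_support i C).1 ?_ q hy (OX.mem_range_fromSpec hV hyV)
  haveI := (tildeD_full_faithful_essImage (R := Γ(Y, V))).2.1
  obtain ⟨M, ⟨eM⟩⟩ := exists_tildeD_rep (K := C) (fun j => (hC j).1) i
  obtain ⟨ω, hω, ⟨eω⟩⟩ := hK Γ(Y, V) i
  refine IsZero.of_iso ((DCoh.tildeD Γ(Y, V)).map_isZero (isZero_of_hom_dualizing hω M (fun j => ?_) fun n => ?_))
    eM.symm
  · exact (isCoh_tilde_iff _).1 (QCoh.isCoh_of_iso ((HDResIso i C j).symm ≪≫
      (DerivedCategory.homologyFunctor _ j).mapIso eM.symm ≪≫ HDTildeIso M j) (Cohom.isCoh_restrict _ (hC j) i))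
  · refine ⟨fun x y => ?_⟩
    suffices h0 : ∀ x : M ⟶ ω⟦n⟧, x = 0 from (h0 x).trans (h0 y).symm
    intro x
    let T := DCoh.tildeD Γ(Y, V)
    let S := shiftFunctor (DCoh.D (Spec Γ(Y, V))) (-n)
    let eC : (resD i).obj (C⟦-n⟧) ≅ S.obj (T.obj M) := ((resD i).commShiftIso (-n)).app C ≪≫ S.mapIso eM.symm
    let ew : S.obj (T.obj (ω⟦n⟧)) ≅ (resD i).obj K.obj :=
      S.mapIso ((T.commShiftIso n).app ω) ≪≫
        (shiftFunctorCompIsoId (DCoh.D (Spec Γ(Y, V))) n (-n) (by omega)).app (T.obj ω) ≪≫ eω.symm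
    have h0 := hom_eq_zero_of_isIso_trR f hf adj K c hV b htr hO g d hT (-n) (eC.hom ≫ S.map (T.map x) ≫ ew.hom)
    have h1 : S.map (T.map x) = 0 := by
      rw [← cancel_epi eC.hom, ← cancel_mono ew.hom]
      simpa using h0
    exact T.map_injective ((S.map_injective (h1.trans (S.map_zero _ _).symm)).trans (T.map_zero _ _).symm)

omit [AlgebraicGeometry.IsNoetherian Y] [IsProper f] [DCoh.HasRpush f] [DCoh.HasLpull f] in
/-- Maps from the structure sheaf into a direct image of one factor through the canonical map. -/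
theorem exists_factor_unitToPush (φ : Coh.structureModule Y ⟶ (Scheme.Modules.pushforward f).obj (Coh.structureModule X)) :
    ∃ ψ, φ = ClSub.unitToPush f ≫ (Scheme.Modules.pushforward f).map ψ := by
  let e : Γ(X, ⊤) := φ.val.app (Opposite.op ⊤) (1 : Y.ringCatSheaf.obj.obj (Opposite.op ⊤))
  refine ⟨LefPic7.mulEnd e, OX.hom_ext_top _ _ ?_⟩
  symm
  show (show Γ(X, ⊤) from (LefPic7.mulEnd e).app ⊤ (f.app ⊤ (1 : Γ(Y, ⊤)))) = e
  rw [map_one]
  exact (LefPic7.mulEnd_app_top e 1).trans (one_mul e)

include b in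
/-- `O → f_*O` is invertible and the higher direct images vanish exactly when the unit is invertible. -/
theorem unitToPush_iff [HasInjectiveResolutions X.Modules] :
    (IsIso (ClSub.unitToPush f) ∧ ∀ p : ℕ, 0 < p → IsZero ((Coh.Rpush f p).obj (Coh.structureModule X))) ↔
      IsIso (b.unit.app (DCoh.inD Y (Coh.structureModule Y))) := by
  let E := (RR f).obj (DCoh.inD X (Coh.structureModule X))
  let P := Scheme.Modules.pushforward f
  have hH : ∀ q : ℕ, Nonempty ((DerivedCategory.homologyFunctor Y.Modules (q : ℤ)).obj E ≅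
      (Coh.Rpush f q).obj (Coh.structureModule X)) := fun q =>
    SiteDer.nonempty_homology_Rres_single (OX.rmor f) (Coh.structureModule X) q
  haveI : E.IsGE 0 := by
    haveI : DerivedCategory.IsGE (DCoh.inD X (Coh.structureModule X)) 0 := inferInstance
    exact SiteDer.isGE_Rres (OX.rmor f) (DCoh.inD X (Coh.structureModule X)) 0
  let e₀ : (Coh.Rpush f 0).obj (Coh.structureModule X) ≅ P.obj (Coh.structureModule X) :=
    P.rightDerivedZeroIsoSelf.app _
  obtain ⟨l⟩ := TorBC25.nonempty_lpull_structure f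
  constructor
  · rintro ⟨h, hp⟩
    haveI : E.IsLE 0 := (DerivedCategory.isLE_iff _ _).2 fun i hi => by
      obtain ⟨q, rfl⟩ := Int.eq_ofNat_of_zero_le (show 0 ≤ i by omega)
      exact (hp q (by omega)).of_iso (hH q).some
    obtain ⟨M, ⟨eM⟩⟩ := DerivedCategory.exists_iso_singleFunctor_obj_of_isGE_of_isLE E 0
    let ε : M ≅ Coh.structureModule Y :=
      ((DerivedCategory.singleFunctorCompHomologyFunctorIso Y.Modules 0).app M).symm ≪≫
        (DerivedCategory.homologyFunctor Y.Modules 0).mapIso eM.symm ≪≫ (hH 0).some ≪≫ e₀ ≪≫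
        (@asIso _ _ _ _ (ClSub.unitToPush f) h).symm
    let eE : E ≅ DCoh.inD Y (Coh.structureModule Y) := eM ≪≫ (DerivedCategory.singleFunctor Y.Modules 0).mapIso ε
    exact RightAdj22.isIso_unit_of_comm b eE ((RR f).mapIso l ≪≫ eE)
      fun u v => RightAdj22.endD_comm (Iso.refl _) u v
  · intro h
    haveI := h
    let eE : E ≅ DCoh.inD Y (Coh.structureModule Y) :=
      (RR f).mapIso l.symm ≪≫ (asIso (b.unit.app (DCoh.inD Y (Coh.structureModule Y)))).symm
    refine ⟨?_, fun p hp => ?_⟩
    · let ε : P.obj (Coh.structureModule X) ≅ Coh.structureModule Y :=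
        e₀.symm ≪≫ (hH 0).some.symm ≪≫ (DerivedCategory.homologyFunctor Y.Modules 0).mapIso eE ≪≫
          (DerivedCategory.singleFunctorCompHomologyFunctorIso Y.Modules 0).app _
      obtain ⟨ψ, hψ⟩ := exists_factor_unitToPush f ε.inv
      refine RightAdj22.isIso_of_split (Iso.refl _) ε (fun u v => RightAdj22.end_comm u v) _ (P.map ψ ≫ ε.hom) ?_
      rw [← Category.assoc, ← hψ, Iso.inv_hom_id]
    · haveI : (DCoh.inD Y (Coh.structureModule Y)).IsLE 0 :=
        inferInstanceAs (((DerivedCategory.singleFunctor Y.Modules 0).obj _).IsLE 0)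
      haveI : E.IsLE 0 := DerivedCategory.TStructure.t.isLE_of_iso eE.symm 0
      exact (DerivedCategory.isZero_of_isLE E 0 (p : ℤ) (by omega)).of_iso (hH p).some.symm

end Schemes

end GrothLib.RightAdj20
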