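import Groth.Agent.Lib.DualRing.ShriekBaseChange
import Groth.Agent.Lib.DualRing.ShriekEnd
import Groth.Agent.Lib.DCxRing.LBaseComp
import Groth.Agent.Lib.KSix19.SpreadPerfect
import Groth.Agent.Lib.BaseChange22.Square

/-! # Simplicity of base changes and localisations of the relative dual of a flat algebra -/

set_option autoImplicit false
set_option maxHeartbeats 1000000
set_option linter.style.haveILetI false
universe u v w

open CategoryTheory CategoryTheory.Limits GrothLib.DualCx22
open scoped TensorProduct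

attribute [local instance] HasDerivedCategory.standard

namespace GrothLib.RightAdj20

open DualRing DualRing.Shriek

/-- Simplicity passes along isomorphisms and shifts. -/
theorem simple_of_iso_shift {C : Type u} [CommRing C] {X M : Dual.D C} (n : ℤ) (e : M ≅ X⟦n⟧)
    (hb : Function.Bijective fun c : C => c • 𝟙 X) (hi : ∀ i : ℤ, i ≠ 0 → Subsingleton (X ⟶ X⟦i⟧)) :
    (Function.Bijective fun c : C => c • 𝟙 M) ∧ ∀ i : ℤ, i ≠ 0 → Subsingleton (M ⟶ M⟦i⟧) := by
  let S := shiftFunctor (Dual.D C) n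
  constructor
  · have h : (fun c : C => c • 𝟙 M) =
        (Linear.homCongr C e.symm e.symm) ∘ (fun f : X ⟶ X => S.map f) ∘ fun c : C => c • 𝟙 X := by
      funext c
      change _ = (Linear.homCongr C e.symm e.symm) (S.map (c • 𝟙 X))
      rw [Functor.map_smul, CategoryTheory.Functor.map_id, map_smul]
      refine congrArg (c • ·) ?_
      change 𝟙 _ = (e.hom ≫ 𝟙 _) ≫ e.inv
      erw [Category.comp_id, e.hom_inv_id]
    rw [h]
    exact (Linear.homCongr C e.symm e.symm).bijective.comp
      (((Functor.FullyFaithful.ofFullyFaithful S).map_bijective X X).comp hb)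
  · intro i hi'
    haveI := hi i hi'
    haveI : Subsingleton (X⟦n⟧ ⟶ (X⟦i⟧)⟦n⟧) :=
      ((Functor.FullyFaithful.ofFullyFaithful S).homEquiv).symm.subsingleton
    exact (e.homCongr ((shiftFunctor (Dual.D C) i).mapIso e ≪≫ shiftComm X n i)).subsingleton

/-- Localisations are tor independent. -/
theorem tor_localization {P B L : Type u} [CommRing P] [CommRing B] [CommRing L] (φ : P →+* B) [Algebra P L]
    (M : Submonoid P) [IsLocalization M L] :
    letI := φ.toAlgebra; letI := (algebraMap P L).toAlgebra;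
    ∀ p : ℕ, 1 ≤ p → Subsingleton (DRing.Tor P p B L) := by
  have e : (algebraMap P L).toAlgebra = ‹Algebra P L› := Algebra.algebra_ext _ _ fun _ => rfl
  intro p hp
  rw [e]
  letI := φ.toAlgebra
  haveI : Module.Flat P L := IsLocalization.flat L M
  exact BaseChange22.subsingleton_tor_of_flat_right p hp

variable {R B : Type u} [CommRing R] [CommRing B] [Algebra R B] [IsNoetherianRing R] [Module.Flat R B]
  [Algebra.FinitePresentation R B]

/-- **Base changes and localisations of the relative dual of a flat algebra are simple.** -/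
theorem simple_lBase_GP {n : ℕ} (ψ : MvPolynomial (Fin n) R →ₐ[R] B) (hψ : Function.Surjective ψ)
    (A : Type u) [CommRing A] [Algebra R A] (g : A ⊗[R] B) (C : Type u) [CommRing C] [Algebra (A ⊗[R] B) C]
    [IsLocalization.Away g C] (αC : B →+* C)
    (hαC : αC = (algebraMap (A ⊗[R] B) C).comp (Algebra.TensorProduct.includeRight : B →ₐ[R] A ⊗[R] B).toRingHom)
    [DRing.HasLBaseChange αC] :
    (Function.Bijective fun c : C => c • 𝟙 ((DRing.LBaseChange αC).obj (GP ψ (Dual.inD R R)))) ∧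
      ∀ i : ℤ, i ≠ 0 → Subsingleton ((DRing.LBaseChange αC).obj (GP ψ (Dual.inD R R)) ⟶
        ((DRing.LBaseChange αC).obj (GP ψ (Dual.inD R R)))⟦i⟧) := by
  let P := MvPolynomial (Fin n) R
  let P' := MvPolynomial (Fin n) A
  let α : B →+* A ⊗[R] B := (Algebra.TensorProduct.includeRight : B →ₐ[R] A ⊗[R] B).toRingHom
  let φ : P →+* B := ψ.toRingHom
  let ρ : P →+* P' := MvPolynomial.map (algebraMap R A)
  let φ' : P' →+* A ⊗[R] B := (RelPC.bcPres (R' := A) ψ).toRingHom
  letI algP : Algebra P B := φ.toAlgebra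
  obtain ⟨E, a, b, ε, hE, hab, hε⟩ := exists_eps φ (PHom.isPerfectModule_pres PHom.isPerfectHom_of_flat ψ hψ)
  haveI := hε
  haveI := pfl_of_flat R (P := P)
  obtain ⟨W, hWK, -, ⟨eW⟩⟩ := GrothLib.KF.exists_kflat_rep ((RA φ).obj (Dual.inD P P))
  have hEF : GrothLib.KF.IsKFlat E := GrothLib.KF.isKFlat_of_bounded_above _ b (fun i hi => hab i (Or.inr hi))
    fun i => haveI := (hE i).2; inferInstanceAs (Module.Flat P (E.X i))
  -- the base change to `A`
  have hT : letI := φ.toAlgebra; letI := ρ.toAlgebra; ∀ p : ℕ, 1 ≤ p → Subsingleton (DRing.Tor P p B P') := by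
    letI : Algebra P P' := ρ.toAlgebra
    haveI : IsScalarTower R P B := IsScalarTower.of_algebraMap_eq fun r => (ψ.commutes r).symm
    haveI : IsScalarTower R P P' := IsScalarTower.of_algebraMap_eq fun r => by
      refine Eq.trans ?_ (MvPolynomial.map_C (algebraMap R A) r).symm
      exact IsScalarTower.algebraMap_apply R A P' r
    have hpush : Algebra.IsPushout R P A P' := by
      letI := MvPolynomial.algebraMvPolynomial (σ := Fin n) (R := R) (S := A)
      have := Algebra.IsPushout.symm (inferInstance : Algebra.IsPushout R A P P')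
      convert this using 1
      all_goals rfl
    exact fun p hp => subsingleton_tor_of_flat (R := R) (R' := A) p hp
  have hcomp : α.comp φ = φ'.comp ρ := RelPC.bcPres_comp (R' := A) ψ
  have hpo : DR.IsPushoutHom φ ρ α φ' hcomp := RelPC.isPushoutHom_pres ψ
  obtain ⟨ε₁, hε₁, -⟩ := Act.exists_eps_bc hcomp hpo hT hEF ε
  haveI := hε₁
  obtain ⟨eW₁⟩ := Act.nonempty_RA_bc hcomp hpo hT hE hab ε W hWK eW
  let E₁ := (DR.bc ρ).obj E
  have hE₁ : DRing.TermwiseFiniteProjective E₁ := KSix19.finiteProjective_bc ρ hE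
  have hab₁ : DRing.VanishesOutside E₁ a b := fun i hi => (ModuleCat.extendScalars.{u, u, u} ρ).map_isZero (hab i hi)
  have hE₁F : GrothLib.KF.IsKFlat E₁ := GrothLib.KF.isKFlat_baseChange ρ E hEF
  let W₁ := (DR.bc α).obj W
  have hW₁ : GrothLib.KF.IsKFlat W₁ := GrothLib.KF.isKFlat_baseChange α W hWK
  -- the localisation
  obtain ⟨g', hg'⟩ : ∃ g', φ' g' = g := RelPC.bcPres_surjective ψ hψ g
  let P'' := Localization.Away g'
  let ρ₂ : P' →+* P'' := algebraMap P' P''
  let α₂ : A ⊗[R] B →+* C := algebraMap _ C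
  have hu : IsUnit ((α₂.comp φ') g') := by
    rw [RingHom.comp_apply, hg']
    exact IsLocalization.Away.algebraMap_isUnit g
  let φ'' : P'' →+* C := IsLocalization.Away.lift g' hu
  have hcomp₂ : α₂.comp φ' = φ''.comp ρ₂ := (IsLocalization.lift_comp _).symm
  have hpo₂ : DR.IsPushoutHom φ' ρ₂ α₂ φ'' hcomp₂ := by
    unfold DR.IsPushoutHom
    letI := φ'.toAlgebra
    letI := φ''.toAlgebra
    letI algC : Algebra P' C := (α₂.comp φ').toAlgebra
    haveI : IsScalarTower P' (A ⊗[R] B) C := IsScalarTower.of_algebraMap_eq' rfl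
    haveI : IsScalarTower P' P'' C := IsScalarTower.of_algebraMap_eq' hcomp₂
    haveI : IsLocalization (Algebra.algebraMapSubmonoid (A ⊗[R] B) (Submonoid.powers g')) C := by
      rw [show Algebra.algebraMapSubmonoid (A ⊗[R] B) (Submonoid.powers g') = Submonoid.powers g by
        rw [Algebra.algebraMapSubmonoid, Submonoid.map_powers]
        exact congrArg Submonoid.powers hg']
      infer_instance
    have key : Algebra.IsPushout P' P'' (A ⊗[R] B) C :=
      (Algebra.isPushout_of_isLocalization (Submonoid.powers g') P'' (A ⊗[R] B) C).symm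
    convert key using 1
    all_goals first | rfl | exact Algebra.algebra_ext _ _ fun _ => rfl
  have hT₂ := tor_localization (L := P'') φ' (Submonoid.powers g')
  obtain ⟨ε₂, hε₂, -⟩ := Act.exists_eps_bc hcomp₂ hpo₂ hT₂ hE₁F ε₁
  haveI := hε₂
  obtain ⟨eW₂⟩ := Act.nonempty_RA_bc hcomp₂ hpo₂ hT₂ hE₁ hab₁ ε₁ W₁ hW₁ eW₁.symm
  let E₂ := (DR.bc ρ₂).obj E₁
  have hE₂ : DRing.TermwiseFiniteProjective E₂ := KSix19.finiteProjective_bc ρ₂ hE₁
  have hab₂ : DRing.VanishesOutside E₂ a b := fun i hi => (ModuleCat.extendScalars.{u, u, u} ρ₂).map_isZero (hab₁ i hi)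
  obtain ⟨hb, hi⟩ := ShriekEnd.simple_RA φ'' hE₂ hab₂ ε₂
  -- comparison
  obtain ⟨eP⟩ := nonempty_bcD_self (R := R) (P := P)
  let V := W⟦(n : ℤ)⟧
  have hV : GrothLib.KF.IsKFlat V := GrothLib.KF.isKFlat_shift hWK _
  let eV : DRing.toD V ≅ GP ψ (Dual.inD R R) :=
    ((DerivedCategory.Q (C := ModuleCat.{u} B)).commShiftIso (n : ℤ)).app W ≪≫
      (shiftFunctor (Dual.D B) (n : ℤ)).mapIso (eW ≪≫ (RA φ).mapIso eP.symm)
  obtain ⟨v⟩ := GrothLib.KF.lBase_value αC hV
  have hc : ModuleCat.extendScalars.{u, u, u} αC = ModuleCat.extendScalars.{u, u, u} (α₂.comp α) :=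
    congrArg ModuleCat.extendScalars.{u, u, u} hαC
  let c : (DR.bc αC).obj W ≅ (DR.bc α₂).obj W₁ :=
    ((Functor.mapHomologicalComplexCompIso ((ModuleCat.extendScalarsComp.{u, u} α α₂).symm ≪≫ eqToIso hc.symm)
      (ComplexShape.up ℤ)).app W).symm
  let e : (DRing.LBaseChange αC).obj (GP ψ (Dual.inD R R)) ≅ ((RA φ'').obj (Dual.inD P'' P''))⟦(n : ℤ)⟧ :=
    (DRing.LBaseChange αC).mapIso eV.symm ≪≫ v ≪≫
      DerivedCategory.Q.mapIso
        (((ModuleCat.extendScalars.{u, u, u} αC).mapHomologicalComplex (ComplexShape.up ℤ)).commShiftIso (n : ℤ) |>.app W) ≪≫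
      ((DerivedCategory.Q (C := ModuleCat.{u} C)).commShiftIso (n : ℤ)).app ((DR.bc αC).obj W) ≪≫
      (shiftFunctor (Dual.D C) (n : ℤ)).mapIso (DerivedCategory.Q.mapIso c ≪≫ eW₂.symm)
  exact simple_of_iso_shift (n : ℤ) e hb hi

end GrothLib.RightAdj20
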