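import Groth.Agent.Lib.RightAdj20.ModelAdjoint
import Groth.Agent.Lib.RightAdj20.SimpleBC
import Groth.Agent.Lib.RightAdj20.BaseChangeTools
import Groth.Agent.Lib.ShriekBridge22.FlatShriek
import Groth.Agent.Lib.RightAdj22.QFun

/-! # The relative dualizing complex over an affine base -/

set_option autoImplicit false
set_option maxHeartbeats 2000000
set_option linter.style.haveILetI false
set_option backward.isDefEq.respectTransparency false
universe u

open CategoryTheory CategoryTheory.Limits AlgebraicGeometry GrothLib.OX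
open scoped TensorProduct

attribute [local instance] HasDerivedCategory.standard

noncomputable section

namespace GrothLib.RightAdj20

theorem lfp_of_lft {X S : Scheme.{u}} [IsLocallyNoetherian S] (p : X ⟶ S) [LocallyOfFiniteType p] :
    LocallyOfFinitePresentation p := by
  rw [HasRingHomProperty.iff_appLE (P := @LocallyOfFinitePresentation)]
  intro U V e
  haveI := IsLocallyNoetherian.component_noetherian U
  exact RingHom.FinitePresentation.of_finiteType.mp (LocallyOfFiniteType.finiteType_appLE p U.2 V.2 e)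

theorem relPerf_of_iso {X S : Scheme.{u}} (f : X ⟶ S) [Flat f] {K L : DCoh.D X} (e : K ≅ L)
    (h : RelAmp22.RelPerf f K) : RelAmp22.RelPerf f L :=
  ⟨fun m => isPseudoCoherentD_of_iso (h.1 m) e, (RelAmp22.locHasFiniteRelTorDim_iff f L).2 fun x => by
    obtain ⟨V, a, b, hx, hV⟩ := (RelAmp22.locHasFiniteRelTorDim_iff f K).1 h.2 x
    exact ⟨V, a, b, hx, fun y hy => RelAmp22.ampAt_of_iso f e (hV y hy)⟩⟩

variable {A : Type u} [CommRing A] {X : Scheme.{u}}

/-- **The relative dualizing complex over an affine base is relatively perfect and simple on charts.** -/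
theorem affine_core (f : X ⟶ Spec (CommRingCat.of A)) [IsProper f] [Flat f] [LocallyOfFinitePresentation f]
    [DCoh.HasRpush f] (hf : DCoh.RpushPreservesQCoh f) {a : DCoh.DQCoh (Spec (CommRingCat.of A)) ⥤ DCoh.DQCoh X}
    (adj : DCoh.RpushQ f hf ⊣ a) (O : DCoh.DQCoh (Spec (CommRingCat.of A)))
    (hO : Nonempty (O.obj ≅ DCoh.inD _ (Coh.structureModule (Spec (CommRingCat.of A))))) :
    RelAmp22.RelPerf f (a.obj O).obj ∧
      ∀ (T : X.Opens) (x : X), x ∈ T → ∃ (B : Type u) (_ : CommRing B) (j : Spec (CommRingCat.of B) ⟶ X)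
        (_ : IsOpenImmersion j), x ∈ Set.range j ∧ j.opensRange ≤ T ∧ ∃ M : Dual.D B,
          (Function.Bijective fun b : B => b • 𝟙 M) ∧ (∀ i : ℤ, i ≠ 0 → Subsingleton (M ⟶ M⟦i⟧)) ∧
          Nonempty ((resD j).obj (a.obj O).obj ≅ (DCoh.tildeD (CommRingCat.of B)).obj M) := by
  haveI : ∀ B : CommRingCat.{u}, PreservesFiniteLimits (tilde.functor B) := OX.preservesFiniteLimits_tildeGen
  obtain ⟨S₀, X₀, π, p₀, q, _, _, _, _, hsq₀⟩ := TorBC25.exists_flat_proper_model f
  let R : Type u := Γ(S₀, ⊤)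
  let σ : S₀ ≅ Spec (CommRingCat.of R) := S₀.isoSpec
  let φ : R →+* A := (Spec.preimage (π ≫ σ.hom)).hom
  haveI : IsNoetherianRing R := IsLocallyNoetherian.component_noetherian ⟨⊤, isAffineOpen_top S₀⟩
  let p : X₀ ⟶ Spec (CommRingCat.of R) := p₀ ≫ σ.hom
  haveI : IsProper p := inferInstanceAs (IsProper (p₀ ≫ σ.hom))
  haveI : Flat p := inferInstanceAs (Flat (p₀ ≫ σ.hom))
  haveI : LocallyOfFinitePresentation p := lfp_of_lft p
  have hπ' : Spec.map (CommRingCat.ofHom φ) = π ≫ σ.hom := Spec.map_preimage _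
  have hsq : IsPullback q f p (Spec.map (CommRingCat.ofHom φ)) := by
    rw [hπ']
    exact hsq₀.of_iso (Iso.refl _) (Iso.refl _) (Iso.refl _) σ (by simp) (by simp) (by simp [p]) (by simp)
  haveI : CompactSpace X₀ := QuasiCompact.compactSpace_of_compactSpace p
  haveI : QuasiSeparatedSpace X₀ := quasiSeparatedSpace_of_quasiSeparated p
  haveI : DCoh.HasRpush p := KInj.hasRightDerivedFunctor _
  have hp : DCoh.RpushPreservesQCoh p := fun K hK =>
    GrothLib.KSix19.BettiExact.isQCohD_of_iso' ((rpushIsoRres p).app K).symm (isQCohD_Rres p K hK)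
  haveI : (DCoh.RpushQ p hp).IsLeftAdjoint := GrothLib.OX.isLeftAdjoint_lift_Rpush p hp
  let a₀ := (DCoh.RpushQ p hp).rightAdjoint
  let adj₀ : DCoh.RpushQ p hp ⊣ a₀ := Adjunction.ofIsLeftAdjoint _
  let O₀ : DCoh.DQCoh (Spec (CommRingCat.of R)) :=
    ⟨DCoh.inD _ (Coh.structureModule _), isQCohD_of_isPerfect (isPerfect_unit _)⟩
  haveI := hasLpull q
  obtain ⟨eω⟩ := nonempty_lpull_adjoint φ hsq hp adj₀ O₀ ⟨Iso.refl _⟩ hf adj O hO
  let c : DEt.Compactification p :=
    { Xbar := X₀, j := 𝟙 X₀, fbar := p, isOpenImmersion := inferInstance, isProper := inferInstance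
      fac := Category.id_comp p }
  haveI : DCoh.HasRpush c.fbar := ‹DCoh.HasRpush p›
  haveI : PreservesFiniteLimits (Scheme.Modules.restrictFunctor c.j) := inferInstance
  let sC : (Dual3.shriekC c a₀).obj O₀ ≅ (a₀.obj O₀).obj := (RightAdj22.resDIdIso X₀).app _
  refine ⟨relPerf_of_iso f eω (relPerf_of_isPullback hsq
    (relPerf_of_iso p sC (ShriekBridge22.relPerf_shriekC p c hp adj₀ O₀ ⟨Iso.refl _⟩))), fun T x hxT => ?_⟩
  obtain ⟨W₀, hW₀, hxW, -⟩ := exists_isAffineOpen_mem_and_subset (x := q x) (U := ⊤) trivial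
  let B₀ : Type u := Γ(X₀, W₀)
  let j₀ : Spec (CommRingCat.of B₀) ⟶ X₀ := hW₀.fromSpec
  haveI : IsOpenImmersion j₀ := inferInstanceAs (IsOpenImmersion hW₀.fromSpec)
  let γ := Spec.preimage (j₀ ≫ p)
  letI algB : Algebra R B₀ := γ.hom.toAlgebra
  letI algA : Algebra R A := φ.toAlgebra
  have hγ : Spec.map (CommRingCat.ofHom (algebraMap R B₀)) = j₀ ≫ p := Spec.map_preimage _
  haveI : Module.Flat R B₀ := by
    have h : Flat (Spec.map (CommRingCat.ofHom (algebraMap R B₀))) := by rw [hγ]; infer_instance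
    exact RingHom.flat_algebraMap_iff.1 ((HasRingHomProperty.Spec_iff (P := @Flat)).1 h)
  haveI : Algebra.FinitePresentation R B₀ := by
    haveI : LocallyOfFinitePresentation j₀ := inferInstance
    have h : LocallyOfFinitePresentation (Spec.map (CommRingCat.ofHom (algebraMap R B₀))) := by
      rw [hγ]; infer_instance
    exact RingHom.finitePresentation_algebraMap.1
      ((HasRingHomProperty.Spec_iff (P := @LocallyOfFinitePresentation)).1 h)
  obtain ⟨n, ψ, hψ⟩ := Algebra.FiniteType.iff_quotient_mvPolynomial''.1 (inferInstance : Algebra.FiniteType R B₀)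
  -- the chart over the base change
  let D := A ⊗[R] B₀
  let s₁ : Spec (CommRingCat.of D) ⟶ Spec (CommRingCat.of A) :=
    Spec.map (CommRingCat.ofHom (Algebra.TensorProduct.includeLeftRingHom : A →+* D))
  let s₂ : Spec (CommRingCat.of D) ⟶ Spec (CommRingCat.of B₀) :=
    Spec.map (CommRingCat.ofHom (Algebra.TensorProduct.includeRight : B₀ →ₐ[R] D).toRingHom)
  have hbig : IsPullback s₁ s₂ (Spec.map (CommRingCat.ofHom φ)) (Spec.map (CommRingCat.ofHom (algebraMap R B₀))) :=
    IsPullback.of_iso_pullback ⟨by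
      rw [← Spec.map_comp, ← Spec.map_comp]
      exact congrArg Spec.map (CommRingCat.hom_ext (RingHom.ext fun r =>
        (Algebra.TensorProduct.includeRight.commutes r).symm))⟩
      (pullbackSpecIso R A B₀).symm (pullbackSpecIso_inv_fst R A B₀) (pullbackSpecIso_inv_snd R A B₀)
  let j' : Spec (CommRingCat.of D) ⟶ X := hsq.lift (s₂ ≫ j₀) s₁ (by
    rw [Category.assoc, ← hγ]; exact hbig.w.symm)
  have hj'q : j' ≫ q = s₂ ≫ j₀ := hsq.lift_fst _ _ _
  have hj'f : j' ≫ f = s₁ := hsq.lift_snd _ _ _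
  have hj' : IsPullback j' s₂ q j₀ := by
    refine IsPullback.of_right ?_ hj'q hsq.flip
    rw [hj'f, ← hγ]
    exact hbig
  haveI : IsOpenImmersion j' := MorphismProperty.of_isPullback (P := @IsOpenImmersion) hj'.flip ‹IsOpenImmersion j₀›
  obtain ⟨z, hz⟩ : x ∈ Set.range j' := by
    have h := RightAdj22.range_fst_eq hj'
    have hx' : x ∈ j'.opensRange := by
      rw [h]
      show q x ∈ j₀.opensRange
      exact (hW₀.opensRange_fromSpec.symm ▸ hxW :)
    exact hx'
  obtain ⟨U, ⟨g, rfl⟩, hzg, hgT⟩ := PrimeSpectrum.isTopologicalBasis_basic_opens.exists_subset_of_mem_open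
    (show z ∈ (j' ⁻¹' (T : Set X)) by show j' z ∈ T; rwa [hz]) (T.isOpen.preimage j'.continuous)
  let C := Localization.Away g
  let i : Spec (CommRingCat.of C) ⟶ Spec (CommRingCat.of D) := Spec.map (CommRingCat.ofHom (algebraMap D C))
  haveI : IsOpenImmersion i := IsOpenImmersion.of_isLocalization g
  have hi : Set.range i = ((PrimeSpectrum.basicOpen g : TopologicalSpace.Opens (PrimeSpectrum D)) : Set (PrimeSpectrum D)) := PrimeSpectrum.localization_away_comap_range C g
  let αC : B₀ →+* C := (algebraMap D C).comp (Algebra.TensorProduct.includeRight : B₀ →ₐ[R] D).toRingHom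
  haveI := GrothLib.KF.hasLBaseChange αC
  obtain ⟨hb, hi'⟩ := simple_lBase_GP ψ hψ A g C αC rfl
  refine ⟨C, inferInstance, i ≫ j', inferInstance, ?_, ?_, _, hb, hi', ?_⟩
  · obtain ⟨z', hz'⟩ : z ∈ Set.range i := hi ▸ hzg
    exact ⟨z', by rw [Scheme.Hom.comp_apply, hz', hz]⟩
  · rintro _ ⟨y, rfl⟩
    show (i ≫ j') y ∈ T
    rw [Scheme.Hom.comp_apply]
    exact hgT (hi.le (Set.mem_range_self y))
  let k : Spec (CommRingCat.of C) ⟶ Spec (CommRingCat.of B₀) := OX.specHom αC
  have hk : k = i ≫ s₂ := by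
    rw [← Spec.map_comp]
    rfl
  haveI := hasLpull k
  haveI : DCoh.HasLpull (OX.specHom αC) := ‹DCoh.HasLpull k›
  obtain ⟨sq⟩ := nonempty_resD_lpull_square q (i ≫ j') j₀ k (by rw [hk, Category.assoc, Category.assoc, hj'q])
  obtain ⟨e₀⟩ := ShriekBridge22.nonempty_resD_unit (𝟙 (Spec (CommRingCat.of R))) (O := O₀.obj) ⟨Iso.refl _⟩
  haveI : O₀.obj.IsGE 0 := ShriekBridge22.isGE_zero_of_iso_structure ⟨Iso.refl _⟩
  obtain ⟨ec⟩ := ShriekBridge22.nonempty_shriekC_chart c hp adj₀ (𝟙 _) j₀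
    (by rw [Category.comp_id]; exact hγ.symm) ψ hψ O₀ 0 inferInstance _ e₀
  obtain ⟨bt⟩ := OX.nonempty_bcTilde_iso αC
  exact ⟨(resD (i ≫ j')).mapIso eω.symm ≪≫ sq.app _ ≪≫
    (DCoh.Lpull k).mapIso ((resD j₀).mapIso sC.symm ≪≫ ec) ≪≫ (bt.app _).symm⟩

end GrothLib.RightAdj20
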