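import Groth.Agent.Lib.RightAdj20.DualNat
import Groth.Agent.Lib.RightAdj22.Supp

/-! # The right adjoint of `Rf_*` commutes with perfect twists -/

set_option autoImplicit false
set_option maxHeartbeats 1000000
set_option linter.style.haveILetI false
set_option backward.isDefEq.respectTransparency false
universe u

open CategoryTheory CategoryTheory.Limits AlgebraicGeometry HomologicalComplex Opposite

attribute [local instance] HasDerivedCategory.standard

noncomputable section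

namespace GrothLib.RightAdj20

open GrothLib.OX GrothLib.RightAdj22

variable {X Y : Scheme.{u}}

/-- A dual pair of perfect complexes. -/
theorem exists_dual_pair (K : CochainComplex X.Modules ℤ) (hK : DCoh.IsKFlat K) [DCoh.HasLTensorCx K]
    [DCoh.HasRSheafHom K] (hKp : DCoh.IsPerfect (DerivedCategory.Q.obj K)) :
    ∃ (D : CochainComplex X.Modules ℤ) (_ : DCoh.IsKFlat D) (_ : DCoh.HasLTensorCx D) (_ : DCoh.HasRSheafHom D),
      DCoh.IsPerfect (DerivedCategory.Q.obj D) ∧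
      Nonempty (DerivedCategory.Q.obj K ≅
        (DCoh.RSheafHom D).obj ((DerivedCategory.singleFunctor X.Modules 0).obj (Coh.structureModule X))) ∧
      Nonempty (DerivedCategory.Q.obj D ≅
        (DCoh.RSheafHom K).obj ((DerivedCategory.singleFunctor X.Modules 0).obj (Coh.structureModule X))) := by
  obtain ⟨J, i₀, hi₀, hJ, hJi⟩ := KInj.exists_kInjective_resolution (A := X.Modules) (unitCx X)
  haveI := hi₀
  haveI := hJ
  obtain ⟨Dk, q, hDk, -, hq, -⟩ := exists_kflat_resolution ((homCx K).obj J)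
  haveI := hq
  haveI := hasLTensorCx Dk
  haveI := hasRSheafHom Dk
  obtain ⟨vJ⟩ := nonempty_RSheafHom_value K hK J
  let iD : DerivedCategory.Q.obj Dk ≅
      (DCoh.RSheafHom K).obj ((DerivedCategory.singleFunctor X.Modules 0).obj (Coh.structureModule X)) :=
    asIso (DerivedCategory.Q.map q) ≪≫ vJ.symm ≪≫
      (DCoh.RSheafHom K).mapIso ((asIso (DerivedCategory.Q.map i₀)).symm ≪≫ unitCxQIso X)
  have hDkp : DCoh.IsPerfect (DerivedCategory.Q.obj Dk) :=
    isPerfect_of_iso (isPerfect_RSheafHom_of_perfect K hKp (isPerfect_unit X)) iD.symm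
  obtain ⟨vD⟩ := nonempty_RSheafHom_value Dk hDk J
  have h1 : IsIso (DerivedCategory.Q.map (DualPerf22.evC J K)) := DualPerf22.isIso_Q_evC hJi i₀ K hKp
  have h2 : IsIso (DerivedCategory.Q.map (homMap q J)) := DualPerf22.isIso_Q_homMap q hq J hJi
  exact ⟨Dk, hDk, inferInstance, inferInstance, hDkp,
    ⟨asIso (DerivedCategory.Q.map (DualPerf22.evC J K)) ≪≫ asIso (DerivedCategory.Q.map (homMap q J)) ≪≫ vD.symm ≪≫
      (DCoh.RSheafHom Dk).mapIso ((asIso (DerivedCategory.Q.map i₀)).symm ≪≫ unitCxQIso X)⟩, ⟨iD⟩⟩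

/-- **Pullback commutes with duals.** -/
theorem nonempty_lpull_dual (f : X ⟶ Y) [QuasiCompact f] [QuasiSeparated f] [DCoh.HasLpull f] [DCoh.HasRpush f]
    {K D : CochainComplex Y.Modules ℤ} [DCoh.HasLTensorCx K] [DCoh.HasRSheafHom K] [DCoh.HasLTensorCx D]
    (hK : DCoh.IsKFlat K) (hKp : DCoh.IsPerfect (DerivedCategory.Q.obj K))
    (hD : DCoh.IsKFlat D) (hDp : DCoh.IsPerfect (DerivedCategory.Q.obj D))
    (i : DerivedCategory.Q.obj D ≅
      (DCoh.RSheafHom K).obj ((DerivedCategory.singleFunctor Y.Modules 0).obj (Coh.structureModule Y)))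
    {D'' : CochainComplex X.Modules ℤ} [DCoh.HasLTensorCx D''] [DCoh.HasRSheafHom D'']
    (hD'' : DCoh.IsKFlat D'') (hD''p : DCoh.IsPerfect (DerivedCategory.Q.obj D''))
    (i'' : DerivedCategory.Q.obj ((pullCxF f).obj D) ≅
      (DCoh.RSheafHom D'').obj ((DerivedCategory.singleFunctor X.Modules 0).obj (Coh.structureModule X))) :
    Nonempty ((DCoh.Lpull f).obj (DerivedCategory.Q.obj K) ≅ DerivedCategory.Q.obj D'') := by
  haveI := hasLTensorCx ((pullCxF f).obj D)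
  obtain ⟨adj⟩ := nonempty_lpullAdj f
  obtain ⟨hY⟩ := nonempty_homO hK hKp i
  obtain ⟨hX⟩ := nonempty_homO hD'' hD''p i''
  obtain ⟨τ⟩ := nonempty_proj_nat f D hD (isQCohD_of_isPerfect hDp)
  obtain ⟨u⟩ := Detect22.nonempty_lpull_unit f
  let r := rpushIsoRres f
  let Φ : ∀ (G : DCoh.DQCoh X), ((DCoh.Lpull f).obj (DerivedCategory.Q.obj K) ⟶ G.obj) ≃
      (DerivedCategory.Q.obj D'' ⟶ G.obj) := fun G =>
    (adj.homEquiv _ _).trans <| (hY.app ((DCoh.Rpush f).obj G.obj)).toEquiv.trans <|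
      (((DCoh.LTensorCx D).mapIso (r.app G.obj) ≪≫ τ.app G ≪≫ (r.app _).symm).homToEquiv).trans <|
      (adj.homEquiv _ _).symm.trans <| u.homFromEquiv.trans (hX.app G.obj).toEquiv.symm
  have hΦ : ∀ {G G' : DCoh.DQCoh X} (g : G ⟶ G') (x : (DCoh.Lpull f).obj (DerivedCategory.Q.obj K) ⟶ G.obj),
      Φ G' (x ≫ g.hom) = Φ G x ≫ g.hom := fun {G G'} g x => by
    have hY' : ∀ z, (hY.app _).hom (z ≫ (DCoh.Rpush f).map g.hom) =
        (hY.app _).hom z ≫ (DCoh.LTensorCx D).map ((DCoh.Rpush f).map g.hom) := fun z =>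
      congrArg (fun φ => φ z) (hY.hom.naturality ((DCoh.Rpush f).map g.hom))
    have hX' : ∀ z, (hX.app G'.obj).inv (z ≫ (DCoh.LTensorCx ((pullCxF f).obj D)).map g.hom) =
        (hX.app G.obj).inv z ≫ g.hom := fun z => congrArg (fun φ => φ z) (hX.inv.naturality g.hom)
    have n₁ : (DCoh.LTensorCx D).map ((DCoh.Rpush f).map g.hom) ≫ (DCoh.LTensorCx D).map (r.hom.app G'.obj) =
        (DCoh.LTensorCx D).map (r.hom.app G.obj) ≫ (DCoh.LTensorCx D).map ((RR f).map g.hom) := by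
      rw [← Functor.map_comp, ← Functor.map_comp]
      exact congrArg _ (r.hom.naturality g.hom)
    have n₂ : (DCoh.LTensorCx D).map ((RR f).map g.hom) ≫ τ.hom.app G' =
        τ.hom.app G ≫ (RR f).map ((DCoh.LTensorCx ((pullCxF f).obj D)).map g.hom) := τ.hom.naturality g
    have n₃ : (RR f).map ((DCoh.LTensorCx ((pullCxF f).obj D)).map g.hom) ≫ r.inv.app _ =
        r.inv.app _ ≫ (DCoh.Rpush f).map ((DCoh.LTensorCx ((pullCxF f).obj D)).map g.hom) := r.inv.naturality _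
    show (hX.app G'.obj).inv (u.inv ≫ (adj.homEquiv _ _).symm ((hY.app _).hom (adj.homEquiv _ _ (x ≫ g.hom)) ≫
        ((DCoh.LTensorCx D).map (r.hom.app G'.obj) ≫ τ.hom.app G' ≫ r.inv.app _))) =
      (hX.app G.obj).inv (u.inv ≫ (adj.homEquiv _ _).symm ((hY.app _).hom (adj.homEquiv _ _ x) ≫
        ((DCoh.LTensorCx D).map (r.hom.app G.obj) ≫ τ.hom.app G ≫ r.inv.app _))) ≫ g.hom
    rw [adj.homEquiv_naturality_right, hY', ← hX', Category.assoc u.inv, ← adj.homEquiv_naturality_right_symm]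
    refine congrArg (fun t => (hX.app G'.obj).inv (u.inv ≫ (adj.homEquiv _ _).symm t)) ?_
    refine (Category.assoc _ _ _).trans (Eq.trans (congrArg (_ ≫ ·) ?_) (Category.assoc _ _ _).symm)
    rw [Category.assoc, Category.assoc]
    exact (Category.assoc _ _ _).symm.trans ((congrArg (· ≫ _) n₁).trans ((Category.assoc _ _ _).trans
      (congrArg (_ ≫ ·) ((Category.assoc _ _ _).symm.trans ((congrArg (· ≫ _) n₂).trans
        ((Category.assoc _ _ _).trans (congrArg (_ ≫ ·) n₃)))))))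
  let A : DCoh.DQCoh X := ⟨(DCoh.Lpull f).obj (DerivedCategory.Q.obj K),
    isQCohD_of_isPerfect (isPerfect_lpull f hKp)⟩
  let B : DCoh.DQCoh X := ⟨DerivedCategory.Q.obj D'', isQCohD_of_isPerfect hD''p⟩
  let full : ∀ (A B : DCoh.DQCoh X), (A ⟶ B) ≃ (A.obj ⟶ B.obj) := fun A B =>
    { toFun := fun g => g.hom, invFun := fun g => ObjectProperty.homMk g }
  let n : B ≅ A := (Coyoneda.fullyFaithful.preimageIso
    (NatIso.ofComponents (fun G => (((full A G).trans (Φ G)).trans (full B G).symm).toIso) (fun {G G'} g => by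
      ext x
      exact ObjectProperty.hom_ext _ (hΦ g x.hom)) : coyoneda.obj (op A) ≅ coyoneda.obj (op B))).unop
  exact ⟨(DCoh.IsQCohD (X := X)).ι.mapIso n.symm⟩

/-- Symmetry of the derived tensor product. -/
theorem nonempty_ltensor_symm (D E : CochainComplex X.Modules ℤ) (hD : DCoh.IsKFlat D) [DCoh.HasLTensorCx D]
    [DCoh.HasLTensorCx E] :
    Nonempty ((DCoh.LTensorCx D).obj (DerivedCategory.Q.obj E) ≅
      (DCoh.LTensorCx E).obj (DerivedCategory.Q.obj D)) := by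
  obtain ⟨a⟩ := ltensorCx_value_of_isKFlat D hD E
  obtain ⟨b⟩ := ltensorCx_value E D hD
  exact ⟨a ≪≫ DerivedCategory.Q.mapIso (tensorCxSymm D E) ≪≫ b.symm⟩

/-- **`a (K ⊗^L L) = Lf^* K ⊗^L a L`.** -/
theorem nonempty_adjoint_ltensor (f : X ⟶ Y) [QuasiCompact f] [QuasiSeparated f] [DCoh.HasRpush f]
    (hf : DCoh.RpushPreservesQCoh f) {a : DCoh.DQCoh Y ⥤ DCoh.DQCoh X} (adj : DCoh.RpushQ f hf ⊣ a)
    [DCoh.HasLpull f] (K L : DCoh.DQCoh Y) (hK : DCoh.IsPerfect K.obj) (K' : CochainComplex Y.Modules ℤ)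
    (eK : DerivedCategory.Q.obj K' ≅ K.obj) [DCoh.HasLTensorCx K']
    (hKL : DCoh.IsQCohD ((DCoh.LTensorCx K').obj L.obj)) (E : CochainComplex X.Modules ℤ)
    (eE : DerivedCategory.Q.obj E ≅ (a.obj L).obj) [DCoh.HasLTensorCx E] :
    Nonempty ((a.obj ⟨(DCoh.LTensorCx K').obj L.obj, hKL⟩).obj ≅
      (DCoh.LTensorCx E).obj ((DCoh.Lpull f).obj K.obj)) := by
  obtain ⟨P, hP, ⟨eP⟩⟩ := exists_kflat_rep K.obj
  have hPp : DCoh.IsPerfect (DerivedCategory.Q.obj P) := isPerfect_of_iso hK eP.symm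
  haveI := hasLTensorCx P
  haveI := hasRSheafHom P
  obtain ⟨D, hD, _, _, hDp, ⟨iP⟩, ⟨iD⟩⟩ := exists_dual_pair P hP hPp
  haveI := hasLTensorCx ((pullCxF f).obj D)
  haveI := hasRSheafHom ((pullCxF f).obj D)
  obtain ⟨D'', hD'', _, _, hD''p, ⟨iPD⟩, ⟨iD''⟩⟩ :=
    exists_dual_pair ((pullCxF f).obj D) (isKFlat_pullback f hD) (isPerfect_pull f hD hDp)
  obtain ⟨p⟩ := nonempty_lpull_dual f hP hPp hD hDp iD hD'' hD''p iPD
  obtain ⟨c⟩ := nonempty_ltensorCx_congr_of_iso (eK ≪≫ eP.symm)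
  obtain ⟨d⟩ := nonempty_tensor_dual_iso D P hD hDp iP L.obj
  obtain ⟨n⟩ := nonempty_adjoint_RHom f hf adj D hD hDp L ⟨(DCoh.LTensorCx K').obj L.obj, hKL⟩ (c.app L.obj ≪≫ d)
  obtain ⟨d'⟩ := nonempty_tensor_dual_iso ((pullCxF f).obj D) D'' (isKFlat_pullback f hD)
    (isPerfect_pull f hD hDp) iD'' (a.obj L).obj
  obtain ⟨s⟩ := nonempty_ltensor_symm D'' E hD''
  exact ⟨n ≪≫ d'.symm ≪≫ (DCoh.LTensorCx D'').mapIso eE.symm ≪≫ s ≪≫
    (DCoh.LTensorCx E).mapIso (p.symm ≪≫ (DCoh.Lpull f).mapIso eP)⟩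

end GrothLib.RightAdj20
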