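import Groth.Agent.Lib.RightAdj20.TraceCM
import Groth.Agent.Lib.RatSing29.SeqH1
import Groth.Agent.Lib.RatSing29.ModifDim
import Groth.Agent.Lib.RatSing29.PowIdeal
import Groth.Agent.Lib.RatSing29.BlowUpNormal
import Groth.Agent.Lib.QCoh.Abelian
import Groth.Agent.Lib.OX.TensorAssoc
import Groth.Agent.Lib.ZClos.Basic
import Groth.Agent.Lib.VA.Tensor
import Groth.Agent.Lib.Euler.TensorSupport
import Groth.Agent.S7298
import Groth.Agent.S9801

/-! # The trace along a modification of a rational surface singularity -/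

set_option autoImplicit false
set_option maxHeartbeats 1000000
set_option linter.style.haveILetI false
set_option backward.isDefEq.respectTransparency false
universe u

open CategoryTheory CategoryTheory.Limits AlgebraicGeometry CategoryTheory.Pretriangulated GrothLib.OX TopologicalSpace

attribute [local instance] HasDerivedCategory.standard

noncomputable section

namespace GrothLib.RightAdj20

variable (A : Type u) [CommRing A] [IsDomain A] [IsLocalRing A] [IsNoetherianRing A] [IsIntegrallyClosed A]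

omit [IsLocalRing A] [IsNoetherianRing A] in
theorem isNormalScheme_spec : Pi1.IsNormalScheme (Spec (CommRingCat.of A)) := fun x => by
  haveI : IsDomain (Localization.AtPrime x.asIdeal) :=
    IsLocalization.isDomain_localization x.asIdeal.primeCompl_le_nonZeroDivisors
  haveI : IsIntegrallyClosed (Localization.AtPrime x.asIdeal) :=
    isIntegrallyClosed_of_isLocalization _ x.asIdeal.primeCompl x.asIdeal.primeCompl_le_nonZeroDivisors
  let e : (Spec (CommRingCat.of A)).presheaf.stalk x ≃+* Localization.AtPrime x.asIdeal :=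
    (StructureSheaf.stalkIso A x).symm.toRingEquiv
  exact ⟨e.toMulEquiv.isDomain _, IsIntegrallyClosed.of_equiv e.symm⟩

/-- A dualizing complex of a ring gives one on its spectrum. -/
theorem isDualizingSch_spec (ω : Dual.D A) (hω : Dual.IsDualizing A ω) {K : DCoh.D (Spec (CommRingCat.of A))}
    (e : K ≅ (DCoh.tildeD (CommRingCat.of A)).obj ω) : Dual2.IsDualizingSch (Spec (CommRingCat.of A)) K :=
  DualRing.isDualizingSch_of_dualCharts fun x => ⟨A, inferInstance, 𝟙 _, inferInstance,
    ⟨x, rfl⟩, ω, hω, ⟨(RightAdj22.resDIdIso (Spec (CommRingCat.of A))).app K ≪≫ e⟩⟩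

end GrothLib.RightAdj20

namespace GrothLib.RightAdj20

variable {Y : Scheme.{u}} [IsLocallyNoetherian Y]
  [∀ (U : Scheme.{u}) (j : U ⟶ Y) [IsOpenImmersion j], PreservesFiniteLimits (Scheme.Modules.restrictFunctor j)]
  [∀ (R : CommRingCat.{u}), PreservesFiniteLimits (tilde.functor R)]

/-- The support of a cohomology sheaf of a dualizing complex is closed. -/
theorem isClosed_setOf_nontrivial_stalk {K : DCoh.D Y} (hK : Dual2.IsDualizingSch Y K) (i : ℤ) :
    IsClosed {y : Y | Nontrivial ((DCoh.HD K i).presheaf.stalk y)} := by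
  refine ⟨isOpen_iff_forall_mem_open.2 fun y hy => ?_⟩
  obtain ⟨U, hU, hyU, -⟩ := exists_isAffineOpen_mem_and_subset (x := y) (U := ⊤) trivial
  obtain ⟨q, hq⟩ := OX.mem_range_fromSpec hU hyU
  haveI : IsNoetherianRing Γ(Y, U) := IsLocallyNoetherian.component_noetherian ⟨U, hU⟩
  obtain ⟨ωA, hωA, h1, -⟩ := DualRing.exists_chart hK hU.fromSpec
  haveI := hωA.finite_cohomology i
  let S := (Module.support Γ(Y, U) (Dual.HD Γ(Y, U) ωA i))ᶜ
  refine ⟨hU.fromSpec '' S, ?_, hU.fromSpec.isOpenEmbedding.isOpenMap _ Module.isClosed_support.isOpen_compl,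
    q, fun h => hy (hq ▸ (h1 _ q).2 h), hq⟩
  rintro _ ⟨r, hr, rfl⟩ h
  exact hr ((h1 _ r).1 h)

/-- On an irreducible Cohen–Macaulay scheme a dualizing complex lives in one degree. -/
theorem exists_degree [IrreducibleSpace Y] {K : DCoh.D Y} (hK : Dual2.IsDualizingSch Y K)
    (hcm : ∀ y : Y, LocCoh.IsCohenMacaulayLocalRing (Y.presheaf.stalk y)) :
    ∃ c : ℤ, ∀ i : ℤ, i ≠ c → IsZero (DCoh.HD K i) := by
  have h1 := (DualRing.isCM_stalk_iff_and_isOpen hK).1
  have hu := fun y => (h1 y).1 (hcm y)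
  obtain ⟨c, hc, -⟩ := hu (genericPoint Y)
  refine ⟨c, fun i hi => RefK12.isZero_of_support_eq_empty (Set.eq_empty_iff_forall_notMem.2 fun y hy => hi ?_)⟩
  exact (hu y).unique (not_subsingleton_iff_nontrivial.1 hy)
    ((genericPoint_specializes y).mem_closed (isClosed_setOf_nontrivial_stalk hK c) hc)

end GrothLib.RightAdj20

namespace GrothLib.RightAdj20

variable (A : Type u) [CommRing A] [IsDomain A] [IsLocalRing A] [IsNoetherianRing A] [IsIntegrallyClosed A]
  (hN : CAlg.IsNagata A) (hdim : ringKrullDim A = 2) (hA : Curv2.IsRationalSing A)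
  {X : Scheme.{u}} (f : X ⟶ Spec (CommRingCat.of A)) [IsProper f] [IsIntegral X] (hXn : Pi1.IsNormalScheme X)
  (hbir : ∃ U : (Spec (CommRingCat.of A)).Opens, (U : Set (Spec (CommRingCat.of A))).Nonempty ∧ IsIso (f ∣_ U))

include hN hdim hA hXn hbir

/-- A rational singularity has `O = Rf_* O` along a modification. -/
theorem structure_pushforward [HasInjectiveResolutions X.Modules] :
    IsIso (ClSub.unitToPush f) ∧ ∀ p : ℕ, 0 < p → IsZero ((Coh.Rpush f p).obj (Coh.structureModule X)) := by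
  letI : X.Over (Spec (CommRingCat.of A)) := ⟨f⟩
  haveI : IsIntegral (Spec (CommRingCat.of A)) := inferInstance
  haveI : QuasiCompact f := inferInstance
  refine ⟨?_, fun p hp => ?_⟩
  · obtain ⟨U, hU, hiso⟩ := hbir
    have happ := RatSing29.isIso_app_of_birational f (fun z => (isNormalScheme_spec A z).2) U hU hiso
    refine ZClosure.isIso_of_basis _ fun w O hw => ⟨O, hw, le_rfl, ?_⟩
    haveI := happ O
    exact ConcreteCategory.bijective_of_isIso (f.app O)
  · haveI : (Coh.structureModule X).IsQuasicoherent := Cohom.isQuasicoherent_structureModule X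
    refine RelVanish.isZero_Rpush_of_cover f _ p (fun _ : PUnit.{1} => ⊤) (fun _ => isAffineOpen_top _)
      (fun _ => ⟨⟨⟩, trivial⟩) fun _ => ?_
    show Subsingleton (Abelian.Ext.{u} (Cohom.freeFun.obj (⊤ : X.Opens)) (Coh.toAb (Coh.structureModule X)) p)
    haveI : Subsingleton (Coh.HH X (Coh.structureModule X) p) := by
      rcases Nat.lt_or_ge p 2 with h | h
      · obtain rfl : p = 1 := by omega
        exact hA X f inferInstance inferInstance hXn hbir
      · exact RatSing29.subsingleton_HH_two_le f hdim hbir _ p h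
    exact (Cohom.HEquivTop (Coh.toAb (Coh.structureModule X)) p).toEquiv.symm.subsingleton

variable [DCoh.HasRpush f] (hf : DCoh.RpushPreservesQCoh f) [DCoh.HasShriek f hf]
  (ω : Dual.D A) (hω : Dual.IsDualizing A ω) (W : DCoh.DQCoh (Spec (CommRingCat.of A)))
  (e : W.obj ≅ (DCoh.tildeD (CommRingCat.of A)).obj ω)

include hω e

/-- **The trace is invertible.** -/
theorem isIso_trR_rational : IsIso (trR f hf (DCoh.shriekAdj f hf) W) := by
  letI := RpushSupp20.hasInjectiveResolutions X
  haveI := OX.hasLpull f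
  have hK := isDualizingSch_spec A ω hω e
  obtain ⟨c, hc⟩ := ShriekBridge22.exists_isGE_of_isDualizingSch W.property hK
  haveI := hc
  obtain ⟨adjL⟩ := OX.nonempty_lpullAdj f
  let b := adjL.ofNatIsoRight (rpushIsoRres f)
  exact isIso_trR_of_isIso_unit f hf (DCoh.shriekAdj f hf) b W c
    ((unitToPush_iff f b).1 (structure_pushforward A hN hdim hA f hXn hbir))

variable (hω0 : ∀ i : ℤ, i ≠ 0 → IsZero (DCoh.HD W.obj i))
include hω0

/-- No first cohomology for the dualizing sheaf of a modification. -/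
theorem subsingleton_H1_dualizing :
    Subsingleton (Coh.HH X (DCoh.HD ((DCoh.shriek f hf).obj W).obj 0) 1) := by
  letI : X.Over (Spec (CommRingCat.of A)) := ⟨f⟩
  letI := RpushSupp20.hasInjectiveResolutions X
  haveI : IsLocallyNoetherian X := LocallyOfFiniteType.isLocallyNoetherian f
  haveI := isIso_trR_rational A hN hdim hA f hXn hbir hf ω hω W e
  have hK := isDualizingSch_spec A ω hω e
  have hdA : topologicalKrullDim (Spec (CommRingCat.of A)) ≤ 2 :=
    ((PrimeSpectrum.topologicalKrullDim_eq_ringKrullDim A).trans hdim).le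
  obtain ⟨U, hU, hiso⟩ := hbir
  haveI := hiso
  have hcmA : ∀ y : Spec (CommRingCat.of A), LocCoh.IsCohenMacaulayLocalRing _ :=
    fun y => Groth.Agent.S9801.result _ (isNormalScheme_spec A) hdA y
  have hcmX : ∀ x : X, LocCoh.IsCohenMacaulayLocalRing _ :=
    fun x => Groth.Agent.S9801.result X hXn (RatSing29.dim_le_of_birational f U hU hiso hdA) x
  let aW := ((DCoh.shriek f hf).obj W).obj
  obtain ⟨c, hc⟩ := exists_degree
    (ShriekBridge22.isDualizingSch_adjoint f hf (DCoh.shriekAdj f hf) W hK) hcmX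
  haveI : aW.IsGE c := (DerivedCategory.isGE_iff _ _).2 fun i hi => hc i (by omega)
  haveI : aW.IsLE c := (DerivedCategory.isLE_iff _ _).2 fun i hi => hc i (by omega)
  obtain ⟨M, ⟨eM⟩⟩ := DerivedCategory.exists_iso_singleFunctor_obj_of_isGE_of_isLE aW c
  let eω : M ≅ DCoh.HD aW c :=
    ((DerivedCategory.singleFunctorCompHomologyFunctorIso X.Modules c).app M).symm ≪≫
      (DerivedCategory.homologyFunctor X.Modules c).mapIso eM.symm
  let N := DCoh.HD aW c
  let eA : aW ≅ (DCoh.inD X N)⟦-c⟧ := eM ≪≫ (DerivedCategory.singleFunctor _ _).mapIso eω ≪≫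
    (((DerivedCategory.singleFunctors X.Modules).shiftIso (-c) c 0 (by omega)).app N).symm
  let eW : W.obj ≅ ((RR f).obj (DCoh.inD X N))⟦-c⟧ :=
    (asIso (trR f hf (DCoh.shriekAdj f hf) W)).symm ≪≫ (RR f).mapIso eA ≪≫
      ((RR f).commShiftIso (-c)).app (DCoh.inD X N)
  have hH : ∀ (i : ℤ) (q : ℕ), -c + i = q → Nonempty (DCoh.HD W.obj i ≅ (Coh.Rpush f q).obj N) := fun i q h => by
    obtain ⟨e'⟩ := SiteDer.nonempty_homology_Rres_single (OX.rmor f) N q
    exact ⟨(DerivedCategory.homologyFunctor _ _).mapIso eW ≪≫ HDShiftIso _ (-c) i (q : ℤ) h ≪≫ e'⟩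
  have hz : ∀ {Z : Scheme.{u}} {F : Z.Modules}, IsZero F → ∀ z : Z, Subsingleton (F.presheaf.stalk z) :=
    fun {Z F} h z => AddCommGrpCat.subsingleton_of_isZero
      ((Scheme.Modules.toPresheaf Z ⋙ TopCat.Presheaf.stalkFunctor Ab.{u} z).map_isZero h)
  haveI hNq : N.IsQuasicoherent := ((DCoh.shriek f hf).obj W).property c
  have hc0 : c = 0 := by
    obtain ⟨v, hv⟩ := hU
    obtain ⟨i, hi, -⟩ := ((DualRing.isCM_stalk_iff_and_isOpen hK).1 v).1 (hcmA v)
    obtain rfl : i = 0 := by
      by_contra h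
      exact not_subsingleton_iff_nontrivial.2 hi (hz (hω0 i h) v)
    rcases lt_trichotomy c 0 with h | h | h
    · obtain ⟨q, hq⟩ := Int.eq_ofNat_of_zero_le (show 0 ≤ -c by omega)
      obtain ⟨e'⟩ := hH 0 q (by omega)
      exact (not_subsingleton_iff_nontrivial.2 hi (@Equiv.subsingleton _ _
        ((Scheme.Modules.toPresheaf _ ⋙ TopCat.Presheaf.stalkFunctor Ab.{u} v).mapIso e').addCommGroupIsoToAddEquiv.toEquiv
        (subsingleton_stalk_Rpush_of_isIso f U N (p := q) (by omega) hv))).elim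
    · exact h
    · haveI : (DCoh.inD X N).IsGE 0 := inferInstance
      haveI : ((RR f).obj (DCoh.inD X N)).IsGE 0 := SiteDer.isGE_Rres (OX.rmor f) (DCoh.inD X N) 0
      exact (not_subsingleton_iff_nontrivial.2 hi (hz ((DerivedCategory.isZero_of_isGE ((RR f).obj (DCoh.inD X N)) 0 (-c) (by omega)).of_iso
        ((DerivedCategory.homologyFunctor _ _).mapIso eW ≪≫ HDShiftIso _ (-c) 0 (-c) (by omega))) v)).elim
  subst hc0
  have h1 : IsZero ((Coh.Rpush f 1).obj N) := (hω0 1 one_ne_zero).of_iso (hH 1 1 (by norm_num)).some.symm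
  haveI := RelVanish.subsingleton_HHon_of_isZero_Rpush f N 1 (V := ⊤) (isAffineOpen_top _) h1
  obtain ⟨e'⟩ := Cohom.nonempty_HHon_equiv N (f ⁻¹ᵁ ⊤) 1
  haveI : Subsingleton (Abelian.Ext.{u} (Cohom.freeFun.obj (⊤ : X.Opens)) (Coh.toAb N) 1) := e'.symm.toEquiv.subsingleton
  exact (Cohom.HEquivTop (Coh.toAb N) 1).toEquiv.subsingleton

end GrothLib.RightAdj20

namespace GrothLib.RightAdj20

open GrothLib.RatSing29

variable {A : Type u} [CommRing A] {X : Scheme.{u}} [X.Over (Spec (CommRingCat.of A))]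
  [CompactSpace X] [QuasiSeparatedSpace X]
  {I : X.IdealSheafData} {r : ℕ} {a : Fin r → A} (hI : GenBy I a) (hE : _root_.BlowUp.IsEffCartierIdeal I)
  (h2 : ∀ K : X.Modules, K.IsQuasicoherent → Subsingleton (Coh.HH X K 2))

omit [CompactSpace X] [QuasiSeparatedSpace X] in
include hI hE in
/-- A generated ideal: twisting is a quotient of a finite sum. -/
theorem exists_epi_tensor (G : X.Modules) :
    ∃ φ : (⨁ fun _ : Fin r => G) ⟶ CohB1.tensorMod G (ClSub.idealMod I), Epi φ := by
  haveI := HodgeIndex.isIso_idealModι_top (X := X)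
  haveI := epi_phi hI hE 0
  let T := (DCoh.tensorBi (X := X)).obj G
  have h0 : I ^ 0 = (⊤ : X.IdealSheafData) := (pow_zero I).trans Scheme.IdealSheafData.one_eq_top
  let e0 : P I 0 ≅ Coh.structureModule X :=
    eqToIso (congrArg ClSub.idealMod h0) ≪≫ asIso (ClSub.idealModι (⊤ : X.IdealSheafData))
  let e1 : P I (0 + 1) ≅ ClSub.idealMod I := eqToIso (congrArg ClSub.idealMod (pow_one I))
  haveI : PreservesColimitsOfSize.{0, 0} T := preservesColimitsOfSize_shrink.{0, u, 0, u} _
  haveI : T.PreservesEpimorphisms := inferInstance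
  let eG : (⨁ fun _ : Fin r => G) ≅ T.obj (⨁ fun _ : Fin r => P I 0) :=
    (biproduct.mapIso fun _ => ((DCoh.tensorBi (X := X)).obj G).mapIso e0 ≪≫ Euler.tFUnitIso G).symm ≪≫
      (T.mapBiproduct fun _ : Fin r => P I 0).symm
  haveI : Epi (T.map (phi hI 0)) := T.map_epi _
  exact ⟨eG.hom ≫ T.map (phi hI 0) ≫ T.map e1.hom, inferInstance⟩

include hI hE h2 in
/-- Vanishing of first cohomology persists under twisting by powers of a generated ideal. -/
theorem subsingleton_H1_twist (M : X.Modules) [M.IsQuasicoherent] (h : Subsingleton (Coh.HH X M 1)) :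
    ∀ n : ℕ, (CohB1.tensorMod M (CohB1.tensorPow (ClSub.idealMod I) n)).IsQuasicoherent ∧
      Subsingleton (Coh.HH X (CohB1.tensorMod M (CohB1.tensorPow (ClSub.idealMod I) n)) 1)
  | 0 => by
    let e : CohB1.tensorMod M (Coh.structureModule X) ≅ M := Euler.tFUnitIso M
    haveI := h
    exact ⟨QCoh.isQuasicoherent_of_iso e.symm,
      (FormalFn.exists_hh_equiv (A := A) e 1).choose.toEquiv.subsingleton⟩
  | n + 1 => by
    obtain ⟨hq, hn⟩ := subsingleton_H1_twist M h n
    haveI := hq
    let G := CohB1.tensorMod M (CohB1.tensorPow (ClSub.idealMod I) n)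
    obtain ⟨φ, hφ⟩ := exists_epi_tensor hI hE G
    haveI := hφ
    haveI := qc_biproduct (F := fun _ : Fin r => G) fun _ => hq
    haveI hq1 : (ClSub.idealMod I).IsQuasicoherent := OmegaAff.isQuasicoherent_idealMod _
    haveI hq2 : (CohB1.tensorMod G (ClSub.idealMod I)).IsQuasicoherent := VA.isQCoh_tensor hq hq1
    let e : CohB1.tensorMod G (ClSub.idealMod I) ≅
        CohB1.tensorMod M (CohB1.tensorPow (ClSub.idealMod I) (n + 1)) :=
      OX.tensorAssoc M (CohB1.tensorPow (ClSub.idealMod I) n) (ClSub.idealMod I)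
    have := subsingleton_H1_of_epi A h2 φ (subsingleton_HH_biproduct fun _ => hn)
    exact ⟨QCoh.isQuasicoherent_of_iso e,
      @Equiv.subsingleton _ _ (FormalFn.exists_hh_equiv (A := A) e 1).choose.symm.toEquiv this⟩

end GrothLib.RightAdj20
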