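import Groth.Agent.Lib.RightAdj20.BCMapLocal
import Groth.Agent.Lib.RightAdj22.Main
import Groth.Agent.Lib.SecExt20.Extend
import Groth.Agent.Lib.OX.TildePerfect
import Groth.Agent.S1767
import Mathlib.RingTheory.Finiteness.Nakayama

/-! # The base change map of the relative dual is an isomorphism -/

set_option autoImplicit false
set_option maxHeartbeats 2000000
set_option linter.style.haveILetI false
set_option backward.isDefEq.respectTransparency false
universe u v w

open CategoryTheory CategoryTheory.Limits AlgebraicGeometry CategoryTheory.Pretriangulated GrothLib.OX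

attribute [local instance] HasDerivedCategory.standard

noncomputable section

namespace GrothLib.RightAdj20

/-- Restricting further. -/
theorem isIso_resD_comp_iff {X U W : Scheme.{u}} (k : W ⟶ U) [IsOpenImmersion k] (j : U ⟶ X) [IsOpenImmersion j]
    {A B : DCoh.D X} (φ : A ⟶ B) :
    IsIso ((resD (k ≫ j)).map φ) ↔ IsIso ((resD k).map ((resD j).map φ)) :=
  (NatIso.isIso_map_iff (resDCompIso k j) φ).symm

/-- The top cohomology as a quotient object. -/
theorem exists_to_top {A : Type u} [CommRing A] (L : Dual.D A) (b : ℤ) [L.IsLE b] :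
    ∃ (M : ModuleCat.{u} A) (μ : L ⟶ (DerivedCategory.singleFunctor (ModuleCat.{u} A) b).obj M),
      IsIso ((DerivedCategory.homologyFunctor (ModuleCat.{u} A) b).map μ) := by
  let t : Triangulated.TStructure (Dual.D A) := DerivedCategory.TStructure.t
  let H := fun i => DerivedCategory.homologyFunctor (ModuleCat.{u} A) i
  let U := (t.truncGE b).obj L
  haveI : U.IsGE b := by
    rw [DerivedCategory.isGE_iff]
    exact fun i hi => GrothLib.DerTrunc.isZero_homology_truncGE L b i hi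
  haveI : U.IsLE b := by
    rw [DerivedCategory.isLE_iff]
    intro i hi
    haveI := GrothLib.DerTrunc.isIso_homology_truncGEπ L b i (le_of_lt hi)
    exact (DerivedCategory.isZero_of_isLE L b i hi).of_iso (asIso ((H i).map ((t.truncGEπ b).app L))).symm
  obtain ⟨M, ⟨e⟩⟩ := DerivedCategory.exists_iso_singleFunctor_obj_of_isGE_of_isLE U b
  haveI := GrothLib.DerTrunc.isIso_homology_truncGEπ L b b le_rfl
  exact ⟨M, (t.truncGEπ b).app L ≫ e.hom, by rw [Functor.map_comp]; infer_instance⟩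

/-- Nakayama: the top degree can be removed near every point. -/
theorem exists_away_core {B : Type u} [CommRing B] [PreservesFiniteLimits (tilde.functor (CommRingCat.of B))]
    {Z₁ Z : DCoh.D (Spec (CommRingCat.of B))} (N0 : Dual.D B) (b : ℤ) [N0.IsLE b]
    (hsimple : Function.Bijective fun c : B => c • 𝟙 N0)
    (e0 : Z ≅ (DCoh.tildeD (CommRingCat.of B)).obj N0)
    (hpc : DCoh.IsPseudoCoherentD b ((DCoh.tildeD (CommRingCat.of B)).obj N0)) (y : Z₁ ≅ Z) (bc : Z₁ ⟶ Z)
    (hzero : ∀ (N : DCoh.D (Spec (CommRingCat.of B))), DCoh.IsQCohD N → N.IsGE b → ∀ lam : Z ⟶ N,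
      (∀ φ : Z ⟶ Z, bc ≫ φ ≫ lam = 0) → lam = 0)
    (p : Spec (CommRingCat.of B)) :
    ∃ t : B, p ∈ Set.range (awayMap t) ∧
      (IsIso ((resD (awayMap t)).map bc) ∨ ((resD (awayMap t)).obj Z).IsLE (b - 1)) := by
  let T := DCoh.tildeD (CommRingCat.of B)
  haveI := (tildeD_full_faithful_essImage (R := CommRingCat.of B)).1
  haveI := (tildeD_full_faithful_essImage (R := CommRingCat.of B)).2.1
  -- the scalar
  obtain ⟨s, hs⟩ := hsimple.2 (T.preimage (e0.inv ≫ y.inv ≫ bc ≫ e0.hom))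
  have hbc : bc = y.hom ≫ e0.hom ≫ T.map (s • 𝟙 N0) ≫ e0.inv := by
    rw [show s • 𝟙 N0 = T.preimage _ from hs, Functor.map_preimage]
    simp
  -- the top cohomology
  obtain ⟨M, μ, hμ⟩ := exists_to_top N0 b
  haveI := hμ
  let I : Ideal B := Ideal.span {s}
  let M' : ModuleCat.{u} B := ModuleCat.of B (M ⧸ I • (⊤ : Submodule B M))
  let q : M ⟶ M' := ModuleCat.ofHom (Submodule.mkQ _)
  let single := DerivedCategory.singleFunctor (ModuleCat.{u} B) b
  let H := DerivedCategory.homologyFunctor (ModuleCat.{u} B) b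
  have hsq : s • q = 0 := by
    refine ModuleCat.hom_ext (LinearMap.ext fun x => ?_)
    show s • Submodule.Quotient.mk x = (0 : M ⧸ I • (⊤ : Submodule B M))
    rw [← Submodule.Quotient.mk_smul, Submodule.Quotient.mk_eq_zero]
    exact Submodule.smul_mem_smul (Ideal.mem_span_singleton_self s) trivial
  have key : ∀ (N1 : Dual.D B) (ν : N0 ⟶ N1), N1.IsGE b → (∀ t : B, (s • 𝟙 N0) ≫ (t • 𝟙 N0) ≫ ν = 0) → ν = 0 := by
    intro N1 ν hN1 hν
    haveI := hN1
    have hq1 : DCoh.IsQCohD (T.obj N1) := isQCohD_tildeD (R := CommRingCat.of B) N1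
    have hge : (T.obj N1).IsGE b := isGE_tildeD (R := B) N1 b
    have hz : e0.hom ≫ T.map ν = 0 := hzero (T.obj N1) hq1 hge (e0.hom ≫ T.map ν) fun φ => by
      obtain ⟨t, ht⟩ := hsimple.2 (T.preimage (e0.inv ≫ φ ≫ e0.hom))
      have hφ : φ = e0.hom ≫ T.map (t • 𝟙 N0) ≫ e0.inv := by
        rw [show t • 𝟙 N0 = T.preimage _ from ht, Functor.map_preimage]
        simp
      rw [hbc, hφ]
      simp only [Category.assoc, Iso.inv_hom_id_assoc]
      rw [← T.map_comp, ← T.map_comp, hν t, Functor.map_zero, comp_zero, comp_zero]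
    exact T.map_injective (((cancel_epi e0.hom).1 (hz.trans comp_zero.symm)).trans (T.map_zero _ _).symm)
  have hlam0 : μ ≫ single.map q = 0 := by
    haveI : (single.obj M').IsGE b :=
      inferInstanceAs (((DerivedCategory.singleFunctor (ModuleCat.{u} B) b).obj M').IsGE b)
    refine key (single.obj M') (μ ≫ single.map q) inferInstance fun t => ?_
    simp only [Linear.smul_comp, Category.id_comp]
    rw [smul_comm, ← Linear.comp_smul, ← Functor.map_smul, hsq, Functor.map_zero, comp_zero, smul_zero]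
  have hq : q = 0 := by
    have h1 : H.map (single.map q) = 0 := by
      rw [← cancel_epi (H.map μ), ← Functor.map_comp, hlam0, Functor.map_zero, comp_zero]
    let ν := DerivedCategory.singleFunctorCompHomologyFunctorIso (ModuleCat.{u} B) b
    have h2 := ν.hom.naturality q
    rw [show (single ⋙ H).map q = 0 from h1, zero_comp] at h2
    exact ((cancel_epi (ν.hom.app M)).1 (h2.symm.trans comp_zero.symm))
  -- finiteness
  haveI hfin : Module.Finite B M := by
    haveI : (T.obj N0).IsLE b := isLE_mapDerived (tilde.functor (CommRingCat.of B)) N0 b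
    have hft := OX.isFT_HD_top hpc fun i hi => DerivedCategory.isZero_of_isLE (T.obj N0) b i hi
    let ι := HDTildeIso (R := CommRingCat.of B) N0 b ≪≫ (tilde.functor (CommRingCat.of B)).mapIso
      (asIso (H.map μ) ≪≫ (DerivedCategory.singleFunctorCompHomologyFunctorIso (ModuleCat.{u} B) b).app M)
    haveI : (DCoh.HD (T.obj N0) b).IsQuasicoherent := isQCohD_tildeD (R := CommRingCat.of B) N0 b
    exact LocFree8.finite_of_isFT (R := CommRingCat.of B) (M := M) (SecExt20.isFT_of_epi ι.hom hft)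
  have hle : (⊤ : Submodule B M) ≤ I • ⊤ := fun x _ => by
    have h1 : (Submodule.mkQ (I • (⊤ : Submodule B M))) x = 0 :=
      congrArg (fun k : M ⟶ M' => k.hom x) hq
    exact (Submodule.Quotient.mk_eq_zero _).1 h1
  obtain ⟨r, hr, hr0⟩ := Submodule.exists_sub_one_mem_and_smul_eq_zero_of_fg_of_le_smul I ⊤ Module.Finite.fg_top hle
  by_cases hps : s ∈ p.asIdeal
  · refine ⟨r, ?_, Or.inr ?_⟩
    · rw [range_awayMap]
      intro hrp
      refine p.isPrime.ne_top ((Ideal.eq_top_iff_one _).2 ?_)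
      have : (1 : B) = r - (r - 1) := by ring
      rw [this]
      exact sub_mem hrp ((Ideal.span_singleton_le_iff_mem (I := p.asIdeal)).2 hps hr)
    · let lH : (H.obj N0 : ModuleCat.{u} B) ≅ M :=
        asIso (H.map μ) ≪≫ (DerivedCategory.singleFunctorCompHomologyFunctorIso (ModuleCat.{u} B) b).app M
      have he : ∀ x : Dual.HD B N0 b, r • x = 0 := fun x => by
        apply lH.toLinearEquiv.injective
        rw [map_smul, map_zero]
        exact hr0 _ trivial
      haveI := isLE_resD_of_smul_eq_zero N0 b r he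
      exact DerivedCategory.TStructure.t.isLE_of_iso
        ((resD (awayMap r)).mapIso e0.symm) (b - 1)
  · refine ⟨s, ?_, Or.inl ?_⟩
    · rw [range_awayMap]; exact hps
    · haveI : IsIso ((resD (awayMap s)).map (T.map (s • 𝟙 N0))) := by
        rw [ShriekBridge22.tildeD_map_smul_id]
        exact isIso_resD_tilde_smul s N0
      rw [hbc, Functor.map_comp, Functor.map_comp, Functor.map_comp]
      infer_instance

section Square

variable {X Y X' Y' : Scheme.{u}} {f : X ⟶ Y} {g : Y' ⟶ Y} {f' : X' ⟶ Y'} {g' : X' ⟶ X}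
  (h : IsPullback g' f' f g)
  [CompactSpace X] [QuasiSeparatedSpace X] [CompactSpace Y] [QuasiSeparatedSpace Y]
  [CompactSpace X'] [QuasiSeparatedSpace X'] [CompactSpace Y'] [QuasiSeparatedSpace Y']
  [IsProper f] [Flat f] [LocallyOfFinitePresentation f]
  [DCoh.HasRpush f] [DCoh.HasRpush f'] [DCoh.HasRpush g] [DCoh.HasRpush g'] [DCoh.HasLpull g] [DCoh.HasLpull g']
  {hf : DCoh.RpushPreservesQCoh f} {hf' : DCoh.RpushPreservesQCoh f'}
  {hg : DCoh.RpushPreservesQCoh g} {hg' : DCoh.RpushPreservesQCoh g'}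
  {hLg : Dual3.LpullPreservesQCoh g} {hLg' : Dual3.LpullPreservesQCoh g'}
  {a : DCoh.DQCoh Y ⥤ DCoh.DQCoh X} {a' : DCoh.DQCoh Y' ⥤ DCoh.DQCoh X'}
  (adj : DCoh.RpushQ f hf ⊣ a) (adj' : DCoh.RpushQ f' hf' ⊣ a')
  (e : DCoh.RpushQ g' hg' ⋙ DCoh.RpushQ f hf ≅ DCoh.RpushQ f' hf' ⋙ DCoh.RpushQ g hg)
  (adjg : Dual3.LpullQ g hLg ⊣ DCoh.RpushQ g hg) (adjg' : Dual3.LpullQ g' hLg' ⊣ DCoh.RpushQ g' hg')

include h adjg adjg' in
/-- The induction step: over a chart the top degree can be removed. -/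
theorem exists_away (hξ : ∀ M, IsIso (Dual3.xi adj adj' e M)) {U : Y.Opens} {U' : Y'.Opens} (hU : IsAffineOpen U)
    (hU' : IsAffineOpen U') (e' : U' ≤ g ⁻¹ᵁ U) (K : DCoh.DQCoh Y) (n : ℤ)
    (eK : K.obj ≅ (DCoh.inD Y (Coh.structureModule Y))⟦n⟧) {B : Type u} [CommRing B]
    (j₀ : Spec (CommRingCat.of B) ⟶ (f' ⁻¹ᵁ U').toScheme) [IsOpenImmersion j₀] (M₀ : Dual.D B)
    (hM₀ : Function.Bijective fun c : B => c • 𝟙 M₀) (hM₁ : ∀ i : ℤ, i ≠ 0 → Subsingleton (M₀ ⟶ M₀⟦i⟧))
    (O' : DCoh.DQCoh Y') (hO' : Nonempty (O'.obj ≅ DCoh.inD Y' (Coh.structureModule Y')))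
    (eM : (resD j₀).obj ((resD (f' ⁻¹ᵁ U').ι).obj (a'.obj O').obj) ≅ (DCoh.tildeD (CommRingCat.of B)).obj M₀)
    (b : ℤ) [((resD (j₀ ≫ (f' ⁻¹ᵁ U').ι)).obj (a'.obj ((Dual3.LpullQ g hLg).obj K)).obj).IsLE b]
    (p : Spec (CommRingCat.of B)) :
    ∃ t : B, p ∈ Set.range (awayMap t) ∧
      (IsIso ((resD (awayMap t ≫ j₀ ≫ (f' ⁻¹ᵁ U').ι)).map (Dual3.bcMap adj adj' e adjg adjg' K (hξ _)).hom) ∨
        ((resD (awayMap t ≫ j₀ ≫ (f' ⁻¹ᵁ U').ι)).obj (a'.obj ((Dual3.LpullQ g hLg).obj K)).obj).IsLE (b - 1)) := by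
  haveI : Flat f' := MorphismProperty.of_isPullback (P := @Flat) h ‹_›
  haveI : IsProper f' := MorphismProperty.of_isPullback (P := @IsProper) h ‹_›
  haveI : LocallyOfFinitePresentation f' :=
    MorphismProperty.of_isPullback (P := @LocallyOfFinitePresentation) h ‹_›
  haveI := preservesFiniteLimits_tildeGen (CommRingCat.of B)
  let L := Dual3.LpullQ g hLg
  let L' := Dual3.LpullQ g' hLg'
  let T := DCoh.tildeD (CommRingCat.of B)
  haveI := (tildeD_full_faithful_essImage (R := CommRingCat.of B)).1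
  haveI := (tildeD_full_faithful_essImage (R := CommRingCat.of B)).2.1
  let i' := (f' ⁻¹ᵁ U').ι
  let j := j₀ ≫ i'
  have hj : Set.range j ⊆ (f' ⁻¹ᵁ U' : Set X') := by
    rintro _ ⟨y, rfl⟩
    rw [Scheme.Hom.comp_apply]
    exact (j₀ y).2
  let bc := Dual3.bcMap adj adj' e adjg adjg' K (hξ _)
  let O : DCoh.DQCoh Y := ⟨DCoh.inD Y (Coh.structureModule Y), isQCohD_of_isPerfect (isPerfect_unit Y)⟩
  obtain ⟨bg⟩ := nonempty_lpullAdj g
  letI := TorBC25.lpullCommShift g (bg.ofNatIsoRight (rpushIsoRres g))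
  obtain ⟨sg⟩ := TorBC25.nonempty_lpull_structure g
  let eL : (L.obj K).obj ≅ (DCoh.inD Y' (Coh.structureModule Y'))⟦n⟧ :=
    (DCoh.Lpull g).mapIso eK ≪≫ ((DCoh.Lpull g).commShiftIso n).app _ ≪≫ (shiftFunctor _ n).mapIso sg
  obtain ⟨p'⟩ := nonempty_adjoint_shift_unit f' hf' adj' O' hO' (L.obj K) n eL
  let eM' : (resD j).obj (a'.obj O').obj ≅ T.obj M₀ := ((resDCompIso j₀ i').app _).symm ≪≫ eM
  let N0 : Dual.D B := M₀⟦n⟧
  let e0 : (resD j).obj (a'.obj (L.obj K)).obj ≅ T.obj N0 :=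
    (resD j).mapIso p' ≪≫ ((resD j).commShiftIso n).app _ ≪≫ (shiftFunctor _ n).mapIso eM' ≪≫
      ((T.commShiftIso n).app M₀).symm
  haveI hN0 : N0.IsLE b := isLE_of_tildeD (R := B) (DerivedCategory.TStructure.t.isLE_of_iso e0 b)
  have hsimple := (simple_of_iso_shift n (Iso.refl N0) hM₀ hM₁).1
  obtain ⟨ys⟩ := nonempty_resD_bc_sides (hLg := hLg) (hLg' := hLg') h adj adj' hU hU' e' K n eK
  let y : (resD j).obj (L'.obj (a.obj K)).obj ≅ (resD j).obj (a'.obj (L.obj K)).obj :=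
    ((resDCompIso j₀ i').app _).symm ≪≫ (resD j₀).mapIso ys ≪≫ (resDCompIso j₀ i').app _
  have hA : ((resD j).obj ((DCoh.Lpull g').obj (a.obj O).obj)).IsLE (b + n) := by
    obtain ⟨c⟩ := nonempty_resD_square_adjoint h adj adj' hU hU' e' O ⟨Iso.refl _⟩ O' hO'
    let e₁ : (resD j).obj ((DCoh.Lpull g').obj (a.obj O).obj) ≅ T.obj M₀ :=
      ((resDCompIso j₀ i').app _).symm ≪≫ (resD j₀).mapIso c ≪≫ eM
    haveI : M₀.IsLE (b + n) := by
      haveI := DerivedCategory.TStructure.t.isLE_shift N0 b (-n) (b + n) (by omega)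
      let e₀ : N0⟦(-n : ℤ)⟧ ≅ M₀ := (shiftFunctorCompIsoId (Dual.D B) n (-n) (by omega)).app M₀
      exact DerivedCategory.TStructure.t.isLE_of_iso e₀ (b + n)
    haveI : (T.obj M₀).IsLE (b + n) := isLE_mapDerived (tilde.functor (CommRingCat.of B)) M₀ (b + n)
    exact DerivedCategory.TStructure.t.isLE_of_iso e₁.symm (b + n)
  have hpc : DCoh.IsPseudoCoherentD b (T.obj N0) := by
    refine isPseudoCoherentD_of_iso ?_ e0
    refine isPseudoCoherentD_resD (isPseudoCoherentD_of_iso ?_ p'.symm) j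
    exact isPseudoCoherentD_shift ((relPerf_adjoint f' hf' adj' O' hO').1 (b + n)) n b (by omega)
  obtain ⟨t, htp, ht⟩ := exists_away_core N0 b hsimple e0 hpc y ((resD j).map bc.hom)
    (fun N hN hNb lam hlam =>
      haveI := hNb
      eq_zero_of_bc_comp h adj adj' e adjg adjg' hξ hU hU' e' O ⟨Iso.refl _⟩ K n eK j hj b hA N hN lam hlam) p
  refine ⟨t, htp, ?_⟩
  rcases ht with ht | ht
  · exact Or.inl ((isIso_resD_comp_iff (awayMap t) j bc.hom).2 ht)
  · haveI := ht
    let et : (resD (awayMap t)).obj ((resD j).obj (a'.obj (L.obj K)).obj) ≅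
        (resD (awayMap t ≫ j)).obj (a'.obj (L.obj K)).obj := (resDCompIso (awayMap t) j).app _
    exact Or.inr (DerivedCategory.TStructure.t.isLE_of_iso et (b - 1))

include h adjg adjg' in
/-- The base change map is an isomorphism over affine opens, for shifts of the structure sheaf. -/
theorem isIso_resD_bcMap_unit (hξ : ∀ M, IsIso (Dual3.xi adj adj' e M)) {U : Y.Opens} {U' : Y'.Opens}
    (hU : IsAffineOpen U) (hU' : IsAffineOpen U') (e' : U' ≤ g ⁻¹ᵁ U) (K : DCoh.DQCoh Y) (n : ℤ)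
    (eK : K.obj ≅ (DCoh.inD Y (Coh.structureModule Y))⟦n⟧) :
    ∀ (b : ℤ) (W : Scheme.{u}) (j : W ⟶ X') (_ : IsOpenImmersion j), Set.range j ⊆ (f' ⁻¹ᵁ U' : Set X') →
      ((resD j).obj (a'.obj ((Dual3.LpullQ g hLg).obj K)).obj).IsLE b →
      IsIso ((resD j).map (Dual3.bcMap adj adj' e adjg adjg' K (hξ _)).hom) := by
  haveI : Flat f' := MorphismProperty.of_isPullback (P := @Flat) h ‹_›
  haveI : IsProper f' := MorphismProperty.of_isPullback (P := @IsProper) h ‹_›
  haveI : LocallyOfFinitePresentation f' :=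
    MorphismProperty.of_isPullback (P := @LocallyOfFinitePresentation) h ‹_›
  let L := Dual3.LpullQ g hLg
  let L' := Dual3.LpullQ g' hLg'
  let bc := Dual3.bcMap adj adj' e adjg adjg' K (hξ _)
  let i' := (f' ⁻¹ᵁ U').ι
  let O' : DCoh.DQCoh Y' := ⟨DCoh.inD Y' (Coh.structureModule Y'), isQCohD_of_isPerfect (isPerfect_unit Y')⟩
  -- the lower bound
  obtain ⟨lo, hlo⟩ : ∃ lo : ℤ, (a'.obj (L.obj K)).obj.IsGE lo := by
    obtain ⟨N, hN⟩ := Groth.Agent.S1767.result X' Y' f' hf' a' adj'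
    obtain ⟨bg⟩ := nonempty_lpullAdj g
    letI := TorBC25.lpullCommShift g (bg.ofNatIsoRight (rpushIsoRres g))
    obtain ⟨sg⟩ := TorBC25.nonempty_lpull_structure g
    haveI : (DCoh.inD Y' (Coh.structureModule Y')).IsGE 0 :=
      inferInstanceAs (((DerivedCategory.singleFunctor Y'.Modules 0).obj _).IsGE 0)
    haveI := DerivedCategory.TStructure.t.isGE_shift (DCoh.inD Y' (Coh.structureModule Y')) 0 n (-n) (by omega)
    haveI : (L.obj K).obj.IsGE (-n) := DerivedCategory.TStructure.t.isGE_of_iso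
      ((DCoh.Lpull g).mapIso eK ≪≫ ((DCoh.Lpull g).commShiftIso n).app _ ≪≫ (shiftFunctor _ n).mapIso sg).symm (-n)
    refine ⟨-n - 1 - N + 1, (DerivedCategory.isGE_iff _ _).2 fun i hi => hN (L.obj K) (-n - 1) (fun m hm => ?_) i ?_⟩
    · exact DerivedCategory.isZero_of_isGE (L.obj K).obj (-n) m (by omega)
    · omega
  suffices key : ∀ (m : ℕ) (W : Scheme.{u}) (j : W ⟶ X') (_ : IsOpenImmersion j),
      Set.range j ⊆ (f' ⁻¹ᵁ U' : Set X') →
      ((resD j).obj (a'.obj (L.obj K)).obj).IsLE (lo + m - 1) → IsIso ((resD j).map bc.hom) by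
    intro b W j _ hj hb
    haveI := hb
    exact key (b - lo + 1).toNat W j inferInstance hj
      (DerivedCategory.TStructure.t.isLE_of_le _ b _ (by omega))
  intro m
  induction m with
  | zero =>
    intro W j _ hj hb
    haveI := hb
    haveI := hlo
    haveI : ((resD j).obj (a'.obj (L.obj K)).obj).IsGE lo := KSix19.ProjPush.isGE_resD j _ lo
    have h1 : IsZero ((resD j).obj (a'.obj (L.obj K)).obj) :=
      DerivedCategory.TStructure.t.isZero _ (lo + ((0 : ℕ) : ℤ) - 1) lo (by omega)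
    obtain ⟨ys⟩ := nonempty_resD_bc_sides (hLg := hLg) (hLg' := hLg') h adj adj' hU hU' e' K n eK
    let j₀ := IsOpenImmersion.lift i' j (by rwa [Scheme.Opens.range_ι])
    have hj₀ : j₀ ≫ i' = j := IsOpenImmersion.lift_fac i' j _
    haveI : IsOpenImmersion j₀ := by
      haveI : IsOpenImmersion (j₀ ≫ i') := by rw [hj₀]; infer_instance
      exact IsOpenImmersion.of_comp j₀ i'
    let c := resDCompIso j₀ i' ≪≫ resDCongrIso hj₀
    have h2 : IsZero ((resD j).obj (L'.obj (a.obj K)).obj) :=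
      h1.of_iso ((c.app _).symm ≪≫ (resD j₀).mapIso ys ≪≫ c.app _)
    exact ⟨0, h2.eq_of_src _ _, h1.eq_of_src _ _⟩
  | succ m ih =>
    intro W j _ hj hb
    haveI := hb
    refine TorBC25.isIso_of_local_resD _ fun w => ?_
    obtain ⟨f₀, -, -, -, hch⟩ := local_core f' hf' adj' O' ⟨Iso.refl _⟩ U' hU'
    obtain ⟨B, _, j₀, _, hxj, hjT, M₀, hb₀, hi₀, ⟨eM⟩⟩ :=
      hch (i' ⁻¹ᵁ j.opensRange) ⟨j w, hj ⟨w, rfl⟩⟩ ⟨w, rfl⟩
    haveI := preservesFiniteLimits_tildeGen (CommRingCat.of B)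
    let jB := j₀ ≫ i'
    have hjB : Set.range jB ⊆ Set.range j := by
      rintro _ ⟨y, rfl⟩
      exact hjT ⟨y, rfl⟩
    let k := IsOpenImmersion.lift j jB hjB
    have hk : k ≫ j = jB := IsOpenImmersion.lift_fac j jB _
    haveI : IsOpenImmersion k := by
      haveI : IsOpenImmersion (k ≫ j) := by rw [hk]; infer_instance
      exact IsOpenImmersion.of_comp k j
    haveI : ((resD jB).obj (a'.obj (L.obj K)).obj).IsLE (lo + (m + 1 : ℕ) - 1) := by
      haveI := KSix19.isLE_resD k (K := (resD j).obj (a'.obj (L.obj K)).obj) (b := lo + (m + 1 : ℕ) - 1) hb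
      let ek : (resD k).obj ((resD j).obj (a'.obj (L.obj K)).obj) ≅ (resD jB).obj (a'.obj (L.obj K)).obj :=
        (resDCompIso k j ≪≫ resDCongrIso hk).app _
      exact DerivedCategory.TStructure.t.isLE_of_iso ek _
    obtain ⟨y, hy⟩ := hxj
    obtain ⟨t, ⟨z, hz⟩, ht⟩ := exists_away h adj adj' e adjg adjg' hξ hU hU' e' K n eK j₀ M₀ hb₀ hi₀ O' ⟨Iso.refl _⟩
      eM (lo + (m + 1 : ℕ) - 1) y
    refine ⟨_, awayMap t ≫ k, inferInstance, ⟨z, ?_⟩, ?_⟩
    · apply j.isOpenEmbedding.injective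
      rw [← Scheme.Hom.comp_apply, Category.assoc, hk, Scheme.Hom.comp_apply, hz, Scheme.Hom.comp_apply, hy]
      rfl
    · refine (isIso_resD_comp_iff (awayMap t ≫ k) j bc.hom).1 ?_
      have heq : (awayMap t ≫ k) ≫ j = awayMap t ≫ jB := by rw [Category.assoc, hk]
      refine (NatIso.isIso_map_iff (resDCongrIso heq) bc.hom).2 ?_
      rcases ht with ht | ht
      · exact ht
      · refine ih _ (awayMap t ≫ jB) inferInstance ((Set.range_subset_iff.2 fun z => ?_)) ?_
        · exact hj (hjB ⟨_, (Scheme.Hom.comp_apply _ _ _).symm⟩)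
        · haveI := ht
          exact DerivedCategory.TStructure.t.isLE_of_le _ (lo + (m + 1 : ℕ) - 1 - 1) _ (by omega)

include h adjg adjg' in
/-- The base change map is an isomorphism for shifts of the structure sheaf. -/
theorem isIso_bcMap_unit (hξ : ∀ M, IsIso (Dual3.xi adj adj' e M)) (K : DCoh.DQCoh Y) (n : ℤ)
    (eK : K.obj ≅ (DCoh.inD Y (Coh.structureModule Y))⟦n⟧) :
    IsIso (Dual3.bcMap adj adj' e adjg adjg' K (hξ _)).hom := by
  haveI : Flat f' := MorphismProperty.of_isPullback (P := @Flat) h ‹_›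
  haveI : IsProper f' := MorphismProperty.of_isPullback (P := @IsProper) h ‹_›
  haveI : LocallyOfFinitePresentation f' :=
    MorphismProperty.of_isPullback (P := @LocallyOfFinitePresentation) h ‹_›
  refine TorBC25.isIso_of_local_resD _ fun x => ?_
  obtain ⟨U, hU, hxU, -⟩ := exists_isAffineOpen_mem_and_subset (x := g (f' x)) (U := ⊤) trivial
  obtain ⟨U', hU', hx, e'⟩ := exists_isAffineOpen_mem_and_subset (x := f' x) (U := g ⁻¹ᵁ U) hxU
  let O' : DCoh.DQCoh Y' := ⟨DCoh.inD Y' (Coh.structureModule Y'), isQCohD_of_isPerfect (isPerfect_unit Y')⟩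
  let L := Dual3.LpullQ g hLg
  obtain ⟨bg⟩ := nonempty_lpullAdj g
  letI := TorBC25.lpullCommShift g (bg.ofNatIsoRight (rpushIsoRres g))
  obtain ⟨sg⟩ := TorBC25.nonempty_lpull_structure g
  obtain ⟨p'⟩ := nonempty_adjoint_shift_unit f' hf' adj' O' ⟨Iso.refl _⟩ (L.obj K) n
    ((DCoh.Lpull g).mapIso eK ≪≫ ((DCoh.Lpull g).commShiftIso n).app _ ≪≫ (shiftFunctor _ n).mapIso sg)
  have hpc : DCoh.IsPseudoCoherentD 0 (a'.obj (L.obj K)).obj := isPseudoCoherentD_of_iso
    (isPseudoCoherentD_shift ((relPerf_adjoint f' hf' adj' O' ⟨Iso.refl _⟩).1 n) n 0 (by omega)) p'.symm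
  obtain ⟨W, j, hj, hxj, hW⟩ := isPseudoCoherentD_iff.1
    (isPseudoCoherentD_resD hpc (f' ⁻¹ᵁ U').ι) ⟨x, hx⟩
  obtain ⟨b, hb⟩ := exists_isLE_of_approx hW
  haveI := hj
  haveI := hb
  let i' := (f' ⁻¹ᵁ U').ι
  haveI : ((resD (j ≫ i')).obj (a'.obj (L.obj K)).obj).IsLE b := by
    let ej : (resD j).obj ((resD i').obj (a'.obj (L.obj K)).obj) ≅ (resD (j ≫ i')).obj (a'.obj (L.obj K)).obj :=
      (resDCompIso j i').app _
    exact DerivedCategory.TStructure.t.isLE_of_iso ej b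
  refine ⟨W, j ≫ i', inferInstance, ?_, ?_⟩
  · obtain ⟨y, hy⟩ := hxj
    exact ⟨y, by rw [Scheme.Hom.comp_apply, hy]; rfl⟩
  · refine isIso_resD_bcMap_unit h adj adj' e adjg adjg' hξ hU hU' e' K n eK b W (j ≫ i') inferInstance
      (Set.range_subset_iff.2 fun y => ?_) inferInstance
    rw [Scheme.Hom.comp_apply]
    exact (j y).2

include h adjg adjg' in
/-- **The base change map of the relative dual is an isomorphism.** -/
theorem isIso_bcMap_proper_flat (hξ : ∀ M, IsIso (Dual3.xi adj adj' e M)) (K : DCoh.DQCoh Y) :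
    IsIso (Dual3.bcMap adj adj' e adjg adjg' K (hξ _)) := by
  haveI : Flat f' := MorphismProperty.of_isPullback (P := @Flat) h ‹_›
  haveI : IsProper f' := MorphismProperty.of_isPullback (P := @IsProper) h ‹_›
  haveI : LocallyOfFinitePresentation f' :=
    MorphismProperty.of_isPullback (P := @LocallyOfFinitePresentation) h ‹_›
  let L := Dual3.LpullQ g hLg
  let L' := Dual3.LpullQ g' hLg'
  let ιY := (DCoh.IsQCohD (X := Y)).ι
  let ιX' := (DCoh.IsQCohD (X := X')).ι
  let bc := Dual3.bcMap adj adj' e adjg adjg' K (hξ _)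
  suffices hs : IsIso bc.hom by
    haveI : IsIso (ιX'.map bc) := hs
    exact isIso_of_fully_faithful ιX' bc
  refine TorBC25.isIso_of_local_resD bc.hom fun x => ?_
  obtain ⟨V, hV, hxV, -⟩ := exists_isAffineOpen_mem_and_subset (x := g (f' x)) (U := ⊤) trivial
  let W : X'.Opens := f' ⁻¹ᵁ (g ⁻¹ᵁ V)
  refine ⟨_, W.ι, inferInstance, ⟨⟨x, hxV⟩, rfl⟩, ?_⟩
  haveI : L.IsLeftAdjoint := adjg.isLeftAdjoint
  haveI : L'.IsLeftAdjoint := adjg'.isLeftAdjoint
  haveI := RightAdj22.additive_of_adj adj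
  haveI := RightAdj22.additive_of_adj adj'
  haveI : L.Additive := RightAdj22.additive_of_isLeftAdjoint _
  haveI : L'.Additive := RightAdj22.additive_of_isLeftAdjoint _
  let F := (a ⋙ L' ⋙ ιX') ⋙ resD W.ι
  let G := (L ⋙ a' ⋙ ιX') ⋙ resD W.ι
  let α : F ⟶ G :=
    { app := fun K => (resD W.ι).map (Dual3.bcMap adj adj' e adjg adjg' K (hξ _)).hom
      naturality := fun A B η => by
        show (resD W.ι).map (L'.map (a.map η)).hom ≫ _ = _ ≫ (resD W.ι).map (a'.map (L.map η)).hom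
        rw [← Functor.map_comp, ← Functor.map_comp]
        exact congrArg _ (congrArg InducedCategory.Hom.hom
          (bcMap_naturality adj adj' e adjg adjg' hξ η).symm) }
  haveI : QuasiCompact f := quasiCompact_of_compactSpace f
  haveI : QuasiSeparated f := QuasiSeparated.of_quasiSeparatedSpace f
  haveI : QuasiCompact f' := quasiCompact_of_compactSpace f'
  haveI : QuasiSeparated f' := QuasiSeparated.of_quasiSeparatedSpace f'
  obtain ⟨bg⟩ := nonempty_lpullAdj g
  obtain ⟨bg'⟩ := nonempty_lpullAdj g'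
  let radj := bg.ofNatIsoRight (rpushIsoRres g)
  let radj' := bg'.ofNatIsoRight (rpushIsoRres g')
  have hF : RightAdj22.Ex F := fun T hT => by
    obtain ⟨d, hd⟩ := RightAdj22.exists_map_triangle f hf adj hT
    letI := TorBC25.lpullCommShift g' radj'
    haveI := TorBC25.isTriangulated_lpull g' radj'
    exact ⟨_, (resD W.ι).map_distinguished _ ((DCoh.Lpull g').map_distinguished _ hd)⟩
  have hG : RightAdj22.Ex G := fun T hT => by
    letI := TorBC25.lpullCommShift g radj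
    haveI := TorBC25.isTriangulated_lpull g radj
    let ιY' := (DCoh.IsQCohD (X := Y')).ι
    let T₀ := (DCoh.Lpull g).mapTriangle.obj (ιY.mapTriangle.obj T)
    have hT₀ : T₀ ∈ distTriang (DCoh.D Y') := (DCoh.Lpull g).map_distinguished _ (ιY.map_distinguished _ hT)
    let dQ : L.obj T.obj₃ ⟶ (L.obj T.obj₁)⟦(1 : ℤ)⟧ :=
      ObjectProperty.homMk (T₀.mor₃ ≫ (ιY'.commShiftIso (1 : ℤ)).inv.app (L.obj T.obj₁))
    have hQ : Triangle.mk (L.map T.mor₁) (L.map T.mor₂) dQ ∈ distTriang (DCoh.DQCoh Y') := by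
      refine isomorphic_distinguished _ hT₀ _ (Triangle.isoMk _ _ (Iso.refl _) (Iso.refl _) (Iso.refl _)
        ?_ ?_ ?_)
      · exact (Category.comp_id _).trans (Category.id_comp _).symm
      · exact (Category.comp_id _).trans (Category.id_comp _).symm
      · show ((T₀.mor₃ ≫ (ιY'.commShiftIso (1 : ℤ)).inv.app (L.obj T.obj₁)) ≫
          (ιY'.commShiftIso (1 : ℤ)).hom.app (L.obj T.obj₁)) ≫ _ = 𝟙 _ ≫ T₀.mor₃
        rw [Category.assoc, Category.assoc, Category.id_comp]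
        erw [CategoryTheory.Functor.map_id, Category.comp_id, Iso.inv_hom_id_app, Category.comp_id]
    obtain ⟨d, hd⟩ := RightAdj22.exists_map_triangle f' hf' adj' hQ
    exact ⟨_, (resD W.ι).map_distinguished _ hd⟩
  -- the generators
  obtain ⟨P, hP, hPV, hgen⟩ := hasGen_of_qcqs Y V hV.isCompact
  have hUq : ∀ n : ℤ, DCoh.IsQCohD (DerivedCategory.Q.obj ((unitCx Y)⟦n⟧)) := fun n =>
    KSix19.BettiExact.isQCohD_of_iso' ((DerivedCategory.Q.commShiftIso n).app (unitCx Y) ≪≫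
      (shiftFunctor _ n).mapIso (unitCxQIso Y)).symm (isQCohD_shift (isQCohD_of_isPerfect (isPerfect_unit Y)) n)
  let E' : ULift.{u} ℤ ⊕ ULift.{u} ℤ → DCoh.DQCoh Y := Sum.elim
    (fun k => ⟨_, hUq k.down⟩) (fun k => ⟨P⟦k.down⟧, isQCohD_shift (isQCohD_of_isPerfect hP) _⟩)
  have hsh : ∀ k (m : ℤ), Nonempty ((E' k)⟦m⟧ ≅ E' (Sum.map (fun t => ⟨t.down + m⟩) (fun t => ⟨t.down + m⟩) k)) := by
    rintro (k | k) m
    · exact ⟨(DCoh.IsQCohD (X := Y)).isoMk ((((DCoh.IsQCohD (X := Y)).ι.commShiftIso m).app (E' (.inl k))) ≪≫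
        ((DerivedCategory.Q.commShiftIso m).app ((unitCx Y)⟦k.down⟧)).symm ≪≫
        DerivedCategory.Q.mapIso ((shiftFunctorAdd (CochainComplex Y.Modules ℤ) k.down m).app (unitCx Y)).symm)⟩
    · exact ⟨(DCoh.IsQCohD (X := Y)).isoMk ((((DCoh.IsQCohD (X := Y)).ι.commShiftIso m).app (E' (.inr k))) ≪≫
        ((shiftFunctorAdd (DCoh.D Y) k.down m).app P).symm)⟩
  have hperf : ∀ k, DCoh.IsPerfect (E' k).obj := by
    rintro (k | k)
    · exact isPerfect_of_iso (isPerfect_shift (isPerfect_unit Y) k.down)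
        ((DerivedCategory.Q.commShiftIso k.down).app (unitCx Y) ≪≫ (shiftFunctor _ k.down).mapIso (unitCxQIso Y)).symm
    · exact isPerfect_shift hP k.down
  have hbase : ∀ k, IsIso (α.app (E' k)) := by
    rintro (k | k)
    · haveI := isIso_bcMap_unit h adj adj' e adjg adjg' hξ (E' (.inl k)) k.down
        ((DerivedCategory.Q.commShiftIso k.down).app (unitCx Y) ≪≫ (shiftFunctor _ k.down).mapIso (unitCxQIso Y))
      exact Functor.map_isIso (resD W.ι) _
    · have hz : IsZero ((resD V.ι).obj (P⟦k.down⟧)) :=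
        ((shiftFunctor _ k.down).map_isZero hPV).of_iso (((resD V.ι).commShiftIso k.down).app P)
      have h1 : IsZero ((resD W.ι).obj (L'.obj (a.obj (E' (.inr k)))).obj) := by
        refine isZero_resD_of_le W.ι (g' ⁻¹ᵁ (f ⁻¹ᵁ V)).ι ?_
          (RightAdj22.isZero_resD_lpull g' (f ⁻¹ᵁ V)
            (RightAdj22.isZero_resD_adjoint_of_perfect f hf adj V (E' (.inr k)) (hperf _) hz))
        rw [Scheme.Opens.range_ι, Scheme.Opens.range_ι]
        exact preimage_le_preimage h le_rfl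
      have h2 : IsZero ((resD W.ι).obj (a'.obj (L.obj (E' (.inr k)))).obj) :=
        RightAdj22.isZero_resD_adjoint_of_perfect f' hf' adj' (g ⁻¹ᵁ V) (L.obj (E' (.inr k)))
          (isPerfect_lpull g (hperf _)) (RightAdj22.isZero_resD_lpull g V hz)
      exact ⟨0, h1.eq_of_src _ _, h2.eq_of_src _ _⟩
  have key : ∀ n : ℤ, IsIso (α.app (K⟦n⟧)) := by
    refine TriCatS.prop_of_generators.{u, u + 1} (E := E') (fun k m => ⟨_, hsh k m⟩)
      (TriCatS.isPerfectFamily_of_finHom.{u, u + 1} fun M k => finHom_DQCoh (hperf k) M)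
      (fun L₀ hL => ?_) (fun L₀ => ∀ n : ℤ, IsIso (α.app (L₀⟦n⟧))) (fun {A B} i hi n =>
        (NatTrans.isIso_app_iff_of_iso α ((shiftFunctor _ n).mapIso i)).1 (hi n)) (fun k n => ?_) (fun J Z hZ n => ?_)
      (fun T hT h₁ h₂ n => ?_) K
    · have hz := RightAdj22.isZero_of_hom_generators V hV hgen hPV L₀.property
        (fun n φ => congrArg (fun g : E' (.inr ⟨n⟩) ⟶ L₀ => g.hom) (hL (.inr ⟨n⟩) (ObjectProperty.homMk φ)))
        (fun n φ => congrArg (fun g : E' (.inl ⟨n⟩) ⟶ L₀ => g.hom) (hL (.inl ⟨n⟩) (ObjectProperty.homMk φ)))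
      exact (IsZero.iff_id_eq_zero L₀).2 (ObjectProperty.hom_ext _ (hz.eq_of_src _ _))
    · exact (NatTrans.isIso_app_iff_of_iso α (hsh k n).some).2 (hbase _)
    · haveI := preservesCoproducts_adjoint f hf adj J
      haveI := preservesCoproducts_adjoint f' hf' adj' J
      haveI : PreservesColimitsOfShape (Discrete J) L := adjg.leftAdjoint_preservesColimits.preservesColimitsOfShape
      haveI : PreservesColimitsOfShape (Discrete J) L' := adjg'.leftAdjoint_preservesColimits.preservesColimitsOfShape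
      haveI : (resD W.ι).IsLeftAdjoint := (resDAdj W.ι).isLeftAdjoint
      haveI := preservesColimitOfShape_of_createsColimitsOfShape_and_hasColimitsOfShape
        (F := (DCoh.IsQCohD (X := X')).ι) (J := Discrete J)
      exact (NatTrans.isIso_app_iff_of_iso α (PreservesCoproduct.iso (shiftFunctor (DCoh.DQCoh Y) n) Z)).2
        (RightAdj22.isIso_app_coproduct α (fun i => (Z i)⟦n⟧) fun i => hZ i n)
    · exact RightAdj22.isIso_app_obj₃ F G α hF hG (Triangle.shift_distinguished T hT n) (h₁ n) (h₂ n)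
        ((NatTrans.isIso_app_iff_of_iso α ((shiftFunctorAdd _ n (1 : ℤ)).app _)).1 (h₁ (n + 1)))
        ((NatTrans.isIso_app_iff_of_iso α ((shiftFunctorAdd _ n (1 : ℤ)).app _)).1 (h₂ (n + 1)))
  exact (NatTrans.isIso_app_iff_of_iso α ((shiftFunctorZero (DCoh.DQCoh Y) ℤ).app K)).1 (key 0)

end Square

end GrothLib.RightAdj20
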