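import Groth.Agent.Lib.RightAdj20.BCMapTools
import Groth.Agent.Lib.RightAdj20.RelDualFinal
import Groth.Agent.Lib.HomBC22.BCLocal
import Groth.Agent.Lib.TorBC25.Perfect
import Groth.Agent.Lib.TorBC25.ThA
import Groth.Agent.Lib.TorBC25.Splits
import Groth.Agent.Lib.TorBC25.BCFinal
import Groth.Agent.Lib.OX.AffinePush
import Groth.Agent.Lib.OX.AffineApps
import Groth.Agent.S0960

/-! # The base change map of the relative dual, locally -/

set_option autoImplicit false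
set_option maxHeartbeats 2000000
set_option linter.style.haveILetI false
set_option backward.isDefEq.respectTransparency false
universe u

open CategoryTheory CategoryTheory.Limits AlgebraicGeometry CategoryTheory.Pretriangulated GrothLib.OX

attribute [local instance] HasDerivedCategory.standard

noncomputable section

namespace GrothLib.RightAdj20

/-- Direct image along an affine morphism keeps upper bounds. -/
theorem isLE_RR_affine {X Y : Scheme.{u}} (k : X ⟶ Y) [IsAffineHom k] {C : DCoh.D X} (hC : DCoh.IsQCohD C)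
    (m : ℤ) [C.IsLE m] : ((RR k).obj C).IsLE m := by
  refine OX.isLE_of_affines fun y => ?_
  obtain ⟨V, hV, hy, -⟩ := exists_isAffineOpen_mem_and_subset (x := y) (U := ⊤) trivial
  refine ⟨_, hV.fromSpec, inferInstance, OX.mem_range_fromSpec hV hy, ?_⟩
  haveI := preservesFiniteLimits_tildeGen Γ(X, k ⁻¹ᵁ V)
  haveI := preservesFiniteLimits_tildeGen Γ(Y, V)
  obtain ⟨M, ⟨eM⟩⟩ := exists_tildeD_rep hC (hV.preimage k).fromSpec
  obtain ⟨a⟩ := nonempty_resD_RR_affine k hV (hV.preimage k) C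
  obtain ⟨b⟩ := nonempty_RR_tildeD (k.appLE V (k ⁻¹ᵁ V) le_rfl) M
  haveI := KSix19.isLE_resD (hV.preimage k).fromSpec (K := C) (b := m) inferInstance
  haveI : M.IsLE m := isLE_of_tildeD (R := Γ(X, k ⁻¹ᵁ V)) (DerivedCategory.TStructure.t.isLE_of_iso eM.symm m)
  haveI := isLE_restrictD (φ := (k.appLE V (k ⁻¹ᵁ V) le_rfl).hom) (M := M) m
  haveI := isLE_mapDerived (tilde.functor Γ(Y, V)) ((DRing.restrictD (k.appLE V (k ⁻¹ᵁ V) le_rfl).hom).obj M) m
  exact DerivedCategory.TStructure.t.isLE_of_iso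
    (a ≪≫ (RR (Spec.map (k.appLE V (k ⁻¹ᵁ V) le_rfl))).mapIso eM.symm ≪≫ b).symm m

/-- An isomorphism over an open is one over a smaller open. -/
theorem isIso_resD_of_factor {X U W : Scheme.{u}} (j : W ⟶ X) [IsOpenImmersion j] (i : U ⟶ X) [IsOpenImmersion i]
    (j₀ : W ⟶ U) [IsOpenImmersion j₀] (hj : j₀ ≫ i = j) {K L : DCoh.D X} (φ : K ⟶ L)
    (h : IsIso ((resD i).map φ)) : IsIso ((resD j).map φ) := by
  subst hj
  haveI := h
  exact (NatIso.isIso_map_iff (resDCompIso j₀ i) φ).1 (inferInstanceAs (IsIso ((resD j₀).map ((resD i).map φ))))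

section Adjoint

variable {X Y : Scheme.{u}} [CompactSpace X] [QuasiSeparatedSpace X] [CompactSpace Y] [QuasiSeparatedSpace Y]
  (f : X ⟶ Y) [IsProper f] [Flat f] [LocallyOfFinitePresentation f] [DCoh.HasRpush f]
  (hf : DCoh.RpushPreservesQCoh f) {a : DCoh.DQCoh Y ⥤ DCoh.DQCoh X} (adj : DCoh.RpushQ f hf ⊣ a)

theorem isPerfect_RpushQ (P : DCoh.DQCoh X) (hP : DCoh.IsPerfect P.obj) :
    DCoh.IsPerfect ((DCoh.RpushQ f hf).obj P).obj :=
  isPerfect_of_iso (TorBC25.isPerfect_RR f hP) ((rpushIsoRres f).app P.obj).symm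

include adj in
theorem preservesCoproducts_adjoint (J : Type u) : PreservesColimitsOfShape (Discrete J) a :=
  RightAdj22.preservesColimitsOfShape adj (isPerfect_RpushQ f hf) J

include adj in
/-- `a = Lf^*(-) ⊗ a(O)`. -/
theorem exists_kflat_adjoint_iso [DCoh.HasLpull f] (O : DCoh.DQCoh Y)
    (hO : Nonempty (O.obj ≅ DCoh.inD Y (Coh.structureModule Y))) :
    ∃ (E : CochainComplex X.Modules ℤ) (_ : DCoh.IsKFlat E) (_ : DCoh.HasLTensorCx E),
      Nonempty (DCoh.toD X E ≅ (a.obj O).obj) ∧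
        Nonempty (a ⋙ ObjectProperty.ι _ ≅ ObjectProperty.ι _ ⋙ DCoh.Lpull f ⋙ DCoh.LTensorCx E) := by
  obtain ⟨E, hE, ⟨e⟩⟩ := exists_kflat_rep (a.obj O).obj
  haveI := hasLTensorCx E
  exact ⟨E, hE, inferInstance, ⟨e⟩,
    RightAdj22.nonempty_iso f hf adj (preservesCoproducts_adjoint f hf adj) O hO E ⟨e⟩⟩

include adj in
/-- The right adjoint commutes with shifts of the structure sheaf. -/
theorem nonempty_adjoint_shift_unit (O : DCoh.DQCoh Y)
    (hO : Nonempty (O.obj ≅ DCoh.inD Y (Coh.structureModule Y))) (K : DCoh.DQCoh Y) (n : ℤ)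
    (eK : K.obj ≅ (DCoh.inD Y (Coh.structureModule Y))⟦n⟧) :
    Nonempty ((a.obj K).obj ≅ ((a.obj O).obj)⟦n⟧) := by
  haveI := hasLpull f
  obtain ⟨E, hE, _, ⟨e⟩, ⟨α⟩⟩ := exists_kflat_adjoint_iso f hf adj O hO
  obtain ⟨b⟩ := nonempty_lpullAdj f
  letI := TorBC25.lpullCommShift f (b.ofNatIsoRight (rpushIsoRres f))
  obtain ⟨s⟩ := TorBC25.nonempty_lpull_structure f
  obtain ⟨t⟩ := Dual22.nonempty_ltensorCx_shift_unit E n
  exact ⟨α.app K ≪≫ (DCoh.LTensorCx E).mapIso ((DCoh.Lpull f).mapIso eK ≪≫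
    ((DCoh.Lpull f).commShiftIso n).app _ ≪≫ (shiftFunctor _ n).mapIso s) ≪≫ t ≪≫ (shiftFunctor _ n).mapIso e⟩

include adj in
/-- The right adjoint is local on the base. -/
theorem isIso_resD_adjoint_map (O : DCoh.DQCoh Y) (hO : Nonempty (O.obj ≅ DCoh.inD Y (Coh.structureModule Y)))
    {A B : DCoh.DQCoh Y} (φ : A ⟶ B) (V : Y.Opens) (hφ : IsIso ((resD V.ι).map φ.hom)) :
    IsIso ((resD (f ⁻¹ᵁ V).ι).map (a.map φ).hom) := by
  haveI := hasLpull f
  obtain ⟨E, hE, _, -, ⟨α⟩⟩ := exists_kflat_adjoint_iso f hf adj O hO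
  obtain ⟨b⟩ := nonempty_lpullAdj f
  let radj := b.ofNatIsoRight (rpushIsoRres f)
  letI := TorBC25.lpullCommShift f radj
  haveI := TorBC25.isTriangulated_lpull f radj
  obtain ⟨C, c, d, hT⟩ := distinguished_cocone_triangle φ.hom
  have hz : IsZero ((resD V.ι).obj C) :=
    (Triangle.isZero₃_iff_isIso₁ _ ((resD V.ι).map_distinguished _ hT)).2 hφ
  obtain ⟨d', hT'⟩ := RightAdj22.exists_triangle_ltensor' E ((DCoh.Lpull f).map_distinguished _ hT)
  have h1 : IsIso ((resD (f ⁻¹ᵁ V).ι).map ((DCoh.LTensorCx E).map ((DCoh.Lpull f).map φ.hom))) :=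
    (Triangle.isZero₃_iff_isIso₁ _ ((resD (f ⁻¹ᵁ V).ι).map_distinguished _ hT')).1
      (RightAdj22.isZero_resD_ltensor _ E (RightAdj22.isZero_resD_lpull f V hz))
  exact (NatIso.isIso_map_iff (Functor.isoWhiskerRight α (resD (f ⁻¹ᵁ V).ι)) φ).2 h1

end Adjoint

section Model

variable {X Y : Scheme.{u}} [CompactSpace Y] [QuasiSeparatedSpace Y] (f : X ⟶ Y) [IsProper f] [Flat f]
  [LocallyOfFinitePresentation f] [DCoh.HasRpush f]

/-- Over an affine open of the base the relative dual is the one of the restriction. -/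
theorem nonempty_resD_adjoint_model (hf : DCoh.RpushPreservesQCoh f) {a : DCoh.DQCoh Y ⥤ DCoh.DQCoh X}
    (adj : DCoh.RpushQ f hf ⊣ a) (O : DCoh.DQCoh Y) (hO : Nonempty (O.obj ≅ DCoh.inD Y (Coh.structureModule Y)))
    (V : Y.Opens) (hV : IsAffineOpen V) [DCoh.HasRpush ((f ∣_ V) ≫ hV.isoSpec.hom)]
    (hf₁ : DCoh.RpushPreservesQCoh ((f ∣_ V) ≫ hV.isoSpec.hom))
    {a₁ : DCoh.DQCoh (Spec Γ(Y, V)) ⥤ DCoh.DQCoh (f ⁻¹ᵁ V).toScheme}
    (adj₁ : DCoh.RpushQ ((f ∣_ V) ≫ hV.isoSpec.hom) hf₁ ⊣ a₁) (O₁ : DCoh.DQCoh (Spec Γ(Y, V)))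
    (hO₁ : Nonempty (O₁.obj ≅ DCoh.inD _ (Coh.structureModule (Spec Γ(Y, V))))) :
    Nonempty ((resD (f ⁻¹ᵁ V).ι).obj (a.obj O).obj ≅ (a₁.obj O₁).obj) := by
  let σ : V.toScheme ≅ Spec Γ(Y, V) := hV.isoSpec
  let g := f ∣_ V
  haveI : IsAffine V.toScheme := hV
  haveI : CompactSpace V.toScheme := isCompact_iff_compactSpace.1 hV.isCompact
  haveI : CompactSpace (f ⁻¹ᵁ V).toScheme := QuasiCompact.compactSpace_of_compactSpace g
  haveI : QuasiSeparatedSpace (f ⁻¹ᵁ V).toScheme := quasiSeparatedSpace_of_quasiSeparated g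
  haveI : DCoh.HasRpush g := KInj.hasRightDerivedFunctor _
  have hg : DCoh.RpushPreservesQCoh g := fun K hK =>
    GrothLib.KSix19.BettiExact.isQCohD_of_iso' ((rpushIsoRres g).app K).symm (isQCohD_Rres g K hK)
  haveI : (DCoh.RpushQ g hg).IsLeftAdjoint := GrothLib.OX.isLeftAdjoint_lift_Rpush g hg
  let adjV := Adjunction.ofIsLeftAdjoint (DCoh.RpushQ g hg)
  obtain ⟨eO⟩ := hO
  obtain ⟨eO₁⟩ := hO₁
  obtain ⟨r₁⟩ := BCPerf20.nonempty_resD_inD V.ι (Coh.structureModule Y)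
  obtain ⟨r₂⟩ := BCPerf20.nonempty_resD_inD σ.hom (Coh.structureModule (Spec Γ(Y, V)))
  let single := DerivedCategory.singleFunctor V.toScheme.Modules 0
  let eV : (resD V.ι).obj O.obj ≅ (resD σ.hom).obj O₁.obj :=
    (resD V.ι).mapIso eO ≪≫ r₁ ≪≫ single.mapIso (OX.pullUnitIso V.ι) ≪≫
      ((resD σ.hom).mapIso eO₁ ≪≫ r₂ ≪≫ single.mapIso (OX.pullUnitIso σ.hom)).symm
  obtain ⟨e₁⟩ := nonempty_resD_adjoint f hf adj V hV hg adjV O
  obtain ⟨e₂⟩ := nonempty_adjoint_comp_iso g σ hg adjV hf₁ adj₁ O₁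
  let aV := (DCoh.RpushQ g hg).rightAdjoint
  exact ⟨e₁ ≪≫ (aV ⋙ ObjectProperty.ι _).mapIso ((DCoh.IsQCohD (X := V.toScheme)).isoMk
      (X := ⟨_, isQCohD_resD V.ι O.property⟩) (Y := ⟨_, isQCohD_resD σ.hom O₁.property⟩) eV) ≪≫ e₂⟩

end Model

section Square

variable {X Y X' Y' : Scheme.{u}} {f : X ⟶ Y} {g : Y' ⟶ Y} {f' : X' ⟶ Y'} {g' : X' ⟶ X}
  (h : IsPullback g' f' f g)
  [CompactSpace X] [QuasiSeparatedSpace X] [CompactSpace Y] [QuasiSeparatedSpace Y]
  [CompactSpace X'] [QuasiSeparatedSpace X'] [CompactSpace Y'] [QuasiSeparatedSpace Y']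
  [IsProper f] [Flat f] [LocallyOfFinitePresentation f]
  [DCoh.HasRpush f] [DCoh.HasRpush f'] [DCoh.HasRpush g] [DCoh.HasRpush g'] [DCoh.HasLpull g] [DCoh.HasLpull g']
  {hf : DCoh.RpushPreservesQCoh f} {hf' : DCoh.RpushPreservesQCoh f'}
  {a : DCoh.DQCoh Y ⥤ DCoh.DQCoh X} {a' : DCoh.DQCoh Y' ⥤ DCoh.DQCoh X'}
  (adj : DCoh.RpushQ f hf ⊣ a) (adj' : DCoh.RpushQ f' hf' ⊣ a')
  {U : Y.Opens} {U' : Y'.Opens}

include h in
theorem preimage_le_preimage (e' : U' ≤ g ⁻¹ᵁ U) : f' ⁻¹ᵁ U' ≤ g' ⁻¹ᵁ (f ⁻¹ᵁ U) := fun x hx => by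
  show f (g' x) ∈ U
  rw [← Scheme.Hom.comp_apply, h.w, Scheme.Hom.comp_apply]
  exact e' hx

include h adj adj' in
/-- The relative dual commutes with base change, over affine opens. -/
theorem nonempty_resD_square_adjoint (hU : IsAffineOpen U) (hU' : IsAffineOpen U') (e' : U' ≤ g ⁻¹ᵁ U)
    (O : DCoh.DQCoh Y) (hO : Nonempty (O.obj ≅ DCoh.inD Y (Coh.structureModule Y)))
    (O' : DCoh.DQCoh Y') (hO' : Nonempty (O'.obj ≅ DCoh.inD Y' (Coh.structureModule Y'))) :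
    Nonempty ((resD (f' ⁻¹ᵁ U').ι).obj ((DCoh.Lpull g').obj (a.obj O).obj) ≅
      (resD (f' ⁻¹ᵁ U').ι).obj (a'.obj O').obj) := by
  haveI : Flat f' := MorphismProperty.of_isPullback (P := @Flat) h ‹_›
  haveI : IsProper f' := MorphismProperty.of_isPullback (P := @IsProper) h ‹_›
  haveI : LocallyOfFinitePresentation f' :=
    MorphismProperty.of_isPullback (P := @LocallyOfFinitePresentation) h ‹_›
  let iX := (f ⁻¹ᵁ U).ι
  let i' := (f' ⁻¹ᵁ U').ι
  let g₀ : U'.toScheme ⟶ U.toScheme := g.resLE U U' e'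
  have hg₀ : g₀ ≫ U.ι = U'.ι ≫ g := Scheme.Hom.resLE_comp_ι _ e'
  let k₀ : (f' ⁻¹ᵁ U').toScheme ⟶ (f ⁻¹ᵁ U).toScheme := g'.resLE _ _ (preimage_le_preimage h e')
  have hk₀ : k₀ ≫ iX = i' ≫ g' := Scheme.Hom.resLE_comp_ι _ (preimage_le_preimage h e')
  have hmid : IsPullback k₀ (f' ∣_ U') (f ∣_ U) g₀ := by
    have hsq : IsPullback iX (f ∣_ U) f U.ι := (isPullback_morphismRestrict f U).flip
    have hbig : IsPullback (k₀ ≫ iX) (f' ∣_ U') f (g₀ ≫ U.ι) := by
      rw [hk₀, hg₀]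
      exact ((isPullback_morphismRestrict f' U').flip).paste_horiz h
    refine IsPullback.of_right hbig ?_ hsq
    rw [← cancel_mono U.ι, Category.assoc, Category.assoc, hsq.w.symm, ← Category.assoc, hbig.w]
  let φ := g.appLE U U' e'
  have hw : g₀ ≫ hU.isoSpec.hom = hU'.isoSpec.hom ≫ Spec.map φ := by
    rw [← cancel_mono hU.fromSpec, Category.assoc, Category.assoc, hU.isoSpec_hom_fromSpec, hg₀,
      hU.SpecMap_appLE_fromSpec g hU' e', ← Category.assoc, hU'.isoSpec_hom_fromSpec]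
  let f₁ := (f ∣_ U) ≫ hU.isoSpec.hom
  let f₁' := (f' ∣_ U') ≫ hU'.isoSpec.hom
  have H : IsPullback k₀ f₁' f₁ (Spec.map φ) := hmid.paste_vert (IsPullback.of_vert_isIso ⟨hw⟩)
  haveI : IsProper f₁ := inferInstanceAs (IsProper (_ ≫ _))
  haveI : Flat f₁ := inferInstanceAs (Flat (_ ≫ _))
  haveI : LocallyOfFinitePresentation f₁ := inferInstanceAs (LocallyOfFinitePresentation (_ ≫ _))
  haveI : IsProper f₁' := inferInstanceAs (IsProper (_ ≫ _))
  haveI : CompactSpace U.toScheme := isCompact_iff_compactSpace.1 hU.isCompact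
  haveI : CompactSpace U'.toScheme := isCompact_iff_compactSpace.1 hU'.isCompact
  haveI : IsAffine U.toScheme := hU
  haveI : IsAffine U'.toScheme := hU'
  haveI : CompactSpace (f ⁻¹ᵁ U).toScheme := QuasiCompact.compactSpace_of_compactSpace (f ∣_ U)
  haveI : QuasiSeparatedSpace (f ⁻¹ᵁ U).toScheme := quasiSeparatedSpace_of_quasiSeparated (f ∣_ U)
  haveI : CompactSpace (f' ⁻¹ᵁ U').toScheme := QuasiCompact.compactSpace_of_compactSpace (f' ∣_ U')
  haveI : QuasiSeparatedSpace (f' ⁻¹ᵁ U').toScheme := quasiSeparatedSpace_of_quasiSeparated (f' ∣_ U')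
  haveI : DCoh.HasRpush f₁ := KInj.hasRightDerivedFunctor _
  haveI : DCoh.HasRpush f₁' := KInj.hasRightDerivedFunctor _
  have h₁ : DCoh.RpushPreservesQCoh f₁ := fun K hK =>
    GrothLib.KSix19.BettiExact.isQCohD_of_iso' ((rpushIsoRres f₁).app K).symm (isQCohD_Rres f₁ K hK)
  have h₁' : DCoh.RpushPreservesQCoh f₁' := fun K hK =>
    GrothLib.KSix19.BettiExact.isQCohD_of_iso' ((rpushIsoRres f₁').app K).symm (isQCohD_Rres f₁' K hK)
  haveI : (DCoh.RpushQ f₁ h₁).IsLeftAdjoint := GrothLib.OX.isLeftAdjoint_lift_Rpush f₁ h₁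
  haveI : (DCoh.RpushQ f₁' h₁').IsLeftAdjoint := GrothLib.OX.isLeftAdjoint_lift_Rpush f₁' h₁'
  let adj₁ := Adjunction.ofIsLeftAdjoint (DCoh.RpushQ f₁ h₁)
  let adj₁' := Adjunction.ofIsLeftAdjoint (DCoh.RpushQ f₁' h₁')
  let O₁ : DCoh.DQCoh (Spec Γ(Y, U)) := ⟨DCoh.inD _ (Coh.structureModule _), isQCohD_of_isPerfect (isPerfect_unit _)⟩
  let O₁' : DCoh.DQCoh (Spec Γ(Y', U')) :=
    ⟨DCoh.inD _ (Coh.structureModule _), isQCohD_of_isPerfect (isPerfect_unit _)⟩
  haveI := hasLpull k₀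
  obtain ⟨e₁⟩ := nonempty_resD_adjoint_model f hf adj O hO U hU h₁ adj₁ O₁ ⟨Iso.refl _⟩
  obtain ⟨e₁'⟩ := nonempty_resD_adjoint_model f' hf' adj' O' hO' U' hU' h₁' adj₁' O₁' ⟨Iso.refl _⟩
  obtain ⟨c⟩ := nonempty_lpull_adjoint φ.hom (p := f₁) (q := k₀) (f := f₁') H h₁ adj₁ O₁ ⟨Iso.refl _⟩
    h₁' adj₁' O₁' ⟨Iso.refl _⟩
  obtain ⟨s⟩ := nonempty_resD_lpull_square g' i' iX k₀ hk₀
  exact ⟨s.app (a.obj O).obj ≪≫ (DCoh.Lpull k₀).mapIso e₁ ≪≫ c ≪≫ e₁'.symm⟩

variable {hg : DCoh.RpushPreservesQCoh g} {hg' : DCoh.RpushPreservesQCoh g'}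
  {hLg : Dual3.LpullPreservesQCoh g} {hLg' : Dual3.LpullPreservesQCoh g'}

include h adj adj' in
/-- Both sides of the base change map agree locally, for shifts of the structure sheaf. -/
theorem nonempty_resD_bc_sides (hU : IsAffineOpen U) (hU' : IsAffineOpen U') (e' : U' ≤ g ⁻¹ᵁ U)
    (K : DCoh.DQCoh Y) (n : ℤ) (eK : K.obj ≅ (DCoh.inD Y (Coh.structureModule Y))⟦n⟧) :
    Nonempty ((resD (f' ⁻¹ᵁ U').ι).obj ((Dual3.LpullQ g' hLg').obj (a.obj K)).obj ≅
      (resD (f' ⁻¹ᵁ U').ι).obj (a'.obj ((Dual3.LpullQ g hLg).obj K)).obj) := by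
  haveI : Flat f' := MorphismProperty.of_isPullback (P := @Flat) h ‹_›
  haveI : IsProper f' := MorphismProperty.of_isPullback (P := @IsProper) h ‹_›
  haveI : LocallyOfFinitePresentation f' :=
    MorphismProperty.of_isPullback (P := @LocallyOfFinitePresentation) h ‹_›
  let O : DCoh.DQCoh Y := ⟨DCoh.inD Y (Coh.structureModule Y), isQCohD_of_isPerfect (isPerfect_unit Y)⟩
  let O' : DCoh.DQCoh Y' := ⟨DCoh.inD Y' (Coh.structureModule Y'), isQCohD_of_isPerfect (isPerfect_unit Y')⟩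
  obtain ⟨b⟩ := nonempty_lpullAdj g
  obtain ⟨b'⟩ := nonempty_lpullAdj g'
  letI := TorBC25.lpullCommShift g (b.ofNatIsoRight (rpushIsoRres g))
  letI := TorBC25.lpullCommShift g' (b'.ofNatIsoRight (rpushIsoRres g'))
  obtain ⟨s⟩ := TorBC25.nonempty_lpull_structure g
  let eL : ((Dual3.LpullQ g hLg).obj K).obj ≅ (DCoh.inD Y' (Coh.structureModule Y'))⟦n⟧ :=
    (DCoh.Lpull g).mapIso eK ≪≫ ((DCoh.Lpull g).commShiftIso n).app _ ≪≫ (shiftFunctor _ n).mapIso s
  obtain ⟨p⟩ := nonempty_adjoint_shift_unit f hf adj O ⟨Iso.refl _⟩ K n eK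
  obtain ⟨p'⟩ := nonempty_adjoint_shift_unit f' hf' adj' O' ⟨Iso.refl _⟩ ((Dual3.LpullQ g hLg).obj K) n eL
  obtain ⟨c⟩ := nonempty_resD_square_adjoint h adj adj' hU hU' e' O ⟨Iso.refl _⟩ O' ⟨Iso.refl _⟩
  let R := resD (f' ⁻¹ᵁ U').ι
  exact ⟨R.mapIso ((DCoh.Lpull g').mapIso p ≪≫ ((DCoh.Lpull g').commShiftIso n).app _) ≪≫
    (R.commShiftIso n).app _ ≪≫ (shiftFunctor _ n).mapIso c ≪≫ ((R.commShiftIso n).app _).symm ≪≫
    R.mapIso p'.symm⟩

variable (e : DCoh.RpushQ g' hg' ⋙ DCoh.RpushQ f hf ≅ DCoh.RpushQ f' hf' ⋙ DCoh.RpushQ g hg)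
  (adjg : Dual3.LpullQ g hLg ⊣ DCoh.RpushQ g hg) (adjg' : Dual3.LpullQ g' hLg' ⊣ DCoh.RpushQ g' hg')

omit [CompactSpace X] [QuasiSeparatedSpace X] [CompactSpace Y] [QuasiSeparatedSpace Y] [CompactSpace X']
  [QuasiSeparatedSpace X'] [CompactSpace Y'] [QuasiSeparatedSpace Y'] [IsProper f] [Flat f]
  [LocallyOfFinitePresentation f] [DCoh.HasLpull g] [DCoh.HasLpull g'] in
/-- The comparison of right adjoints is natural. -/
theorem xi_naturality {M N : DCoh.DQCoh Y'} (χ : M ⟶ N) :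
    (DCoh.RpushQ g' hg').map (a'.map χ) ≫ Dual3.xi adj adj' e N =
      Dual3.xi adj adj' e M ≫ a.map ((DCoh.RpushQ g hg).map χ) := by
  refine (adj.homEquiv_naturality_left _ _).symm.trans (Eq.trans ?_ (adj.homEquiv_naturality_right _ _))
  refine congrArg _ ?_
  refine (Category.assoc _ _ _).symm.trans ?_
  refine (congrArg (· ≫ _) (e.hom.naturality (a'.map χ))).trans ?_
  refine (Category.assoc _ _ _).trans (Eq.trans ?_ (Category.assoc _ _ _).symm)
  refine congrArg (e.hom.app _ ≫ ·) ?_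
  refine ((DCoh.RpushQ g hg).map_comp _ _).symm.trans (Eq.trans ?_ ((DCoh.RpushQ g hg).map_comp _ _))
  exact congrArg _ (adj'.counit.naturality χ)

omit [CompactSpace X] [QuasiSeparatedSpace X] [CompactSpace Y] [QuasiSeparatedSpace Y] [CompactSpace X']
  [QuasiSeparatedSpace X'] [CompactSpace Y'] [QuasiSeparatedSpace Y'] [IsProper f] [Flat f]
  [LocallyOfFinitePresentation f] in
/-- The base change map, followed by a map of the second variable. -/
theorem bcMap_comp_map {K : DCoh.DQCoh Y} (hξ : ∀ M, IsIso (Dual3.xi adj adj' e M)) {M : DCoh.DQCoh Y'}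
    (χ : (Dual3.LpullQ g hLg).obj K ⟶ M) :
    Dual3.bcMap adj adj' e adjg adjg' K (hξ _) ≫ a'.map χ =
      (Dual3.LpullQ g' hLg').map (a.map (adjg.homEquiv _ _ χ)) ≫
        (haveI := hξ M; (Dual3.LpullQ g' hLg').map (inv (Dual3.xi adj adj' e M))) ≫
          adjg'.counit.app (a'.obj M) := by
  haveI := hξ
  let L' := Dual3.LpullQ g' hLg'
  let N := (Dual3.LpullQ g hLg).obj K
  have h1 : a.map ((DCoh.RpushQ g hg).map χ) ≫ inv (Dual3.xi adj adj' e M) =
      inv (Dual3.xi adj adj' e N) ≫ (DCoh.RpushQ g' hg').map (a'.map χ) := by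
    rw [IsIso.eq_inv_comp, ← Category.assoc, IsIso.comp_inv_eq]
    exact (xi_naturality adj adj' e χ).symm
  rw [Adjunction.homEquiv_unit, a.map_comp, L'.map_comp, Category.assoc, ← L'.map_comp_assoc (a.map _) (inv _), h1,
    L'.map_comp, Category.assoc]
  refine (Category.assoc _ _ _).trans (congrArg (L'.map (a.map (adjg.unit.app K)) ≫ ·) ?_)
  refine (Category.assoc _ _ _).trans (congrArg (L'.map (inv (Dual3.xi adj adj' e N)) ≫ ·) ?_)
  exact (adjg'.counit.naturality (a'.map χ)).symm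

omit [CompactSpace X] [QuasiSeparatedSpace X] [CompactSpace Y] [QuasiSeparatedSpace Y] [CompactSpace X']
  [QuasiSeparatedSpace X'] [CompactSpace Y'] [QuasiSeparatedSpace Y'] [IsProper f] [Flat f]
  [LocallyOfFinitePresentation f] in
/-- The base change map is natural. -/
theorem bcMap_naturality (hξ : ∀ M, IsIso (Dual3.xi adj adj' e M)) {K K₁ : DCoh.DQCoh Y} (η : K ⟶ K₁) :
    Dual3.bcMap adj adj' e adjg adjg' K (hξ _) ≫ a'.map ((Dual3.LpullQ g hLg).map η) =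
      (Dual3.LpullQ g' hLg').map (a.map η) ≫ Dual3.bcMap adj adj' e adjg adjg' K₁ (hξ _) := by
  rw [bcMap_comp_map adj adj' e adjg adjg' hξ, Adjunction.homEquiv_unit,
    show adjg.unit.app K ≫ (DCoh.RpushQ g hg).map ((Dual3.LpullQ g hLg).map η) = η ≫ adjg.unit.app K₁ from
      (adjg.unit.naturality η).symm,
    a.map_comp, (Dual3.LpullQ g' hLg').map_comp, Category.assoc]
  rfl

include h adjg adjg' in
/-- A map out of `a'(Lg^* K)` killed by all composites with the base change map vanishes, in the top degree. -/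
theorem eq_zero_of_bc_comp (hξ : ∀ M, IsIso (Dual3.xi adj adj' e M)) (hU : IsAffineOpen U) (hU' : IsAffineOpen U')
    (e' : U' ≤ g ⁻¹ᵁ U) (O : DCoh.DQCoh Y) (hO : Nonempty (O.obj ≅ DCoh.inD Y (Coh.structureModule Y)))
    (K : DCoh.DQCoh Y) (n : ℤ) (eK : K.obj ≅ (DCoh.inD Y (Coh.structureModule Y))⟦n⟧)
    {B : CommRingCat.{u}} (j : Spec B ⟶ X') [IsOpenImmersion j] (hj : Set.range j ⊆ (f' ⁻¹ᵁ U' : Set X')) (b : ℤ)
    (hA : ((resD j).obj ((DCoh.Lpull g').obj (a.obj O).obj)).IsLE (b + n))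
    (N : DCoh.D (Spec B)) (hN : DCoh.IsQCohD N) [N.IsGE b]
    (lam : (resD j).obj (a'.obj ((Dual3.LpullQ g hLg).obj K)).obj ⟶ N)
    (hlam : ∀ φ : (resD j).obj (a'.obj ((Dual3.LpullQ g hLg).obj K)).obj ⟶
      (resD j).obj (a'.obj ((Dual3.LpullQ g hLg).obj K)).obj,
      (resD j).map (Dual3.bcMap adj adj' e adjg adjg' K (hξ _)).hom ≫ φ ≫ lam = 0) : lam = 0 := by
  haveI : Flat f' := MorphismProperty.of_isPullback (P := @Flat) h ‹_›
  haveI : IsProper f' := MorphismProperty.of_isPullback (P := @IsProper) h ‹_›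
  haveI : LocallyOfFinitePresentation f' :=
    MorphismProperty.of_isPullback (P := @LocallyOfFinitePresentation) h ‹_›
  haveI : QuasiCompact g := quasiCompact_of_compactSpace g
  haveI : QuasiSeparated g := QuasiSeparated.of_quasiSeparatedSpace g
  haveI : CompactSpace U.toScheme := isCompact_iff_compactSpace.1 hU.isCompact
  haveI : CompactSpace U'.toScheme := isCompact_iff_compactSpace.1 hU'.isCompact
  haveI : IsAffine U.toScheme := hU
  haveI : IsAffine U'.toScheme := hU'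
  haveI : QuasiCompact U'.ι := quasiCompact_of_compactSpace U'.ι
  haveI : QuasiCompact j := quasiCompact_of_compactSpace j
  haveI := preservesFiniteLimits_tildeGen Γ(Y, U)
  let L := Dual3.LpullQ g hLg
  let L' := Dual3.LpullQ g' hLg'
  let G := DCoh.RpushQ g hg
  let O' : DCoh.DQCoh Y' := ⟨DCoh.inD Y' (Coh.structureModule Y'), isQCohD_of_isPerfect (isPerfect_unit Y')⟩
  let N₀ := L.obj K
  let M := HomBC22.locObj U' N₀
  let η : N₀ ⟶ M := HomBC22.locUnit U' N₀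
  let Q := G.obj M
  -- the lifts of `j`
  let i' := (f' ⁻¹ᵁ U').ι
  let j₀ := IsOpenImmersion.lift i' j (by rwa [Scheme.Opens.range_ι])
  have hj₀ : j₀ ≫ i' = j := IsOpenImmersion.lift_fac i' j _
  haveI : IsOpenImmersion j₀ := by
    haveI : IsOpenImmersion (j₀ ≫ i') := by rw [hj₀]; infer_instance
    exact IsOpenImmersion.of_comp j₀ i'
  have hr : IsIso ((resD i').map (a'.map η).hom) :=
    isIso_resD_adjoint_map f' hf' adj' O' ⟨Iso.refl _⟩ η U' (HomBC22.isIso_resD_locUnit U' N₀)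
  haveI hrj : IsIso ((resD j).map (a'.map η).hom) := isIso_resD_of_factor j i' j₀ hj₀ _ hr
  let r := (resD j).map (a'.map η).hom
  let RN : DCoh.DQCoh X' := ⟨(RR j).obj N, isQCohD_Rres j N hN⟩
  let Λ : a'.obj M ⟶ RN := ObjectProperty.homMk ((resDAdj j).homEquiv _ _ (inv r ≫ lam))
  -- the test object on the base
  let g₁ : U'.toScheme ⟶ Spec Γ(Y, U) := g.resLE U U' e' ≫ hU.isoSpec.hom
  haveI : IsAffineHom g₁ := isAffineHom_of_isAffine g₁
  have hg₁ : g₁ ≫ hU.fromSpec = U'.ι ≫ g := by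
    rw [Category.assoc, hU.isoSpec_hom_fromSpec, Scheme.Hom.resLE_comp_ι]
  haveI : QuasiCompact hU.fromSpec :=
    quasiCompact_of_isCompact_range hU.fromSpec (by rw [hU.range_fromSpec]; exact hU.isCompact)
  let A := (resD U'.ι).obj N₀.obj
  let eQ : Q.obj ≅ (RR hU.fromSpec).obj ((RR g₁).obj A) :=
    (rpushIsoRres g).app _ ≪≫ (RRCompIso U'.ι g).app A ≪≫ (RRCongr hg₁.symm).app A ≪≫
      ((RRCompIso g₁ hU.fromSpec).app A).symm
  have hloc : HomBC22.RestrBij hU.fromSpec Q.obj := restrBij_of_iso _ eQ.symm (HomBC22.restrBij_RR _ _)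
  haveI hQle : ((resD hU.fromSpec).obj Q.obj).IsLE (-n) := by
    obtain ⟨b⟩ := nonempty_lpullAdj g
    letI := TorBC25.lpullCommShift g (b.ofNatIsoRight (rpushIsoRres g))
    obtain ⟨s⟩ := TorBC25.nonempty_lpull_structure g
    haveI : (DCoh.inD Y' (Coh.structureModule Y')).IsLE 0 :=
      inferInstanceAs (((DerivedCategory.singleFunctor Y'.Modules 0).obj _).IsLE 0)
    haveI := DerivedCategory.TStructure.t.isLE_shift (DCoh.inD Y' (Coh.structureModule Y')) 0 n (-n) (by omega)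
    haveI : N₀.obj.IsLE (-n) := DerivedCategory.TStructure.t.isLE_of_iso
      ((DCoh.Lpull g).mapIso eK ≪≫ ((DCoh.Lpull g).commShiftIso n).app _ ≪≫ (shiftFunctor _ n).mapIso s).symm (-n)
    haveI : A.IsLE (-n) := KSix19.isLE_resD U'.ι inferInstance
    haveI := isLE_RR_affine g₁ (isQCohD_resD U'.ι N₀.property) (-n)
    haveI := isIso_resDAdj_counit_app hU.fromSpec ((RR g₁).obj A)
    let e₀ : (resD hU.fromSpec).obj Q.obj ≅ (RR g₁).obj A :=
      (resD hU.fromSpec).mapIso eQ ≪≫ asIso ((resDAdj hU.fromSpec).counit.app ((RR g₁).obj A))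
    exact DerivedCategory.TStructure.t.isLE_of_iso e₀.symm (-n)
  obtain ⟨J, c, hcov⟩ := exists_cover (R := Γ(Y, U)) hU.fromSpec K n eK Q hloc
  haveI := hξ
  let p := adjg'.counit.app (a'.obj M) ≫ Λ
  let ζ : L'.obj (a.obj Q) ⟶ RN := L'.map (inv (Dual3.xi adj adj' e M)) ≫ p
  have hcomp : ∀ i, L'.map (a.map (c i)) ≫ ζ = 0 := fun i => by
    let χ : N₀ ⟶ M := (adjg.homEquiv _ _).symm (c i)
    have h1 := bcMap_comp_map adj adj' e adjg adjg' hξ χ
    rw [Equiv.apply_symm_apply] at h1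
    have h2 : L'.map (a.map (c i)) ≫ ζ = (Dual3.bcMap adj adj' e adjg adjg' K (hξ _) ≫ a'.map χ) ≫ Λ := by
      rw [h1]
      simp only [ζ, p, Category.assoc]
      rfl
    rw [h2]
    refine ObjectProperty.hom_ext _ ?_
    show ((Dual3.bcMap adj adj' e adjg adjg' K (hξ _)).hom ≫ (a'.map χ).hom) ≫
      (resDAdj j).homEquiv _ _ (inv r ≫ lam) = 0
    rw [← Adjunction.homEquiv_naturality_left, Functor.map_comp, Category.assoc]
    have h3 := hlam ((resD j).map (a'.map χ).hom ≫ inv r)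
    rw [Category.assoc] at h3
    rw [h3, Adjunction.homEquiv_unit, Functor.map_zero, comp_zero]
  obtain ⟨C, gC, dC, hT⟩ := distinguished_cocone_triangle (Sigma.desc c)
  have hC := hcov C gC dC hT
  have hS : L'.map (a.map (Sigma.desc c)) ≫ ζ = 0 := by
    haveI := preservesCoproducts_adjoint f hf adj J
    haveI : PreservesColimitsOfShape (Discrete J) L' := adjg'.leftAdjoint_preservesColimits.preservesColimitsOfShape
    refine (isColimitOfPreserves (a ⋙ L') (coproductIsCoproduct fun _ : J => K)).hom_ext fun ⟨i⟩ => ?_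
    show L'.map (a.map (Sigma.ι (fun _ : J => K) i)) ≫ L'.map (a.map (Sigma.desc c)) ≫ ζ =
      L'.map (a.map (Sigma.ι (fun _ : J => K) i)) ≫ 0
    rw [← Functor.map_comp_assoc, ← Functor.map_comp, Sigma.ι_desc, comp_zero, hcomp]
  have hζ : ζ = 0 := by
    haveI : QuasiCompact f := quasiCompact_of_compactSpace f
    haveI : QuasiSeparated f := QuasiSeparated.of_quasiSeparatedSpace f
    obtain ⟨d, hd⟩ := RightAdj22.exists_map_triangle f hf adj hT
    obtain ⟨b'⟩ := nonempty_lpullAdj g'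
    let radj := b'.ofNatIsoRight (rpushIsoRres g')
    letI := TorBC25.lpullCommShift g' radj
    haveI := TorBC25.isTriangulated_lpull g' radj
    obtain ⟨ζ', hζ'⟩ := Triangle.yoneda_exact₂ _ ((DCoh.Lpull g').map_distinguished _ hd) ζ.hom
      (congrArg InducedCategory.Hom.hom hS)
    refine ObjectProperty.hom_ext _ (hζ'.trans ?_)
    suffices hz : ζ' = 0 by rw [hz]; exact comp_zero
    let T : DCoh.D X' := (DCoh.Lpull g').obj (a.obj C).obj
    haveI hTle : ((resD j).obj T).IsLE (b - 1) := by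
      haveI := hasLpull f
      obtain ⟨E, hE, _, ⟨eE⟩, ⟨α⟩⟩ := exists_kflat_adjoint_iso f hf adj O hO
      let E' := (pullCxF g').obj E
      haveI := hasLTensorCx E'
      haveI : DCoh.HasLTensorCx (((Scheme.Modules.pullback g').mapHomologicalComplex (ComplexShape.up ℤ)).obj E) :=
        hasLTensorCx E'
      obtain ⟨t⟩ := Groth.Agent.S0960.result g' E hE ((DCoh.Lpull f).obj C.obj)
      haveI := hasLTensorCx ((resCx j).obj E')
      obtain ⟨r'⟩ := Dual22.nonempty_resD_ltensorCx j E' ((DCoh.Lpull g').obj ((DCoh.Lpull f).obj C.obj))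
      obtain ⟨v⟩ := lpull_value g' E hE
      have hEle : ∀ i, b + n < i → IsZero (((resCx j).obj E').homology i) := fun i hi =>
        ((DerivedCategory.isZero_of_isLE _ (b + n) i hi).of_iso ((DerivedCategory.homologyFunctor _ i).mapIso
          (((resDFac j).app E').symm ≪≫ (resD j).mapIso (v.symm ≪≫ (DCoh.Lpull g').mapIso eE)))).of_iso
          ((DerivedCategory.homologyFunctorFactors _ i).app _).symm
      have eX := preimage_le_preimage h e'
      let k : Spec B ⟶ (f ⁻¹ᵁ U).toScheme := j₀ ≫ g'.resLE _ _ eX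
      have hk : k ≫ (f ⁻¹ᵁ U).ι = j ≫ g' := by
        rw [Category.assoc, Scheme.Hom.resLE_comp_ι, ← Category.assoc, hj₀]
      haveI := hasLpull k
      obtain ⟨s⟩ := nonempty_resD_lpull_square g' j (f ⁻¹ᵁ U).ι k hk
      haveI := hasLpull (f.resLE U (f ⁻¹ᵁ U) le_rfl)
      obtain ⟨l⟩ := SuppTens22.nonempty_resD_lpull_resLE f U (f ⁻¹ᵁ U) le_rfl C.obj
      haveI : ((resD (f ⁻¹ᵁ U).ι).obj ((DCoh.Lpull f).obj C.obj)).IsLE (-n - 1) := by
        haveI : ((resD U.ι).obj C.obj).IsLE (-n - 1) := by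
          haveI := hC
          haveI := KSix19.isLE_resD hU.isoSpec.hom (K := (resD hU.fromSpec).obj C.obj) (b := -n - 1) inferInstance
          let e₁ : (resD hU.isoSpec.hom).obj ((resD hU.fromSpec).obj C.obj) ≅ (resD U.ι).obj C.obj :=
            (resDCompIso hU.isoSpec.hom hU.fromSpec).app C.obj ≪≫ (resDCongrIso hU.isoSpec_hom_fromSpec).app C.obj
          exact DerivedCategory.TStructure.t.isLE_of_iso e₁ (-n - 1)
        haveI := ThickDesc6.isLE_lpull (f.resLE U (f ⁻¹ᵁ U) le_rfl) (K := (resD U.ι).obj C.obj) (b := -n - 1)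
          inferInstance
        exact DerivedCategory.TStructure.t.isLE_of_iso l.symm (-n - 1)
      haveI := ThickDesc6.isLE_lpull k (K := (resD (f ⁻¹ᵁ U).ι).obj ((DCoh.Lpull f).obj C.obj)) (b := -n - 1)
        inferInstance
      let e₂ : (resD j).obj ((DCoh.Lpull g').obj ((DCoh.Lpull f).obj C.obj)) ≅
          (DCoh.Lpull k).obj ((resD (f ⁻¹ᵁ U).ι).obj ((DCoh.Lpull f).obj C.obj)) := s.app _
      haveI : ((resD j).obj ((DCoh.Lpull g').obj ((DCoh.Lpull f).obj C.obj))).IsLE (-n - 1) :=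
        DerivedCategory.TStructure.t.isLE_of_iso e₂.symm (-n - 1)
      haveI := OX.isLE_ltensorCx ((resCx j).obj E') hEle
        ((resD j).obj ((DCoh.Lpull g').obj ((DCoh.Lpull f).obj C.obj))) (-n - 1)
      let e₃ : (resD j).obj T ≅ (DCoh.LTensorCx ((resCx j).obj E')).obj
          ((resD j).obj ((DCoh.Lpull g').obj ((DCoh.Lpull f).obj C.obj))) :=
        (resD j).mapIso ((DCoh.Lpull g').mapIso (α.app C) ≪≫ t) ≪≫ r'
      haveI h5 := DerivedCategory.TStructure.t.isLE_of_iso e₃.symm (-n - 1 + (b + n))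
      exact DerivedCategory.TStructure.t.isLE_of_le _ (-n - 1 + (b + n)) (b - 1) (by omega)
    refine ((resDAdj j).homEquiv T N).symm.injective ?_
    exact (DerivedCategory.TStructure.t.zero _ (b - 1) b (by omega)).trans
      (DerivedCategory.TStructure.t.zero _ (b - 1) b (by omega)).symm
  have hp : p = 0 := (cancel_epi (L'.map (inv (Dual3.xi adj adj' e M)))).1 (hζ.trans comp_zero.symm)
  -- a map to `a' M` invertible over the chart
  obtain ⟨y⟩ := nonempty_resD_bc_sides (hLg := hLg) (hLg' := hLg') h adj adj' hU hU' e' K n eK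
  haveI : QuasiCompact f' := quasiCompact_of_compactSpace f'
  haveI : QuasiSeparated f' := QuasiSeparated.of_quasiSeparatedSpace f'
  obtain ⟨w₀, hw₀⟩ := (HomBC22.restrBij_adjoint (f := f') (hf := hf') U' adj' (K := M) (HomBC22.restrBij_locObj U' N₀)
    (L'.obj (a.obj K)).obj (L'.obj (a.obj K)).property).2 (y.hom ≫ (resD i').map (a'.map η).hom)
  have hwi : IsIso ((resD i').map w₀) := by
    haveI := hr
    rw [show (resD i').map w₀ = y.hom ≫ (resD i').map (a'.map η).hom from hw₀]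
    infer_instance
  haveI := isIso_resD_of_factor j i' j₀ hj₀ w₀ hwi
  let w : L'.obj (a.obj K) ⟶ a'.obj M := ObjectProperty.homMk w₀
  have hwΛ : w ≫ Λ = 0 := by
    rw [← (adjg'.homEquiv _ _).symm_apply_apply w, Adjunction.homEquiv_counit, Category.assoc,
      show adjg'.counit.app (a'.obj M) ≫ Λ = 0 from hp, comp_zero]
  have h6 : (resDAdj j).homEquiv _ _ ((resD j).map w₀ ≫ inv r ≫ lam) = 0 :=
    ((resDAdj j).homEquiv_naturality_left _ _).trans (congrArg InducedCategory.Hom.hom hwΛ)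
  have h7 : (resD j).map w₀ ≫ inv r ≫ lam = 0 := by
    refine ((resDAdj j).homEquiv _ _).injective (h6.trans ?_)
    rw [Adjunction.homEquiv_unit, Functor.map_zero, comp_zero]
  exact (cancel_epi (inv r)).1 (((cancel_epi ((resD j).map w₀)).1 (h7.trans comp_zero.symm)).trans comp_zero.symm)

end Square

end GrothLib.RightAdj20
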