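import Groth.Agent.Lib.RHomO20.Compare
import Groth.Agent.Lib.ShriekBridge22.ClosedRHom
import Groth.Agent.Lib.OX.HomAmplitude
import Groth.Agent.Lib.OX.PCohTriangle
import Groth.Agent.Lib.VA.QCohPullback
import Groth.Agent.Lib.LeffAmp7.Stalks
import Groth.Agent.Lib.DerCat.Truncation

/-! # `i^× = R Hom(O_Z, -)` for a pseudo-coherent closed immersion -/

set_option autoImplicit false
set_option maxHeartbeats 1000000
set_option linter.style.haveILetI false
set_option backward.isDefEq.respectTransparency false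
universe u

open CategoryTheory CategoryTheory.Limits AlgebraicGeometry

attribute [local instance] HasDerivedCategory.standard

noncomputable section

namespace GrothLib.RightAdj20

open GrothLib.RHomO20

variable {Z X : Scheme.{u}} (i : Z ⟶ X) [IsClosedImmersion i]

/-- Quasi-coherence is detected by `i_*`. -/
theorem isQCoh_of_push {M : Z.Modules} (h : Coh.IsQCoh ((Scheme.Modules.pushforward i).obj M)) : Coh.IsQCoh M := by
  haveI : ((Scheme.Modules.pushforward i).obj M).IsQuasicoherent := h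
  haveI := LeffAmp7.isIso_counit_closed i M
  exact OX.isQCoh_of_iso (asIso ((Scheme.Modules.pullbackPushforwardAdjunction i).counit.app M))
    (VA.isQCoh_pullback i h)

/-- **`a = R Hom(O_Z, -)` for a pseudo-coherent closed immersion.** -/
theorem nonempty_bdd_iso_of_pseudo [Dual3.HasHomO i] [EnoughInjectives X.Modules] [DCoh.HasRpush i]
    (hpc : ∀ m : ℤ, DCoh.IsPseudoCoherentD m (DCoh.inD X ((Coh.push i).obj (Coh.structureModule Z))))
    (hf : DCoh.RpushPreservesQCoh i)
    (a : DCoh.DQCoh X ⥤ DCoh.DQCoh Z) (adjQ : DCoh.RpushQ i hf ⊣ a) :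
    Nonempty (Dual3.bddι X ⋙ a ⋙ ObjectProperty.ι _ ≅ Dual3.bddToPlus X ⋙ Dual3.RHomOPlus i ⋙
      (DerivedCategory.Plus.ι : DerivedCategory.Plus Z.Modules ⥤ DCoh.D Z)) := by
  haveI : (Scheme.Modules.pushforward i).Additive :=
    (Scheme.Modules.pullbackPushforwardAdjunction i).right_adjoint_additive
  haveI : Limits.PreservesLimitsOfSize.{0, 0} (Scheme.Modules.pushforward i) :=
    (Scheme.Modules.pullbackPushforwardAdjunction i).rightAdjoint_preservesLimits
  haveI : Limits.PreservesFiniteLimits (Scheme.Modules.pushforward i) :=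
    Limits.PreservesLimitsOfSize.preservesFiniteLimits.{0, 0} _
  haveI : Limits.PreservesColimitsOfSize.{0, 0} (Scheme.Modules.pushforward i) :=
    (Dual3.homOAdj i).leftAdjoint_preservesColimits
  haveI : Limits.PreservesFiniteColimits (Scheme.Modules.pushforward i) :=
    Limits.PreservesColimitsOfSize.preservesFiniteColimits.{0, 0} _
  haveI : HasInjectiveResolutions X.Modules := inferInstance
  obtain ⟨adjD⟩ := CohDer19.DerAdj.nonempty_adj_res (Dual3.homOAdj i)
  obtain ⟨p⟩ := nonempty_plus_iso (Dual3.homOAdj i)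
  let n : (Scheme.Modules.pushforward i).mapDerivedCategory ≅ DCoh.Rpush i :=
    (Functor.leftUnitor _).symm ≪≫
      Functor.isoWhiskerRight (asIso (KInj.resAdj Z.Modules).counit).symm _ ≪≫ Functor.associator _ _ _ ≪≫
      Functor.isoWhiskerLeft (KInj.res Z.Modules) (Scheme.Modules.pushforward i).mapDerivedCategoryFactorsh ≪≫
      (OX.rpushIsoRres i).symm
  obtain ⟨E, hE, ⟨eE⟩⟩ := OX.exists_kflat_rep (DCoh.inD X ((Coh.push i).obj (Coh.structureModule Z)))
  haveI := OX.hasLTensorCx E
  haveI := OX.hasRSheafHom E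
  obtain ⟨s⟩ := ShriekBridge22.nonempty_pushD_RHomOPlus i E ⟨eE⟩
  have hG : ∀ K : (Dual3.IsBddBelowQ X).FullSubcategory,
      DCoh.IsQCohD ((Φ (Dual3.homO i)).obj ((Dual3.bddι X).obj K).obj) := fun K q => by
    obtain ⟨c, hc⟩ := K.property
    haveI := hc
    let K' := (Dual3.bddToPlus X).obj K
    let W := (Φ (Dual3.homO i)).obj ((Dual3.bddι X).obj K).obj
    have h1 : Coh.IsQCoh (DCoh.HD ((DCoh.RSheafHom E).obj K.obj.obj) q) :=
      OX.isQCoh_HD_RSheafHom_of_pseudo E (c - q - 1) (OX.isPseudoCoherentD_of_iso (hpc _) eE.symm)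
        K.obj.property c (fun m hm => DerivedCategory.isZero_of_isGE K.obj.obj c m hm) q (by omega)
    have h2 : Coh.IsQCoh (DCoh.HD ((Dual3.pushD i).obj W) q) :=
      OX.isQCoh_of_iso ((DerivedCategory.homologyFunctor _ q).mapIso
        ((s.app K').symm ≪≫ (Dual3.pushD i).mapIso (p.app K'))) h1
    exact isQCoh_of_push i (OX.isQCoh_of_iso
      ((DerTrunc.homologyMapIso (Scheme.Modules.pushforward i) q).app W) h2)
  obtain ⟨e⟩ := nonempty_restricted_iso DCoh.IsQCohD DCoh.IsQCohD (adjD.ofNatIsoLeft n) hf adjQ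
    (Dual3.bddι X) hG
  exact ⟨e ≪≫ Functor.isoWhiskerLeft (Dual3.bddToPlus X) p.symm⟩

end GrothLib.RightAdj20
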