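import Groth.Agent.Lib.DualRing.BCHom

/-! # Coinducing a complex of homomorphisms -/

set_option autoImplicit false
set_option linter.style.haveILetI false
set_option backward.isDefEq.respectTransparency false
set_option maxHeartbeats 800000
universe u

open CategoryTheory CategoryTheory.Limits CochainComplex CochainComplex.HomComplex HomologicalComplex GrothLib.DualCx22
open scoped TensorProduct

attribute [local instance] HasDerivedCategory.standard

namespace GrothLib.RightAdj20.CoindHom

variable {P B : Type u} [CommRing P] [CommRing B] (φ : P →+* B)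

/-- Evaluation of a coinduced element. -/
noncomputable def evB (M : ModuleCat.{u} P) (b : B) :
    ((ModuleCat.restrictScalars.{u} φ).obj ((ModuleCat.coextendScalars.{u, u, u} φ).obj M)) →ₗ[P] M where
  toFun g := ModuleCat.CoextendScalars.equiv φ M g b
  map_add' _ _ := rfl
  map_smul' r g := by
    change ModuleCat.CoextendScalars.equiv φ M g (@HMul.hMul B B B _ b (φ r)) =
      r • ModuleCat.CoextendScalars.equiv φ M g b
    rw [← map_smul, mul_comm (G := B)]
    rfl

theorem evB_ext {M : ModuleCat.{u} P}
    {g g' : (ModuleCat.restrictScalars.{u} φ).obj ((ModuleCat.coextendScalars.{u, u, u} φ).obj M)}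
    (h : ∀ b : B, evB φ M b g = evB φ M b g') : g = g' :=
  ModuleCat.CoextendScalars.ext (LinearMap.ext h)

variable (X J : DRing.Cx P)

/-- A cochain into a coinduced complex, restricted to the generators. -/
noncomputable def tr (n : ℤ) (z : Cochain ((DR.bc φ).obj X) (coI φ J) n) (p q : ℤ) (h : p + n = q) :
    X.X p ⟶ (ModuleCat.restrictScalars.{u} φ).obj ((ModuleCat.coextendScalars.{u, u, u} φ).obj (J.X q)) :=
  (ModuleCat.extendRestrictScalarsAdj.{u, u, u} φ).homEquiv _ _ (z.v p q h)

theorem tr_apply (n : ℤ) (z : Cochain ((DR.bc φ).obj X) (coI φ J) n) (p q : ℤ) (h : p + n = q) (x : X.X p) :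
    letI := φ.toAlgebra
    (tr φ X J n z p q h) x = z.v p q h ((1 : B) ⊗ₜ[P] x) := rfl

theorem ext_tr {n : ℤ} {z z' : Cochain ((DR.bc φ).obj X) (coI φ J) n}
    (h : ∀ p q hpq (x : X.X p) (b : B), evB φ (J.X q) b (tr φ X J n z p q hpq x) = evB φ (J.X q) b (tr φ X J n z' p q hpq x)) :
    z = z' :=
  Cochain.ext _ _ fun p q hpq => ((ModuleCat.extendRestrictScalarsAdj.{u, u, u} φ).homEquiv _ _).injective
    (ModuleCat.hom_ext (LinearMap.ext fun x => evB_ext φ fun b => h p q hpq x b))

/-- The components of a coinduced cochain on the generators. -/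
noncomputable def fromL (n : ℤ)
    (g : (ModuleCat.coextendScalars.{u, u, u} φ).obj ((DRing.homCx X J).X n)) (p q : ℤ) (h : p + n = q) :
    X.X p ⟶ (ModuleCat.restrictScalars.{u} φ).obj ((ModuleCat.coextendScalars.{u, u, u} φ).obj (J.X q)) :=
  ModuleCat.ofHom
    (Y := (ModuleCat.restrictScalars.{u} φ).obj ((ModuleCat.coextendScalars.{u, u, u} φ).obj (J.X q)))
    { toFun := fun x => (ModuleCat.CoextendScalars.equiv φ (J.X q)).symm
        { toFun := fun b => (show Cochain X J n from ModuleCat.CoextendScalars.equiv φ _ g b).v p q h x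
          map_add' := fun b b' => by
            rw [map_add]
            rfl
          map_smul' := fun r b => by
            rw [map_smul]
            rfl }
      map_add' := fun x y => evB_ext φ fun b => map_add ((show Cochain X J n from
        ModuleCat.CoextendScalars.equiv φ _ g b).v p q h).hom x y
      map_smul' := fun r x => evB_ext φ fun b => by
        refine Eq.trans ?_ ((evB φ (J.X q) b).map_smul r _).symm
        exact map_smul ((show Cochain X J n from ModuleCat.CoextendScalars.equiv φ _ g b).v p q h).hom r x }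

/-- The cochain into the coinduced complex. -/
noncomputable def toR (n : ℤ) (g : (ModuleCat.coextendScalars.{u, u, u} φ).obj ((DRing.homCx X J).X n)) :
    Cochain ((DR.bc φ).obj X) (coI φ J) n :=
  Cochain.mk fun p q h => ((ModuleCat.extendRestrictScalarsAdj.{u, u, u} φ).homEquiv _ _).symm (fromL φ X J n g p q h)

theorem evB_toR (n : ℤ) (g : (ModuleCat.coextendScalars.{u, u, u} φ).obj ((DRing.homCx X J).X n)) (p q : ℤ)
    (h : p + n = q) (x : X.X p) (b : B) :
    evB φ (J.X q) b (tr φ X J n (toR φ X J n g) p q h x) =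
      (show Cochain X J n from ModuleCat.CoextendScalars.equiv φ _ g b).v p q h x := by
  have : tr φ X J n (toR φ X J n g) p q h = fromL φ X J n g p q h :=
    ((ModuleCat.extendRestrictScalarsAdj.{u, u, u} φ).homEquiv _ _).apply_symm_apply _
  rw [this]
  rfl

/-- The comparison in one degree. -/
noncomputable def toRLin (n : ℤ) :
    (ModuleCat.coextendScalars.{u, u, u} φ).obj ((DRing.homCx X J).X n) ⟶
      (DRing.homCx ((DR.bc φ).obj X) (coI φ J)).X n :=
  ModuleCat.ofHom (Y := (DRing.homCx ((DR.bc φ).obj X) (coI φ J)).X n)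
    { toFun := fun g => (toR φ X J n g : Cochain _ _ n)
      map_add' := fun g g' => ext_tr φ X J fun p q h x b => by
        refine (evB_toR φ X J n (g + g') p q h x b).trans ?_
        refine Eq.trans ?_ (congrArg₂ (· + ·) (evB_toR φ X J n g p q h x b).symm (evB_toR φ X J n g' p q h x b).symm)
        rfl
      map_smul' := fun c g => ext_tr φ X J fun p q h x b => by
        refine (evB_toR φ X J n (c • g) p q h x b).trans ?_
        refine Eq.trans ?_ (evB_toR φ X J n g p q h x (@HMul.hMul B B B _ b c)).symm
        rfl }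

theorem bijective_toRLin (n : ℤ) : Function.Bijective (toRLin φ X J n) := by
  constructor
  · intro g g' hg
    refine ModuleCat.CoextendScalars.ext (LinearMap.ext fun b => Cochain.ext _ _ fun p q h =>
      ModuleCat.hom_ext (LinearMap.ext fun x => ?_))
    refine ((evB_toR φ X J n g p q h x b).symm.trans ?_).trans (evB_toR φ X J n g' p q h x b)
    exact congrArg (fun z : Cochain _ _ n => evB φ (J.X q) b (tr φ X J n z p q h x)) hg
  · intro (z : Cochain ((DR.bc φ).obj X) (coI φ J) n)
    let c : ((ModuleCat.restrictScalars.{u} φ).obj (ModuleCat.of B B)) →ₗ[P] (DRing.homCx X J).X n :=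
      { toFun := fun b => (Cochain.mk fun p q h => ModuleCat.ofHom ((evB φ (J.X q) b).comp (tr φ X J n z p q h).hom) :
          Cochain X J n)
        map_add' := fun b b' => Cochain.ext _ _ fun p q h => ModuleCat.hom_ext (LinearMap.ext fun x => by
          simp only [Cochain.add_v, Cochain.mk_v]
          exact map_add (ModuleCat.CoextendScalars.equiv φ _ (tr φ X J n z p q h x)) b b')
        map_smul' := fun r b => Cochain.ext _ _ fun p q h => ModuleCat.hom_ext (LinearMap.ext fun x => by
          simp only [Cochain.mk_v, RingHom.id_apply]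
          exact map_smul (ModuleCat.CoextendScalars.equiv φ _ (tr φ X J n z p q h x)) r b) }
    refine ⟨(ModuleCat.CoextendScalars.equiv φ _).symm c, ext_tr φ X J fun p q h x b => ?_⟩
    refine (evB_toR φ X J n _ p q h x b).trans ?_
    rfl

/-- The comparison of complexes. -/
noncomputable def coHom : coI φ (DRing.homCx X J) ⟶ DRing.homCx ((DR.bc φ).obj X) (coI φ J) where
  f n := toRLin φ X J n
  comm' n m hnm := by
    obtain rfl : n + 1 = m := hnm
    refine ModuleCat.hom_ext (LinearMap.ext fun g => ext_tr φ X J fun p q h x b => ?_)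
    let gb : Cochain X J n := ModuleCat.CoextendScalars.equiv φ _ g b
    let Z : Cochain ((DR.bc φ).obj X) (coI φ J) n := toR φ X J n g
    have hR : evB φ (J.X q) b (tr φ X J (n + 1) (toR φ X J (n + 1) ((coI φ (DRing.homCx X J)).d n (n + 1) g)) p q h x) =
        (δ n (n + 1) gb).v p q h x := evB_toR φ X J (n + 1) _ p q h x b
    refine Eq.trans ?_ hR.symm
    rw [GrothLib.RH.δ_app gb p q (q - 1) (p + 1) h rfl rfl x]
    rw [← evB_toR φ X J n g p (q - 1) (by omega) x b, ← evB_toR φ X J n g (p + 1) q (by omega) (X.d p (p + 1) x) b]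
    letI := φ.toAlgebra
    change evB φ (J.X q) b ((δ n (n + 1) Z).v p q h ((1 : B) ⊗ₜ[P] x)) = _
    rw [GrothLib.RH.δ_app Z p q (q - 1) (p + 1) h rfl rfl ((1 : B) ⊗ₜ[P] x)]
    refine (map_add (evB φ (J.X q) b) _ _).trans ?_
    refine congrArg₂ (· + ·) rfl ?_
    exact map_zsmul (evB φ (J.X q) b) _ _

theorem isIso_coHom : IsIso (coHom φ X J) := by
  suffices ∀ n, IsIso ((coHom φ X J).f n) from HomologicalComplex.Hom.isIso_of_components _
  intro n
  rw [ConcreteCategory.isIso_iff_bijective]
  exact bijective_toRLin φ X J n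

end GrothLib.RightAdj20.CoindHom
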