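import Mathlib.RingTheory.Valuation.LocalSubring
import Mathlib.RingTheory.Algebraic.Integral
import Mathlib.RingTheory.LocalRing.Basic
import Mathlib.RingTheory.Localization.FractionRing

/-!
# The content ideal trick

A finite family in an algebraic extension of the fraction field of `A` has an ideal `c` of `A` such that in every
integrally closed local overring in which `c` becomes principal one member of the family divides all the others.
-/

set_option autoImplicit false
set_option linter.style.haveILetI false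

universe u

open Polynomial

namespace GrothLib.RightAdj20.Content

variable {L : Type u} [Field L]

/-- Kronecker's inequality: products of coefficients are bounded by the coefficients of the product. -/
theorem valuation_coeff_mul_le {Γ₀ : Type*} [LinearOrderedCommGroupWithZero Γ₀] (v : Valuation L Γ₀) (F G : L[X])
    {g : Γ₀} (h : ∀ k, v ((F * G).coeff k) ≤ g) (i j : ℕ) : v (F.coeff i * G.coeff j) ≤ g := by
  classical
  -- the first index where the maximum of the valuations of the coefficients is attained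
  have key : ∀ P : L[X], P ≠ 0 → ∃ i₀, P.coeff i₀ ≠ 0 ∧ (∀ i, v (P.coeff i) ≤ v (P.coeff i₀)) ∧
      ∀ i < i₀, v (P.coeff i) < v (P.coeff i₀) := by
    intro P hP
    obtain ⟨m, hm, hmax⟩ := P.support.exists_max_image (fun i => v (P.coeff i)) (nonempty_support_iff.2 hP)
    have hbd : ∀ i, v (P.coeff i) ≤ v (P.coeff m) := fun i => by
      by_cases hi : i ∈ P.support
      · exact hmax i hi
      · rw [notMem_support_iff.1 hi, map_zero]; exact zero_le
    have hex : ∃ i, v (P.coeff i) = v (P.coeff m) := ⟨m, rfl⟩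
    refine ⟨Nat.find hex, fun h0 => mem_support_iff.1 hm ?_, fun i => ?_, fun i hi => ?_⟩
    · have := Nat.find_spec hex
      rw [h0, map_zero] at this
      exact (map_eq_zero v).1 this.symm
    · rw [Nat.find_spec hex]; exact hbd i
    · rw [Nat.find_spec hex]; exact lt_of_le_of_ne (hbd i) (Nat.find_min hex hi)
  by_cases hF : F = 0
  · rw [hF, coeff_zero, zero_mul, map_zero]; exact zero_le
  by_cases hG : G = 0
  · rw [hG, coeff_zero, mul_zero, map_zero]; exact zero_le
  obtain ⟨i₀, hi₀, hFle, hFlt⟩ := key F hF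
  obtain ⟨j₀, hj₀, hGle, hGlt⟩ := key G hG
  have hle : v (F.coeff i₀ * G.coeff j₀) ≤ g := by
    have e : v ((F * G).coeff (i₀ + j₀)) = v (F.coeff i₀ * G.coeff j₀) := by
      rw [coeff_mul]
      refine v.map_sum_eq_of_lt (j := (i₀, j₀)) (by simp) fun p hp => ?_
      rw [Finset.mem_sdiff, Finset.mem_singleton, Finset.mem_antidiagonal] at hp
      show v (F.coeff p.1 * G.coeff p.2) < v (F.coeff i₀ * G.coeff j₀)
      rw [map_mul, map_mul]
      rcases lt_trichotomy p.1 i₀ with h1 | h1 | h1
      · exact lt_of_le_of_lt (mul_le_mul' le_rfl (hGle _))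
          (mul_lt_mul_of_pos_right (hFlt _ h1) (zero_lt_iff.2 ((_root_.map_ne_zero v).2 hj₀)))
      · exact absurd (Prod.ext h1 (by omega)) hp.2
      · have h2 : p.2 < j₀ := by omega
        exact lt_of_le_of_lt (mul_le_mul' (hFle _) le_rfl)
          (mul_lt_mul_of_pos_left (hGlt _ h2) (zero_lt_iff.2 ((_root_.map_ne_zero v).2 hi₀)))
    rw [← e]
    exact h _
  refine le_trans ?_ hle
  rw [map_mul, map_mul]
  exact mul_le_mul' (hFle i) (hGle j)

variable {A : Type u} [CommRing A] [IsDomain A] [Algebra A L]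

/-- **The content ideal.** -/
theorem exists_content [Algebra.IsAlgebraic A L] (hinj : Function.Injective (algebraMap A L)) {m : ℕ}
    (b : Fin m → L) (hb : b ≠ 0) :
    ∃ c : Ideal A, c ≠ ⊥ ∧ ∀ (R : Type u) [CommRing R] [IsDomain R] [IsLocalRing R] [IsIntegrallyClosed R]
      [Algebra R L] [IsFractionRing R L] [Algebra A R] [IsScalarTower A R L],
      (c.map (algebraMap A R)).IsPrincipal → ∃ i₀, b i₀ ≠ 0 ∧ ∀ i, ∃ r : R, b i = algebraMap R L r * b i₀ := by
  classical
  let F : L[X] := ∑ i : Fin m, C (b i) * X ^ (i : ℕ)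
  have hFc : ∀ i : Fin m, F.coeff i = b i := fun i => by
    simp only [F, finsetSum_coeff, coeff_C_mul, coeff_X_pow, mul_ite, mul_one, mul_zero, Fin.val_inj]
    simp
  have hF0 : F ≠ 0 := fun h => hb (funext fun i => by rw [← hFc i, h, coeff_zero]; rfl)
  obtain ⟨H, hH0, G, hG⟩ := Polynomial.exists_dvd_map_of_isAlgebraic (R := A) hF0
  refine ⟨Ideal.span (Set.range H.coeff), fun h => hH0 (ext fun k => ?_), ?_⟩
  · rw [coeff_zero]
    exact Ideal.mem_bot.1 (h ▸ Ideal.subset_span ⟨k, rfl⟩)
  intro R _ _ _ _ _ _ _ _ hc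
  obtain ⟨γ, hγ⟩ := hc
  have hRL : Function.Injective (algebraMap R L) := IsFractionRing.injective R L
  have hmem : ∀ k, ∃ r : R, algebraMap A R (H.coeff k) = r * γ := fun k => by
    have : algebraMap A R (H.coeff k) ∈ (Ideal.span (Set.range H.coeff)).map (algebraMap A R) :=
      Ideal.mem_map_of_mem _ (Ideal.subset_span ⟨k, rfl⟩)
    rw [hγ] at this
    obtain ⟨r, hr⟩ := Submodule.mem_span_singleton.1 this
    exact ⟨r, hr.symm⟩
  choose r hr using hmem
  let Γ : L := algebraMap R L γ
  have hHc : ∀ k, (F * G).coeff k = algebraMap R L (r k) * Γ := fun k => by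
    rw [← hG, coeff_map, IsScalarTower.algebraMap_apply A R L, hr, map_mul]
  have hΓ : Γ ≠ 0 := fun h => hH0 (ext fun k => hinj (by
    have e := hHc k
    rw [h, mul_zero, ← hG, coeff_map] at e
    rw [e, coeff_zero, map_zero]))
  -- the products divided by the generator are in `R`
  have hx : ∀ i j, ∃ x : R, algebraMap R L x * Γ = F.coeff i * G.coeff j := by
    intro i j
    suffices h : F.coeff i * G.coeff j / Γ ∈ (algebraMap R L).range by
      obtain ⟨x, hx⟩ := h
      exact ⟨x, by rw [hx, div_mul_cancel₀ _ hΓ]⟩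
    haveI : IsIntegrallyClosedIn (algebraMap R L).range L :=
      Subring.isIntegrallyClosedIn_iff.2 fun {x} hx => by
        have hx' : IsIntegral R x := by
          obtain ⟨p, hp, hp0⟩ := hx
          have hsurj : Function.Surjective ((algebraMap R L).rangeRestrict) := (algebraMap R L).rangeRestrict_surjective
          obtain ⟨q, hq, -, hqm⟩ := lifts_and_degree_eq_and_monic (f := (algebraMap R L).rangeRestrict)
            ((lifts_iff_coeff_lifts _).2 fun n => hsurj _) hp
          refine ⟨q, hqm, ?_⟩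
          rw [← hp0, ← hq, eval₂_map]
          rfl
        obtain ⟨y, hy⟩ := IsIntegrallyClosed.isIntegral_iff.1 hx'
        exact ⟨y, hy⟩
    rw [Subring.eq_iInf_of_isIntegrallyClosedIn (R := (algebraMap R L).range), Subring.mem_iInf]
    intro V
    show F.coeff i * G.coeff j / Γ ∈ V.1
    rw [← V.1.valuation_le_one_iff, map_div₀, div_le_one₀ (zero_lt_iff.2 ((_root_.map_ne_zero _).2 hΓ))]
    refine valuation_coeff_mul_le _ F G (fun k => ?_) i j
    rw [hHc, map_mul]
    exact mul_le_of_le_one_left' ((V.1.valuation_le_one_iff _).2 (V.2 ⟨r k, rfl⟩))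
  choose x hx using hx
  -- some product is a unit multiple of the generator
  have hu : ∃ i j, IsUnit (x i j) := by
    by_contra hnone
    push Not at hnone
    let 𝔪 := IsLocalRing.maximalIdeal R
    have hrk : ∀ k, r k ∈ 𝔪 := fun k => by
      have e : algebraMap R L (r k) = algebraMap R L (∑ p ∈ Finset.antidiagonal k, x p.1 p.2) := by
        refine mul_right_cancel₀ hΓ ?_
        rw [← hHc, coeff_mul, map_sum, Finset.sum_mul]
        exact Finset.sum_congr rfl fun p _ => (hx _ _).symm
      rw [hRL e]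
      exact sum_mem fun p _ => hnone _ _
    have h1 : γ ∈ 𝔪 * Ideal.span {γ} := by
      have hle : (Ideal.span (Set.range H.coeff)).map (algebraMap A R) ≤ 𝔪 * Ideal.span {γ} := by
        rw [Ideal.map_span, Ideal.span_le]
        rintro _ ⟨_, ⟨k, rfl⟩, rfl⟩
        rw [SetLike.mem_coe, hr]
        exact Ideal.mul_mem_mul (hrk k) (Ideal.mem_span_singleton_self γ)
      refine hle ?_
      rw [hγ]
      exact Submodule.mem_span_singleton_self γ
    obtain ⟨z, hz, hzγ⟩ := Ideal.mem_mul_span_singleton.1 h1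
    have hz1 : z = 1 := mul_right_cancel₀ (fun h => hΓ (by simp [Γ, h])) (hzγ.trans (one_mul γ).symm)
    exact (IsLocalRing.maximalIdeal.isMaximal R).ne_top ((Ideal.eq_top_iff_one _).2 (hz1 ▸ hz))
  obtain ⟨i₀, j₀, hu⟩ := hu
  have hne : F.coeff i₀ * G.coeff j₀ ≠ 0 := by
    rw [← hx]
    exact mul_ne_zero ((hu.map (algebraMap R L)).ne_zero) hΓ
  obtain ⟨hFi, hGj⟩ := mul_ne_zero_iff.1 hne
  have hi₀ : i₀ < m := by
    by_contra hlt
    refine hFi ?_
    simp only [F, finsetSum_coeff, coeff_C_mul, coeff_X_pow, mul_ite, mul_one, mul_zero]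
    exact Finset.sum_eq_zero fun i _ => if_neg (by omega)
  refine ⟨⟨i₀, hi₀⟩, hFc ⟨i₀, hi₀⟩ ▸ hFi, fun i => ⟨x i j₀ * (hu.unit⁻¹ : Rˣ), ?_⟩⟩
  rw [← hFc i, ← hFc ⟨i₀, hi₀⟩]
  refine mul_right_cancel₀ hGj ?_
  rw [mul_assoc, ← hx, ← hx, ← mul_assoc]
  refine congrArg (· * Γ) ?_
  rw [← map_mul, mul_assoc, IsUnit.val_inv_mul, mul_one]

/-- Factors of a principal ideal in a local domain are principal. -/
theorem isPrincipal_of_mul {R : Type u} [CommRing R] [IsDomain R] [IsLocalRing R] {I J : Ideal R}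
    (h : (I * J).IsPrincipal) (h0 : I * J ≠ ⊥) : I.IsPrincipal := by
  obtain ⟨γ, hγ⟩ := h
  have hγ0 : γ ≠ 0 := fun e => h0 (by rw [hγ, e, Submodule.span_zero_singleton])
  have hmem : ∀ i ∈ I, ∀ j ∈ J, ∃ r, i * j = r * γ := fun i hi j hj => by
    obtain ⟨r, hr⟩ := Submodule.mem_span_singleton.1 (hγ ▸ Ideal.mul_mem_mul hi hj)
    exact ⟨r, hr.symm⟩
  by_cases hex : ∃ i ∈ I, ∃ j ∈ J, ∃ r, IsUnit r ∧ i * j = r * γ
  · obtain ⟨i, hi, j, hj, r, hr, e⟩ := hex
    refine ⟨i, le_antisymm (fun x hx => ?_) ((Submodule.span_singleton_le_iff_mem _ _).2 hi)⟩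
    obtain ⟨s, hs⟩ := hmem x hx j hj
    refine Submodule.mem_span_singleton.2 ⟨s * (hr.unit⁻¹ : Rˣ), ?_⟩
    have hj0 : j ≠ 0 := fun hj0 => mul_ne_zero hr.ne_zero hγ0 (by rw [← e, hj0, mul_zero])
    refine mul_right_cancel₀ hj0 ?_
    rw [smul_eq_mul, hs, mul_assoc, e, ← mul_assoc, mul_assoc s, IsUnit.val_inv_mul, mul_one]
  · exfalso
    push Not at hex
    have h1 : γ ∈ IsLocalRing.maximalIdeal R * Ideal.span {γ} := by
      have hle : I * J ≤ IsLocalRing.maximalIdeal R * Ideal.span {γ} := Ideal.mul_le.2 fun i hi j hj => by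
        obtain ⟨r, hr⟩ := hmem i hi j hj
        rw [hr]
        exact Ideal.mul_mem_mul (fun hu => hex i hi j hj r hu hr) (Ideal.mem_span_singleton_self γ)
      exact hle (hγ ▸ Submodule.mem_span_singleton_self γ)
    obtain ⟨z, hz, hzγ⟩ := Ideal.mem_mul_span_singleton.1 h1
    have hz1 : z = 1 := mul_right_cancel₀ hγ0 (hzγ.trans (one_mul γ).symm)
    exact (IsLocalRing.maximalIdeal.isMaximal R).ne_top ((Ideal.eq_top_iff_one _).2 (hz1 ▸ hz))

/-- A single content ideal for finitely many families. -/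
theorem exists_content_many [Algebra.IsAlgebraic A L] (hinj : Function.Injective (algebraMap A L))
    {ι : Type*} [Finite ι] (m : ι → ℕ) (b : ∀ t, Fin (m t) → L) (hb : ∀ t, b t ≠ 0) :
    ∃ c : Ideal A, c ≠ ⊥ ∧ ∀ (R : Type u) [CommRing R] [IsDomain R] [IsLocalRing R] [IsIntegrallyClosed R]
      [Algebra R L] [IsFractionRing R L] [Algebra A R] [IsScalarTower A R L],
      (c.map (algebraMap A R)).IsPrincipal → ∀ t, ∃ i₀, b t i₀ ≠ 0 ∧ ∀ i, ∃ r : R, b t i = algebraMap R L r * b t i₀ := by
  classical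
  haveI := Fintype.ofFinite ι
  choose c hc0 hc using fun t => exists_content (A := A) hinj (b t) (hb t)
  refine ⟨∏ t, c t, ?_, fun R _ _ _ _ _ _ _ _ hp t => hc t R ?_⟩
  · rw [← Ideal.zero_eq_bot, Finset.prod_ne_zero_iff]
    exact fun t _ => hc0 t
  · have hAR : Function.Injective (algebraMap A R) := fun x y h => hinj (by
      rw [IsScalarTower.algebraMap_apply A R L, h, ← IsScalarTower.algebraMap_apply])
    have e : (∏ s, c s) = c t * ∏ s ∈ Finset.univ.erase t, c s := (Finset.mul_prod_erase _ _ (Finset.mem_univ t)).symm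
    rw [e, Ideal.map_mul] at hp
    refine isPrincipal_of_mul hp ?_
    rw [← Ideal.map_mul, ← e]
    refine (Ideal.map_eq_bot_iff_of_injective hAR).not.2 ?_
    rw [← Ideal.zero_eq_bot]
    exact Finset.prod_ne_zero_iff.2 fun s _ => hc0 s

end GrothLib.RightAdj20.Content
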