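import Groth.Agent.Lib.RightAdj20.RelDualFinal
import Groth.Agent.Lib.RightAdj20.ClosedPseudo
import Groth.Agent.Lib.RightAdj22.QFun
import Groth.Agent.Lib.HomBC22.BCGlobal
import Groth.Agent.Lib.BaseChange22.Square
import Groth.Agent.Lib.BaseChange22.Compact
import Groth.Agent.Lib.KSix19.RelOps
import Groth.Agent.Lib.OX.ClosedPush
import Groth.Agent.Lib.TorBC25.Splits

/-! # Rigidity of the relative dualizing complex along the diagonal -/

set_option autoImplicit false
set_option maxHeartbeats 2000000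
set_option linter.style.haveILetI false
set_option backward.isDefEq.respectTransparency false
universe u v v' w w'

open CategoryTheory CategoryTheory.Limits AlgebraicGeometry GrothLib.OX

attribute [local instance] HasDerivedCategory.standard

noncomputable section

namespace GrothLib.RightAdj20

/-- Representing maps out of `F` in degree zero represents them in every degree. -/
theorem bijective_shift_of_bijective {C : Type w} [Category.{v} C] [HasShift C ℤ] {D : Type w'} [Category.{v'} D]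
    [HasShift D ℤ] (F : C ⥤ D) [F.CommShift ℤ] {O : C} {W : D} (ξ : F.obj O ⟶ W)
    (h : ∀ M : C, Function.Bijective fun φ : M ⟶ O => F.map φ ≫ ξ) (M : C) (j : ℤ) :
    Function.Bijective fun φ : M ⟶ O⟦j⟧ =>
      F.map φ ≫ (F.commShiftIso j).hom.app O ≫ (shiftFunctor D j).map ξ := by
  let M' : C := M⟦-j⟧
  let u : M'⟦j⟧ ≅ M := (shiftFunctorCompIsoId C (-j) j (by omega)).app M
  let α : (M' ⟶ O) → (M ⟶ O⟦j⟧) := fun ψ => u.inv ≫ (shiftFunctor C j).map ψ
  let β : (F.obj M' ⟶ W) → (F.obj M ⟶ W⟦j⟧) := fun t =>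
    (F.map u.inv ≫ (F.commShiftIso j).hom.app M') ≫ (shiftFunctor D j).map t
  have hα : Function.Bijective α :=
    u.symm.homFromEquiv.symm.bijective.comp ((Functor.FullyFaithful.ofFullyFaithful _).map_bijective _ _)
  have hβ : Function.Bijective β :=
    (F.mapIso u.symm ≪≫ (F.commShiftIso j).app M').homFromEquiv.symm.bijective.comp
      ((Functor.FullyFaithful.ofFullyFaithful _).map_bijective _ _)
  refine (Function.Bijective.of_comp_iff _ hα).1 ?_
  have he : (fun φ : M ⟶ O⟦j⟧ => F.map φ ≫ (F.commShiftIso j).hom.app O ≫ (shiftFunctor D j).map ξ) ∘ α =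
      β ∘ fun ψ : M' ⟶ O => F.map ψ ≫ ξ := by
    funext ψ
    simp only [Function.comp_apply, α, β, Functor.map_comp, Category.assoc]
    rw [F.commShiftIso_hom_naturality_assoc ψ j]
  rw [he]
  exact hβ.comp (h M')

variable {X S : Scheme.{u}} (f : X ⟶ S)

/-- The direct image of the structure sheaf along the diagonal of a flat, finitely presented morphism is
pseudo-coherent. -/
theorem pushUnitPC_diagonal [IsSeparated f] [Flat f] [LocallyOfFinitePresentation f] :
    KSix19.PushUnitPC (pullback.diagonal f) := fun m => by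
  haveI : Flat (pullback.fst f f) := MorphismProperty.pullback_fst _ _ inferInstance
  haveI : LocallyOfFinitePresentation (pullback.fst f f) := MorphismProperty.pullback_fst _ _ inferInstance
  let Δ := pullback.diagonal f
  let E := (HomologicalComplex.single X.Modules (ComplexShape.up ℤ) 0).obj (Coh.structureModule X)
  have h0 : DCoh.IsPseudoCoherentD m (DCoh.toD X E) := KSix19.modPC_structureModule X m
  have h1 : DerSch.IsPseudoCoherentRel (𝟙 X) m (DCoh.toD X E) :=
    (KSix19.isPseudoCoherentD_iff_rel (KSix19.isNPseudoCoherent_of_flat (𝟙 X))).1 h0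
  rw [← pullback.diagonal_fst f] at h1
  exact isPseudoCoherentD_of_iso ((KSix19.isPseudoCoherentRel_closedImmersion_iff Δ (pullback.fst f f)
    (KSix19.isNPseudoCoherent_of_flat _) m E).1 h1) (DerivedCategory.Q.mapIso
      ((HomologicalComplex.singleMapHomologicalComplex (Scheme.Modules.pushforward Δ) (ComplexShape.up ℤ) 0).app _))

variable [CompactSpace S] [QuasiSeparatedSpace S] [IsProper f] [Flat f] [LocallyOfFinitePresentation f]
  [DCoh.HasRpush f]

/-- `Lpr₁^* a(O)` is the right adjoint of the second projection at the structure sheaf. -/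
theorem nonempty_lpull_fst_adjoint [DCoh.HasLpull (pullback.fst f f)] (hf : DCoh.RpushPreservesQCoh f)
    {a : DCoh.DQCoh S ⥤ DCoh.DQCoh X} (adj : DCoh.RpushQ f hf ⊣ a) (O : DCoh.DQCoh S)
    (hO : Nonempty (O.obj ≅ DCoh.inD S (Coh.structureModule S)))
    [DCoh.HasRpush (pullback.snd f f)] (h₂ : DCoh.RpushPreservesQCoh (pullback.snd f f))
    {a' : DCoh.DQCoh X ⥤ DCoh.DQCoh (pullback f f)} (adj' : DCoh.RpushQ (pullback.snd f f) h₂ ⊣ a')
    (OX : DCoh.DQCoh X) (hOX : Nonempty (OX.obj ≅ DCoh.inD X (Coh.structureModule X))) :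
    Nonempty ((DCoh.Lpull (pullback.fst f f)).obj (a.obj O).obj ≅ (a'.obj OX).obj) := by
  let p₁ := pullback.fst f f
  let p₂ := pullback.snd f f
  haveI : IsProper p₁ := MorphismProperty.pullback_fst _ _ inferInstance
  haveI : IsProper p₂ := MorphismProperty.pullback_snd _ _ inferInstance
  haveI : Flat p₂ := MorphismProperty.pullback_snd _ _ inferInstance
  haveI : LocallyOfFinitePresentation p₂ := MorphismProperty.pullback_snd _ _ inferInstance
  haveI : CompactSpace X := QuasiCompact.compactSpace_of_compactSpace f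
  haveI : QuasiSeparatedSpace X := quasiSeparatedSpace_of_quasiSeparated f
  haveI : CompactSpace ↥(pullback f f) := QuasiCompact.compactSpace_of_compactSpace p₂
  haveI : QuasiSeparatedSpace ↥(pullback f f) := quasiSeparatedSpace_of_quasiSeparated p₂
  haveI : DCoh.HasLpull f := hasLpull f
  haveI : DCoh.HasRpush p₁ := KInj.hasRightDerivedFunctor _
  have h₁ : DCoh.RpushPreservesQCoh p₁ := fun K hK =>
    GrothLib.KSix19.BettiExact.isQCohD_of_iso' ((rpushIsoRres p₁).app K).symm (isQCohD_Rres p₁ K hK)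
  obtain ⟨c⟩ := nonempty_lpullAdj f
  obtain ⟨c₁⟩ := nonempty_lpullAdj p₁
  let adjg := BaseChange22.adjQ hf c
  let adjg' := BaseChange22.adjQ h₁ c₁
  have hsq : IsPullback p₁ p₂ f f := IsPullback.of_hasPullback f f
  obtain ⟨e, he⟩ := BaseChange22.exists_sqQ_bc hf h₂ hf h₁ hsq
    (TorBC25.BC_of_torIndep hsq (BaseChange22.tor_of_flat (Or.inr ‹Flat f›)))
  have hξ : ∀ M, IsIso (Dual3.xi adj adj' e M) := fun M =>
    BaseChange22.isIso_xi adj adj' e adjg adjg' (fun K => he _ _ adjg adjg' K) M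
  have hP : ∀ P : DCoh.DQCoh X, DCoh.IsPerfect P.obj → DCoh.IsPerfect ((DCoh.RpushQ f hf).obj P).obj :=
    fun P hP₀ => isPerfect_of_iso (TorBC25.isPerfect_RR f hP₀) ((rpushIsoRres f).app P.obj).symm
  have hP' : ∀ P : DCoh.DQCoh (pullback f f), DCoh.IsPerfect P.obj →
      DCoh.IsPerfect ((DCoh.RpushQ p₂ h₂).obj P).obj :=
    fun P hP₀ => isPerfect_of_iso (TorBC25.isPerfect_RR p₂ hP₀) ((rpushIsoRres p₂).app P.obj).symm
  haveI := HomBC22.isIso_bcMap_global hsq adj adj' e adjg adjg' (fun K => he _ _ adjg adjg' K) hξ O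
    (fun U _ => HomBC22.isIso_resD_map_locUnit U adj
      (fun J => RightAdj22.preservesColimitsOfShape adj hP J) O)
    (fun U _ => HomBC22.isIso_resD_map_locUnit U adj'
      (fun J => RightAdj22.preservesColimitsOfShape adj' hP' J) _)
    (fun U _ U' _ => HomBC22.isIso_resD_map_locUnit U' adj'
      (fun J => RightAdj22.preservesColimitsOfShape adj' hP' J) _)
    (Or.inl hP)
  let bc := Dual3.bcMap adj adj' e adjg adjg' O (hξ _)
  obtain ⟨eO⟩ := hO
  obtain ⟨eX⟩ := hOX
  obtain ⟨eL⟩ := TorBC25.nonempty_lpull_structure f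
  exact ⟨(DCoh.IsQCohD (X := pullback f f)).ι.mapIso (@asIso _ _ _ _ bc ‹_›) ≪≫
    (a' ⋙ ObjectProperty.ι _).mapIso ((DCoh.IsQCohD (X := X)).isoMk
      ((DCoh.Lpull f).mapIso eO ≪≫ eL ≪≫ eX.symm))⟩

/-- **The relative dualizing complex is rigid.** -/
theorem isRelDualizing_adjoint [DCoh.HasLpull (pullback.fst f f)]
    [PreservesFiniteLimits (Scheme.Modules.pushforward (pullback.diagonal f))]
    [PreservesFiniteColimits (Scheme.Modules.pushforward (pullback.diagonal f))]
    (hf : DCoh.RpushPreservesQCoh f)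
    {a : DCoh.DQCoh S ⥤ DCoh.DQCoh X} (adj : DCoh.RpushQ f hf ⊣ a) (O : DCoh.DQCoh S)
    (hO : Nonempty (O.obj ≅ DCoh.inD S (Coh.structureModule S))) :
    Dual3.IsRelDualizing f (a.obj O).obj := by
  let Δ := pullback.diagonal f
  let p₂ := pullback.snd f f
  haveI : IsProper p₂ := MorphismProperty.pullback_snd _ _ inferInstance
  haveI : CompactSpace X := QuasiCompact.compactSpace_of_compactSpace f
  haveI : QuasiSeparatedSpace X := quasiSeparatedSpace_of_quasiSeparated f
  haveI : CompactSpace ↥(pullback f f) := QuasiCompact.compactSpace_of_compactSpace p₂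
  haveI : QuasiSeparatedSpace ↥(pullback f f) := quasiSeparatedSpace_of_quasiSeparated p₂
  haveI : DCoh.HasRpush p₂ := KInj.hasRightDerivedFunctor _
  haveI : DCoh.HasRpush Δ := KInj.hasRightDerivedFunctor _
  have h₂ : DCoh.RpushPreservesQCoh p₂ := fun K hK =>
    GrothLib.KSix19.BettiExact.isQCohD_of_iso' ((rpushIsoRres p₂).app K).symm (isQCohD_Rres p₂ K hK)
  have hΔ : DCoh.RpushPreservesQCoh Δ := fun K hK =>
    GrothLib.KSix19.BettiExact.isQCohD_of_iso' ((rpushIsoRres Δ).app K).symm (isQCohD_Rres Δ K hK)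
  haveI : (DCoh.RpushQ p₂ h₂).IsLeftAdjoint := isLeftAdjoint_lift_Rpush p₂ h₂
  haveI : (DCoh.RpushQ Δ hΔ).IsLeftAdjoint := isLeftAdjoint_lift_Rpush Δ hΔ
  let adj' := Adjunction.ofIsLeftAdjoint (DCoh.RpushQ p₂ h₂)
  let adjΔ := Adjunction.ofIsLeftAdjoint (DCoh.RpushQ Δ hΔ)
  let a' := (DCoh.RpushQ p₂ h₂).rightAdjoint
  let aΔ := (DCoh.RpushQ Δ hΔ).rightAdjoint
  let n : DCoh.RpushQ Δ hΔ ⋙ DCoh.RpushQ p₂ h₂ ≅ 𝟭 (DCoh.DQCoh X) :=
    Functor.isoWhiskerRight (RightAdj22.rpushQIso Δ hΔ) _ ≪≫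
      Functor.isoWhiskerLeft _ (RightAdj22.rpushQIso p₂ h₂) ≪≫ RightAdj22.RRQComp Δ p₂ ≪≫
      RightAdj22.RRQCongr (pullback.diagonal_snd f) ≪≫ RightAdj22.RRQId X
  let θ : a' ⋙ aΔ ≅ 𝟭 (DCoh.DQCoh X) :=
    ((adjΔ.comp adj').ofNatIsoLeft n).rightAdjointUniq Adjunction.id
  let OX : DCoh.DQCoh X := ⟨DCoh.inD X (Coh.structureModule X), isQCohD_of_isPerfect (isPerfect_unit X)⟩
  obtain ⟨eW⟩ := nonempty_lpull_fst_adjoint f hf adj O hO h₂ adj' OX ⟨Iso.refl _⟩
  obtain ⟨N, hN⟩ := Groth.Agent.S1767.result (pullback f f) X p₂ h₂ a' adj'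
  have hbdd : Dual3.IsBddBelowQ (pullback f f) (a'.obj OX) :=
    ⟨-(N : ℤ), (DerivedCategory.isGE_iff _ _).2 fun i hi => hN OX (-1)
      (fun k hk => DerivedCategory.isZero_of_isGE ((DerivedCategory.singleFunctor X.Modules 0).obj
        (Coh.structureModule X)) 0 k (by omega)) i (by omega)⟩
  haveI : Dual3.HasHomO Δ := GrothLib.OX.isLeftAdjoint_pushforward Δ
  haveI : EnoughInjectives (pullback f f).Modules :=
    SheafCoh.enoughInjectives_sheafOfModules (pullback f f).ringCatSheaf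
  have hpc : ∀ m : ℤ, DCoh.IsPseudoCoherentD m
      (DCoh.inD (pullback f f) ((Coh.push Δ).obj (Coh.structureModule X))) := fun m =>
    isPseudoCoherentD_of_iso (pushUnitPC_diagonal f m)
      ((DerivedCategory.singleFunctorIsoCompQ (pullback f f).Modules 0).app _).symm
  obtain ⟨r⟩ := nonempty_bdd_iso_of_pseudo Δ hpc hΔ aΔ adjΔ
  obtain ⟨p⟩ := RHomO20.nonempty_plus_iso (Dual3.homOAdj Δ)
  obtain ⟨adjD⟩ := CohDer19.DerAdj.nonempty_adj_res (Dual3.homOAdj Δ)
  let Φ := RHomO20.Φ (Dual3.homO Δ)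
  let η : DCoh.inD X (Coh.structureModule X) ≅ Φ.obj ((DCoh.Lpull (pullback.fst f f)).obj (a.obj O).obj) :=
    ((DCoh.IsQCohD (X := X)).ι.mapIso (θ.app OX)).symm ≪≫
      (r ≪≫ Functor.isoWhiskerLeft (Dual3.bddToPlus _) p).app ⟨a'.obj OX, hbdd⟩ ≪≫ Φ.mapIso eW.symm
  let ξ := (adjD.homEquiv _ _).symm η.hom
  refine ⟨ξ, (relPerf_adjoint f hf adj O hO).1, (relPerf_adjoint f hf adj O hO).2, fun M j => ?_⟩
  refine bijective_shift_of_bijective (Dual3.pushD Δ) ξ (fun M => ?_) M j
  have he : (fun φ : M ⟶ DCoh.inD X (Coh.structureModule X) => (Dual3.pushD Δ).map φ ≫ ξ) =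
      (adjD.homEquiv M _).symm ∘ fun φ => φ ≫ η.hom :=
    funext fun φ => (adjD.homEquiv_naturality_left_symm φ η.hom).symm
  rw [he]
  exact (adjD.homEquiv M _).symm.bijective.comp η.homToEquiv.bijective

end GrothLib.RightAdj20
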