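import Groth.Agent.Lib.RightAdj20.ContentIdeal
import Groth.Agent.Lib.RatSing29.NormCover
import Groth.Agent.Lib.RatSing29.Dominate
import Groth.Agent.Lib.NormDom29.Basic

/-!
# Dominating a modification of a finite cover through a content ideal of the base
-/

set_option autoImplicit false
set_option maxHeartbeats 1000000
set_option linter.style.haveILetI false
set_option linter.all false
set_option backward.isDefEq.respectTransparency false

universe u

open AlgebraicGeometry CategoryTheory CategoryTheory.Limits TopologicalSpace Opposite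

noncomputable section

namespace GrothLib.RightAdj20.Dom

variable {B : Type u} [CommRing B]

/-- The map from the ring of an affine base to a local ring. -/
def toStk {X : Scheme.{u}} (f : X ⟶ Spec (CommRingCat.of B)) (x : X) : B →+* X.presheaf.stalk x :=
  (X.presheaf.germ ⊤ x trivial).hom.comp (f.appTop.hom.comp (Scheme.ΓSpecIso (CommRingCat.of B)).inv.hom)

theorem fromSpecStalk_comp {X : Scheme.{u}} (f : X ⟶ Spec (CommRingCat.of B)) (x : X) :
    X.fromSpecStalk x ≫ f = Spec.map (CommRingCat.ofHom (toStk f x)) := by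
  have hf : f = X.toSpecΓ ≫ Spec.map ((Scheme.ΓSpecIso (CommRingCat.of B)).inv ≫ f.appTop) := by
    rw [Spec.map_comp, ← Scheme.toSpecΓ_naturality_assoc, toSpecΓ_SpecMap_ΓSpecIso_inv, Category.comp_id]
  conv_lhs => rw [hf]
  rw [Scheme.fromSpecStalk_toSpecΓ_assoc, ← Spec.map_comp]
  rfl

theorem toStk_specializes {X : Scheme.{u}} (f : X ⟶ Spec (CommRingCat.of B)) {x y : X} (h : x ⤳ y) (b : B) :
    X.presheaf.stalkSpecializes h (toStk f y b) = toStk f x b :=
  TopCat.Presheaf.germ_stalkSpecializes_apply _ _ _ _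

variable [IsDomain B]

/-- The function field of a birational scheme over `Spec B` is the fraction field of `B`. -/
theorem isFractionRing_functionField {X : Scheme.{u}} [IsIntegral X] (f : X ⟶ Spec (CommRingCat.of B))
    (hbir : ∃ U : (Spec (CommRingCat.of B)).Opens, (U : Set ↥(Spec (CommRingCat.of B))).Nonempty ∧ IsIso (f ∣_ U)) :
    letI := (toStk f (genericPoint X)).toAlgebra
    IsFractionRing B X.functionField := by
  letI : Algebra B X.functionField := (toStk f (genericPoint X)).toAlgebra
  obtain ⟨U, hU, hiso⟩ := hbir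
  obtain ⟨a, ha, hV, hloc, hηV⟩ := GrothLib.RatSing29.exists_chart_modification f hU hiso
  obtain ⟨φ, eK, hφK, hφA⟩ := GrothLib.RatSing29.exists_functionField_hom (FractionRing B) (FractionRing B) f ha hV hloc hηV
  have hid : ∀ z, φ (eK z) = z := fun z => RingHom.congr_fun hφK z
  have hcomm : ∀ b, eK (algebraMap B (FractionRing B) b) = algebraMap B X.functionField b := fun b =>
    φ.injective (by
      rw [hid, ← hφA ⊤ trivial b]
      refine congrArg φ ?_
      exact TopCat.Presheaf.germ_res_apply _ _ _ _ _)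
  exact IsLocalization.isLocalization_of_algEquiv (nonZeroDivisors B)
    ({ eK with commutes' := hcomm } : FractionRing B ≃ₐ[B] X.functionField)

variable {A : Type u} [CommRing A] [IsDomain A] [IsDomain B] [Algebra A B] [Module.Finite A B]

/-- **Domination through a content ideal.** -/
theorem exists_dominating (hinj : Function.Injective (algebraMap A B)) {X : Scheme.{u}} [IsIntegral X]
    (f : X ⟶ Spec (CommRingCat.of B)) [IsProper f]
    (hbir : ∃ U : (Spec (CommRingCat.of B)).Opens, (U : Set ↥(Spec (CommRingCat.of B))).Nonempty ∧ IsIso (f ∣_ U)) :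
    ∃ c : Ideal A, c ≠ ⊥ ∧ ∀ (Z : Scheme.{u}) [IsIntegral Z] (h : Z ⟶ Spec (CommRingCat.of B)),
      Pi1.IsNormalScheme Z →
      (∃ U : (Spec (CommRingCat.of B)).Opens, (U : Set ↥(Spec (CommRingCat.of B))).Nonempty ∧ IsIso (h ∣_ U)) →
      (∀ z : Z, (c.map ((toStk h z).comp (algebraMap A B))).IsPrincipal) → ∃ g : Z ⟶ X, g ≫ f = h := by
  classical
  haveI : CompactSpace X := QuasiCompact.compactSpace_of_compactSpace f
  let L := X.functionField
  letI iBL : Algebra B L := (toStk f (genericPoint X)).toAlgebra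
  haveI hfrac : IsFractionRing B L := isFractionRing_functionField f hbir
  letI iAL : Algebra A L := ((algebraMap B L).comp (algebraMap A B)).toAlgebra
  haveI : IsScalarTower A B L := IsScalarTower.of_algebraMap_eq fun _ => rfl
  haveI : FaithfulSMul A B := (faithfulSMul_iff_algebraMap_injective A B).2 hinj
  haveI : Algebra.IsIntegral A B := Algebra.IsIntegral.of_finite A B
  haveI : Algebra.IsAlgebraic A B := Algebra.IsIntegral.isAlgebraic
  haveI : IsLocalization (nonZeroDivisors B) L := hfrac
  haveI : Algebra.IsAlgebraic A L := by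
    haveI : Algebra.IsAlgebraic B L := IsLocalization.isAlgebraic L (nonZeroDivisors B)
    exact Algebra.IsAlgebraic.trans A B L
  have hAL : Function.Injective (algebraMap A L) := (IsFractionRing.injective B L).comp hinj
  -- an affine cover with generators of the rings of sections
  have haff : ∀ x : X, ∃ U : X.Opens, IsAffineOpen U ∧ x ∈ U := fun x => by
    obtain ⟨U, hU, hxU, -⟩ := exists_isAffineOpen_mem_and_subset (show x ∈ (⊤ : X.Opens) from trivial)
    exact ⟨U, hU, hxU⟩
  choose U hUa hxU using haff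
  obtain ⟨T, hT⟩ := isCompact_univ.elim_finite_subcover (fun x : X => (U x : Set X)) (fun x => (U x).isOpen)
    (fun x _ => Set.mem_iUnion.2 ⟨x, hxU x⟩)
  have hη : ∀ x, genericPoint X ∈ U x := fun x => (genericPoint_specializes x).mem_open (U x).isOpen (hxU x)
  let γ : ∀ x, Γ(X, U x) →+* L := fun x => (X.presheaf.germ (U x) (genericPoint X) (hη x)).hom
  let ρ : ∀ x, B →+* Γ(X, U x) := fun x => (X.presheaf.map (homOfLE le_top).op).hom.comp
    (f.appTop.hom.comp (Scheme.ΓSpecIso (CommRingCat.of B)).inv.hom)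
  have hγρ : ∀ x b, γ x (ρ x b) = algebraMap B L b := fun x b => TopCat.Presheaf.germ_res_apply _ _ _ _ _
  have hft : ∀ x, (ρ x).FiniteType := fun x => by
    have h1 := f.finiteType_appLE (isAffineOpen_top (Spec (CommRingCat.of B))) (hUa x) (by intro y _; trivial)
    have hb : Function.Surjective (Scheme.ΓSpecIso (CommRingCat.of B)).inv.hom :=
      (ConcreteCategory.bijective_of_isIso _).2
    have h2 := h1.comp (RingHom.FiniteType.of_surjective _ hb)
    exact h2
  have hgens : ∀ x, ∃ (n : ℕ) (s : Fin n → Γ(X, U x)),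
      Subring.closure (Set.range (ρ x) ∪ Set.range s) = ⊤ := fun x => by
    letI := (ρ x).toAlgebra
    obtain ⟨G, hG⟩ := (hft x : Algebra.FiniteType B Γ(X, U x)).out
    refine ⟨G.card, fun i => (G.equivFin.symm i : Γ(X, U x)), ?_⟩
    have e : Set.range (fun i => (G.equivFin.symm i : Γ(X, U x))) = (G : Set Γ(X, U x)) := by
      ext y
      exact ⟨fun ⟨i, hi⟩ => hi ▸ (G.equivFin.symm i).2, fun hy => ⟨G.equivFin ⟨y, hy⟩, by simp⟩⟩
    rw [e, eq_top_iff]
    intro y _
    have hy : y ∈ Algebra.adjoin B (G : Set Γ(X, U x)) := hG ▸ trivial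
    rw [← Subalgebra.mem_toSubring, Algebra.adjoin_eq_ring_closure] at hy
    exact hy
  choose n s hs using hgens
  let fam : ∀ x : T, Fin (n x.1 + 1) → L := fun x => Fin.cons 1 fun i => γ x.1 (s x.1 i)
  obtain ⟨c, hc0, hc⟩ := Content.exists_content_many (A := A) hAL (fun x : T => n x.1 + 1) fam
    (fun x e => one_ne_zero (congrFun e 0))
  refine ⟨c, hc0, fun Z _ h hZn hbirZ hprin => ?_⟩
  letI iBK : Algebra B Z.functionField := (toStk h (genericPoint Z)).toAlgebra
  haveI hfracZ : IsFractionRing B Z.functionField := isFractionRing_functionField h hbirZ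
  let e : L ≃ₐ[B] Z.functionField := IsLocalization.algEquiv (nonZeroDivisors B) L Z.functionField
  have hσ : ∀ z : Z, ∃ σ : Spec (Z.presheaf.stalk z) ⟶ X, σ ≫ f = Z.fromSpecStalk z ≫ h := by
    intro z
    let R := Z.presheaf.stalk z
    let j : R →+* L := e.symm.toRingEquiv.toRingHom.comp (Z.presheaf.stalkSpecializes (genericPoint_specializes z)).hom
    haveI : IsIntegrallyClosed R := (hZn z).2
    letI iRL : Algebra R L := j.toAlgebra
    haveI : IsFractionRing R L :=
      IsLocalization.isLocalization_of_algEquiv (nonZeroDivisors R)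
        ({ e.symm.toRingEquiv with commutes' := fun r => rfl } : Z.functionField ≃ₐ[R] L)
    have hjB : ∀ b, j (toStk h z b) = algebraMap B L b := fun b => by
      show e.symm (Z.presheaf.stalkSpecializes _ (toStk h z b)) = _
      rw [toStk_specializes]
      exact e.symm.commutes b
    letI iAR : Algebra A R := ((toStk h z).comp (algebraMap A B)).toAlgebra
    haveI : IsScalarTower A R L := IsScalarTower.of_algebraMap_eq fun a => (hjB (algebraMap A B a)).symm
    have key := hc R (hprin z)
    -- a valuation ring dominating the local ring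
    obtain ⟨V, hVle, hVloc⟩ := IsLocalRing.exists_factor_valuationRing j
    let jV : R →+* V := j.codRestrict V.toSubring hVle
    haveI : IsLocalHom jV := hVloc
    let ιV : V →+* L := V.subtype
    let bot : Spec (CommRingCat.of V) ⟶ Spec (CommRingCat.of B) :=
      Spec.map (CommRingCat.ofHom (jV.comp (toStk h z)))
    have hsq : CommSq (X.fromSpecStalk (genericPoint X)) (Spec.map (CommRingCat.ofHom (algebraMap V L))) f bot := ⟨by
      rw [fromSpecStalk_comp, ← Spec.map_comp]
      congr 1
      ext b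
      exact (hjB b).symm⟩
    have hval : ValuativeCriterion f := by
      have : IsProper f := inferInstance
      rw [IsProper.eq_valuativeCriterion] at this
      exact this.1.1.1
    obtain ⟨l, hl₁, hl₂⟩ := (hval.existence ⟨(V : Type u), L, _, _, hsq⟩).exists_lift
    let w := l (IsLocalRing.closedPoint V)
    let φ : X.presheaf.stalk w ⟶ CommRingCat.of V := Scheme.stalkClosedPointTo l
    have hlφ : Spec.map φ ≫ X.fromSpecStalk w = l := Scheme.Spec_stalkClosedPointTo_fromSpecStalk l
    have hφ : φ ≫ CommRingCat.ofHom (algebraMap V L) = X.presheaf.stalkSpecializes (genericPoint_specializes w) := by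
      apply Spec.map_injective
      rw [← cancel_mono (X.fromSpecStalk w), Spec.map_comp, Category.assoc, hlφ, Scheme.SpecMap_stalkSpecializes_fromSpecStalk]
      exact hl₁
    obtain ⟨x, hxT, hwU⟩ := Set.mem_iUnion₂.1 (hT (Set.mem_univ w))
    have hmemV : ∀ y : Γ(X, U x), γ x y ∈ V := fun y => by
      have e1 : γ x y = algebraMap V L (φ (X.presheaf.germ (U x) w hwU y)) := by
        refine Eq.trans ?_ (congr($(hφ) (X.presheaf.germ (U x) w hwU y))).symm
        exact (TopCat.Presheaf.germ_stalkSpecializes_apply _ _ _ _).symm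
      rw [e1]
      exact (φ (X.presheaf.germ (U x) w hwU y)).2
    -- the generators lie in the local ring
    obtain ⟨i₀, hi₀, hdiv⟩ := key ⟨x, hxT⟩
    have hgenR : ∀ i, γ x (s x i) ∈ j.range := by
      obtain ⟨r₀, hr₀⟩ := hdiv 0
      change (1 : L) = j r₀ * fam ⟨x, hxT⟩ i₀ at hr₀
      have hu : IsUnit r₀ := by
        refine isUnit_of_map_unit jV _ (IsUnit.of_mul_eq_one (a := jV r₀)
          ⟨fam ⟨x, hxT⟩ i₀, ?_⟩ (Subtype.ext hr₀.symm))
        induction i₀ using Fin.cases with
        | zero => exact V.one_mem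
        | succ i => exact hmemV _
      intro i
      obtain ⟨r, hr⟩ := hdiv i.succ
      change γ x (s x i) = j r * fam ⟨x, hxT⟩ i₀ at hr
      refine ⟨r * (hu.unit⁻¹ : Rˣ), ?_⟩
      rw [hr, map_mul]
      refine congrArg (j r * ·) ?_
      refine (mul_left_cancel₀ ((hu.map j).ne_zero) ?_)
      rw [← hr₀, ← map_mul, IsUnit.mul_val_inv, map_one]
    have hrange : ∀ y : Γ(X, U x), γ x y ∈ j.range := by
      have : Subring.closure (Set.range (ρ x) ∪ Set.range (s x)) ≤ j.range.comap (γ x) := by
        rw [Subring.closure_le]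
        rintro _ (⟨b, rfl⟩ | ⟨i, rfl⟩)
        · exact ⟨toStk h z b, (hjB b).trans (hγρ x b).symm⟩
        · exact hgenR i
      exact fun y => this (hs x ▸ trivial)
    have hjinj : Function.Injective j := IsFractionRing.injective R L
    choose ψ hψ using hrange
    let Ψ : Γ(X, U x) →+* R :=
      { toFun := ψ
        map_one' := hjinj (by rw [hψ, map_one, map_one])
        map_mul' := fun a b => hjinj (by rw [hψ, map_mul, map_mul, hψ, hψ])
        map_zero' := hjinj (by rw [hψ, map_zero, map_zero])
        map_add' := fun a b => hjinj (by rw [hψ, map_add, map_add, hψ, hψ]) }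
    refine ⟨Spec.map (CommRingCat.ofHom Ψ) ≫ (hUa x).fromSpec, ?_⟩
    have e2 : (hUa x).fromSpec ≫ f = Spec.map (CommRingCat.ofHom (ρ x)) := by
      have hf : f = X.toSpecΓ ≫ Spec.map ((Scheme.ΓSpecIso (CommRingCat.of B)).inv ≫ f.appTop) := by
        rw [Spec.map_comp, ← Scheme.toSpecΓ_naturality_assoc, toSpecΓ_SpecMap_ΓSpecIso_inv, Category.comp_id]
      conv_lhs => rw [hf]
      rw [IsAffineOpen.fromSpec_toSpecΓ_assoc, ← Spec.map_comp]
      rfl
    rw [Category.assoc, e2, fromSpecStalk_comp, ← Spec.map_comp]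
    congr 1
    ext b
    exact hjinj (((hψ (ρ x b)).trans (hγρ x b)).trans (hjB b).symm)
  choose σ hσf using hσ
  -- spreading out and gluing
  let P : ∀ z : Z, Z.PartialMap X := fun z => Scheme.PartialMap.ofFromSpecStalk h f (σ z) (hσf z)
  have hP : ∀ z, (P z).hom ≫ f = (P z).domain.ι ≫ h := fun z => Scheme.PartialMap.ofFromSpecStalk_comp _ _ _ _
  have hzP : ∀ z, z ∈ (P z).domain := fun z => Scheme.PartialMap.mem_domain_ofFromSpecStalk _ _ _ _
  let 𝒲 := Z.openCoverOfIsOpenCover (fun z => (P z).domain) (eq_top_iff.2 fun z _ => Opens.mem_iSup.2 ⟨z, hzP z⟩)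
  obtain ⟨V₀, hV₀, hV₀i⟩ := hbir
  haveI := hV₀i
  have hηZ : h (genericPoint Z) ∈ V₀ := by
    obtain ⟨U', hU', hU'i⟩ := hbirZ
    haveI := hU'i
    obtain ⟨p, hp⟩ := hV₀
    obtain ⟨q, hq⟩ := hU'
    have hb : genericPoint ↥(Spec (CommRingCat.of B)) ∈ U' ⊓ V₀ :=
      ⟨(genericPoint_specializes q).mem_open U'.isOpen hq, (genericPoint_specializes p).mem_open V₀.isOpen hp⟩
    obtain ⟨t, ht⟩ := (h ∣_ U').homeomorph.surjective ⟨_, hb.1⟩
    have ht' : h t.1 = genericPoint ↥(Spec (CommRingCat.of B)) := by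
      have h0 := congrArg Subtype.val ht
      rw [show ((h ∣_ U').homeomorph t).1 = ((h ∣_ U') ≫ U'.ι) t from rfl, morphismRestrict_ι] at h0
      exact h0
    exact ((genericPoint_specializes t.1).map h.continuous).mem_open V₀.isOpen (ht' ▸ hb.2)
  refine ⟨Scheme.Cover.glueMorphisms 𝒲 (fun z => (P z).hom) fun a b => ?_,
    Scheme.Cover.hom_ext 𝒲 _ _ fun z => by rw [Scheme.Cover.ι_glueMorphisms_assoc]; exact hP z⟩
  let Q := pullback (𝒲.f a) (𝒲.f b)
  haveI : IsOpenImmersion (pullback.fst (𝒲.f a) (𝒲.f b) ≫ 𝒲.f a) := inferInstance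
  haveI : Nonempty Q := by
    obtain ⟨q, -⟩ := Scheme.Pullback.exists_preimage_pullback (f := 𝒲.f a) (g := 𝒲.f b)
      (⟨genericPoint Z, (genericPoint_specializes (show Z from a)).mem_open (P a).domain.isOpen (hzP a)⟩ : (P a).domain)
      (⟨genericPoint Z, (genericPoint_specializes (show Z from b)).mem_open (P b).domain.isOpen (hzP b)⟩ : (P b).domain) rfl
    exact ⟨q⟩
  haveI : IsIntegral Q := isIntegral_of_isOpenImmersion (pullback.fst (𝒲.f a) (𝒲.f b) ≫ 𝒲.f a)
  have e3 : (pullback.fst (𝒲.f a) (𝒲.f b) ≫ (P a).hom) ≫ f = (pullback.fst (𝒲.f a) (𝒲.f b) ≫ 𝒲.f a) ≫ h := by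
    rw [Category.assoc, hP, Category.assoc]
    rfl
  refine GrothLib.NormDom29.hom_ext_over f V₀ _ _ ?_ ?_
  · rw [e3, Category.assoc, Category.assoc, hP, pullback.condition_assoc]
    rfl
  · rw [e3, Scheme.Hom.comp_apply]
    have : (pullback.fst (𝒲.f a) (𝒲.f b) ≫ 𝒲.f a) (genericPoint Q) = genericPoint Z :=
      genericPoint_eq_of_isOpenImmersion _
    rwa [this]

end GrothLib.RightAdj20.Dom
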