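import Groth.Agent.Lib.DualCx22.DualPerfect
import Groth.Agent.Lib.DualRing.Unique
import Groth.Agent.Lib.DualRing.CanonStalk
import Groth.Agent.Lib.DCxRing.Stupid

/-! # Top cohomology of a dual complex and maps from the residue field -/

set_option autoImplicit false
set_option maxHeartbeats 1000000
set_option linter.style.haveILetI false
set_option backward.isDefEq.respectTransparency false
universe u

open CategoryTheory CategoryTheory.Limits DerivedCategory IsLocalRing

attribute [local instance] HasDerivedCategory.standard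

noncomputable section

namespace GrothLib.RightAdj20

open GrothLib.DualCx22

variable {A : Type u} [CommRing A]

/-- Over a domain with dualizing module the degree of the closed point is the dimension. -/
theorem deg_maximal_of_module [IsDomain A] [IsLocalRing A] [IsNoetherianRing A] (d : ℕ) (hdim : ringKrullDim A = d) {ωA : Type u}
    [AddCommGroup ωA] [Module A ωA] (hω : Dual.IsDualizing A (Dual.inD A ωA)) :
    DualRing.deg hω (maximalIdeal A) = d := by
  haveI : (⊥ : Ideal A).IsPrime := Ideal.isPrime_bot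
  have h0 : DualRing.deg hω (⊥ : Ideal A) = 0 := by
    by_contra h
    have h1 := DualRing.bot_mem_support_deg_bot hω
    haveI := DR.subsingleton_HD_inD (A := A) ωA _ h
    rw [Module.support_eq_empty] at h1
    exact h1
  let b : PrimeSpectrum A := ⟨⊥, Ideal.isPrime_bot⟩
  have h1 := DualRing.ringKrullDim_quotient_prime hω b
  rw [show ringKrullDim (A ⧸ b.asIdeal) = ringKrullDim A from
    ringKrullDim_eq_of_ringEquiv (RingEquiv.quotientBot A), hdim] at h1
  have h2 : ((DualRing.degS hω (closedPoint A) - DualRing.degS hω b).toNat : ℕ) = d := by exact_mod_cast h1.symm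
  have h3 : DualRing.degS hω b ≤ DualRing.degS hω (closedPoint A) :=
    (DualRing.degS_strictMono hω).monotone bot_le
  change DualRing.deg hω (⊥ : Ideal A) ≤ DualRing.deg hω (maximalIdeal A) at h3
  change (DualRing.deg hω (maximalIdeal A) - DualRing.deg hω (⊥ : Ideal A)).toNat = d at h2
  omega

variable [IsLocalRing A] [IsNoetherianRing A]

/-- **The top cohomology of the dual vanishes when the residue field does not map in the dual degree.** -/
theorem subsingleton_HD_dual_top {ω : Dual.D A} (hω : Dual.IsDualizing A ω) (r : InjRep ω) (P : DRing.Cx A)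
    (hP : ∀ i, Module.Finite A (Dual.HD A (DRing.toD P) i)) (t : ℤ) [IsLE (DRing.toD (r.dual P)) t] (s : ℤ)
    (hs : s = t - DualRing.deg hω (maximalIdeal A))
    (h : Subsingleton ((Dual.inD A (A ⧸ maximalIdeal A))⟦s⟧ ⟶ DRing.toD P)) :
    Subsingleton (Dual.HD A (DRing.toD (r.dual P)) t) := by
  let m := maximalIdeal A
  let c := DualRing.deg hω m
  haveI := r.kInj
  have hcoh : ∀ J : Ideal A, J.FG → Module.FinitePresentation A J := fun J _ => Module.finitePresentation_of_finite A J
  have hproj : ∀ (E : DRing.Cx A) (b : ℤ), DRing.VanishesAbove E b → DRing.TermwiseFiniteFree E →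
      GrothLib.KF.IsKFlat E := fun E b hE hEf =>
    GrothLib.KF.isKFlat_of_bounded_above E b hE fun i => by
      haveI := (hEf i).2
      exact (inferInstance : Module.Flat A (E.X i))
  let L := DRing.toD (r.dual P)
  have hL : ∀ i, Module.Finite A (Dual.HD A L i) := fun i => by
    obtain ⟨e⟩ := r.nonempty_HD_dual P i
    haveI := finite_hom (DRing.toD P) ω hP hω.finite_cohomology (DualRing.hasFiniteInjDim_of_isDualizing hω) i
    exact Module.Finite.equiv e.symm
  obtain ⟨E, bE, hE, hEf, ⟨eE⟩⟩ := (DR.isPseudoCoherent'_iff_of_coherent hcoh L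
    ⟨t, fun j hj => (DR.subsingleton_iff_isZero _).2 (L.isZero_of_isLE t j hj)⟩).2 fun j =>
      haveI := hL j
      Module.finitePresentation_of_finite A _
  haveI := GrothLib.RH.isKInjective_homCx E r.I (hproj E bE hE hEf)
  obtain ⟨eD⟩ := r.nonempty_dual_congr eE
  obtain ⟨eP⟩ := r.nonempty_bidual P hP
  obtain ⟨F, bF, q, hF, hFf, hq⟩ := GrothLib.DCpl.exists_finiteFree_resolution (A := A) (A ⧸ m)
  haveI := hq
  haveI := GrothLib.RH.quasiIso_Q q
  let eF : DRing.toD F ≅ Dual.inD A (A ⧸ m) :=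
    asIso (DerivedCategory.Q.map q) ≪≫ (GrothLib.DCpl.eSingle (ModuleCat.of A (A ⧸ m))).symm
  obtain ⟨c', hc', ⟨eDk'⟩⟩ := exists_dual_residue r m F eF hω
  obtain rfl : c' = c := by
    by_contra hne
    haveI := hc'
    exact not_subsingleton (Dual.inD A (A ⧸ m) ⟶ ω⟦c'⟧)
      ((DualRing.len_eq_zero_iff_of_killed m (DualRing.smul_EH_quotient m c')).1 (DualRing.mu_ne_deg hω m hne))
  haveI := GrothLib.RH.isKInjective_homCx F r.I (hproj F bF hF hFf)
  have hfinDk : ∀ j, Module.Finite A (Dual.HD A (DRing.toD (r.dual F)) j) := fun j => by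
    obtain ⟨e⟩ := r.nonempty_HD_dual F j
    haveI := DualRing.finite_EH hω (A ⧸ m) j
    exact Module.Finite.equiv (e.trans (Linear.homCongr A eF (Iso.refl _))).symm
  haveI : ((Dual.inD A (A ⧸ m))⟦-c⟧).IsLE c := TStructure.t.isLE_shift (Dual.inD A (A ⧸ m)) 0 (-c) c (by omega)
  haveI : IsLE (DRing.toD (r.dual F)) c := TStructure.t.isLE_of_iso eDk'.symm c
  obtain ⟨F', bF', hF', hF'f, ⟨eF'⟩⟩ := (DR.isPseudoCoherent'_iff_of_coherent hcoh (DRing.toD (r.dual F))
    ⟨c, fun j hj => (DR.subsingleton_iff_isZero _).2 ((DRing.toD (r.dual F)).isZero_of_isLE c j hj)⟩).2 fun j =>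
      haveI := hfinDk j
      Module.finitePresentation_of_finite A _
  haveI := GrothLib.RH.isKInjective_homCx F' r.I (hproj F' bF' hF' hF'f)
  have hFfin : ∀ j, Module.Finite A (Dual.HD A (DRing.toD F) j) := fun j => by
    refine @Module.Finite.equiv _ _ _ _ _ _ _ _ ?_ (GrothLib.RGamma.hdIso eF j).symm
    by_cases hj : j = 0
    · subst hj
      exact Module.Finite.equiv (DR.inDHomologyIso (A ⧸ m)).toLinearEquiv.symm
    · haveI := DR.subsingleton_HD_inD (A := A) (A ⧸ m) j hj
      infer_instance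
  obtain ⟨eb⟩ := r.nonempty_bidual F hFfin
  obtain ⟨eb'⟩ := r.nonempty_dual_congr eF'
  let eM : Dual.inD A (A ⧸ m) ≅ DRing.toD (DRing.homCx F' r.I) := eF.symm ≪≫ eb ≪≫ eb'
  obtain ⟨e1⟩ := GrothLib.DualRing.exists_HD_homCx_equiv E (DRing.homCx F' r.I) (-t)
  obtain ⟨e2⟩ := GrothLib.DualRing.exists_HD_homCx_equiv F' (DRing.homCx E r.I) (-t)
  let eS := ((homologyFunctor (ModuleCat.{u} A) (-t)).mapIso
    (DerivedCategory.Q.mapIso (homCxSwapIso E F' r.I))).toLinearEquiv
  let eH : (L ⟶ (Dual.inD A (A ⧸ m))⟦-t⟧) ≃ₗ[A] ((Dual.inD A (A ⧸ m))⟦-c⟧ ⟶ (DRing.toD P)⟦-t⟧) :=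
    (Linear.homCongr A eE.symm ((shiftFunctor (Dual.D A) (-t)).mapIso eM)).trans
      (e1.symm.trans (eS.trans (e2.trans (Linear.homCongr A (eF' ≪≫ eDk')
        ((shiftFunctor (Dual.D A) (-t)).mapIso (eD.symm ≪≫ eP.symm))))))
  haveI : Subsingleton ((Dual.inD A (A ⧸ m))⟦-c⟧ ⟶ (DRing.toD P)⟦-t⟧) := by
    let a := (shiftFunctorAdd' (Dual.D A) s (-t) (-c) (by simp only [c, m]; omega)).app (Dual.inD A (A ⧸ m))
    have h1 : Subsingleton (((Dual.inD A (A ⧸ m))⟦s⟧)⟦-t⟧ ⟶ (DRing.toD P)⟦-t⟧) :=
      @Function.Surjective.subsingleton _ _ _ h (shiftFunctor (Dual.D A) (-t)).map_surjective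
    exact @Equiv.subsingleton _ _ (a.homCongr (Iso.refl _)) h1
  haveI : Subsingleton (L ⟶ (DerivedCategory.singleFunctor (ModuleCat.{u} A) t).obj
      (ModuleCat.of A (IsLocalRing.ResidueField A))) := by
    haveI := eH.toEquiv.subsingleton
    exact ((DR.singleIsoShift t (ModuleCat.of A (A ⧸ m))).homToEquiv (Z := L)).subsingleton
  obtain ⟨e⟩ := nonempty_hom_top L t
  haveI := hL t
  by_contra hne
  haveI := not_subsingleton_iff_nontrivial.1 hne
  obtain ⟨φ, x, hx⟩ := exists_hom_residue (A := A) (Dual.HD A L t)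
  haveI := e.symm.toEquiv.subsingleton
  exact one_ne_zero (hx.symm.trans (LinearMap.congr_fun (Subsingleton.elim φ 0) x))

end GrothLib.RightAdj20
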