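import Groth.Agent.Lib.ShriekBridge22.FieldScheme
import Groth.Agent.Lib.DualRing.InvertibleLocus
import Groth.Agent.Lib.RightAdj22.QFun

/-! # The dualizing complex does not depend on the base field -/

set_option autoImplicit false
set_option maxHeartbeats 1000000
set_option linter.style.haveILetI false
set_option backward.isDefEq.respectTransparency false
universe u

open CategoryTheory CategoryTheory.Limits AlgebraicGeometry

attribute [local instance] HasDerivedCategory.standard

noncomputable section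

namespace GrothLib.RightAdj20

open GrothLib.OX GrothLib.RightAdj22

/-- A module over a field whose endomorphisms are the scalars is a line. -/
theorem nonempty_equiv_self {C : Type u} [CommRing C] (hC : IsField C) (V : Type u) [AddCommGroup V] [Module C V]
    (hb : Function.Bijective fun c : C => (c • LinearMap.id : V →ₗ[C] V)) : Nonempty (V ≃ₗ[C] C) := by
  letI := hC.toField
  rcases subsingleton_or_nontrivial V with h | h
  · have h01 : (0 : C) = 1 := hb.1 (LinearMap.ext fun v => Subsingleton.elim _ _)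
    exact absurd h01 zero_ne_one
  obtain ⟨v, hv⟩ := exists_ne (0 : V)
  obtain ⟨π, hπ⟩ : ∃ π : V →ₗ[C] C, π v ≠ 0 := by
    by_contra hne
    push_neg at hne
    exact hv ((Module.forall_dual_apply_eq_zero_iff C v).1 hne)
  have key : ∀ w : V, ∃ c : C, c • v = w := fun w => by
    obtain ⟨c, hc⟩ := hb.2 (π.smulRight w)
    have h1 : c • v = π v • w := LinearMap.congr_fun hc v
    exact ⟨(π v)⁻¹ * c, by rw [mul_smul, h1, inv_smul_smul₀ hπ]⟩
  refine ⟨(LinearEquiv.ofBijective ((LinearMap.id : C →ₗ[C] C).smulRight v) ⟨?_, ?_⟩).symm⟩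
  · exact fun a b hab => smul_left_injective C hv hab
  · exact key

/-- Over a field, a dualizing complex in degree zero is the unit. -/
theorem nonempty_iso_inD {C : Type u} [CommRing C] (hC : IsField C) {ω : Dual.D C} (hω : Dual.IsDualizing C ω)
    (h : ∀ i : ℤ, i ≠ 0 → Subsingleton (Dual.HD C ω i)) : Nonempty (ω ≅ Dual.inD C C) := by
  haveI : ω.IsGE 0 := (DerivedCategory.isGE_iff _ _).2 fun i hi =>
    @ModuleCat.isZero_of_subsingleton _ _ _ (h i (by omega))
  haveI : ω.IsLE 0 := (DerivedCategory.isLE_iff _ _).2 fun i hi =>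
    @ModuleCat.isZero_of_subsingleton _ _ _ (h i (by omega))
  obtain ⟨M, ⟨e⟩⟩ := DerivedCategory.exists_iso_singleFunctor_obj_of_isGE_of_isLE ω 0
  obtain ⟨g⟩ := nonempty_equiv_self hC M (by
    let F := DerivedCategory.singleFunctor (ModuleCat.{u} C) 0
    have hF : Function.Bijective (fun t : M ⟶ M => (Linear.homCongr C e.symm e.symm) (F.map t)) :=
      (Linear.homCongr C e.symm e.symm).bijective.comp ⟨F.map_injective, F.map_surjective⟩
    have hh : Function.Bijective (fun c : C => c • 𝟙 M) := by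
      refine (Function.Bijective.of_comp_iff' hF _).1 ?_
      convert hω.toEnd_bijective using 1
      funext c
      simp only [Linear.homCongr_apply, Function.comp_apply, Functor.map_smul, Functor.map_id, Iso.symm_hom, Iso.symm_inv, Linear.comp_smul, Linear.smul_comp]
      erw [CategoryTheory.Functor.map_id, Category.comp_id, e.hom_inv_id]
    exact ModuleCat.homEquiv.bijective.comp hh)
  exact ⟨e ≪≫ (DerivedCategory.singleFunctor (ModuleCat.{u} C) 0).mapIso g.toModuleIso⟩

variable {X : Scheme.{u}} [∀ R : CommRingCat.{u}, PreservesFiniteLimits (tilde.functor R)] {k : Type u} [Field k]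

/-- **`a O = O` for a finite field extension.** -/
theorem nonempty_adjoint_fieldExt (k' : Type u) [Field k'] (π : Spec (CommRingCat.of k') ⟶ Spec (CommRingCat.of k))
    [IsProper π] (O : DCoh.DQCoh (Spec (CommRingCat.of k)))
    (hO : Nonempty (O.obj ≅ DCoh.inD _ (Coh.structureModule (Spec (CommRingCat.of k))))) :
    Nonempty (((aQ π).obj O).obj ≅ DCoh.inD _ (Coh.structureModule (Spec (CommRingCat.of k')))) := by
  haveI : DCoh.HasRpush π := KInj.hasRightDerivedFunctor _
  have hf : DCoh.RpushPreservesQCoh π := fun K hK =>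
    GrothLib.KSix19.BettiExact.isQCohD_of_iso' ((rpushIsoRres π).app K).symm (isQCohD_Rres π K hK)
  let adj := (aQAdj π).ofNatIsoLeft (rpushQIso π hf).symm
  let X' := Spec (CommRingCat.of k')
  let hU : IsAffineOpen (⊤ : X'.Opens) := isAffineOpen_top X'
  obtain ⟨_, n, ψ, hψ, _, ⟨e⟩⟩ := ShriekBridge22.exists_field_chart π hf adj O hO ⊤ hU
  let C : Type u := Γ(X', ⊤)
  have hC : IsField C :=
    MulEquiv.isField (Semifield.toIsField k') (Scheme.ΓSpecIso (CommRingCat.of k')).commRingCatIsoToRingEquiv.toMulEquiv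
  letI := DualRing.Shriek.pfl_of_flat k (P := MvPolynomial (Fin n) k)
  let ω : Dual.D C := DualRing.Shriek.GP ψ (Dual.inD k k)
  have hω : Dual.IsDualizing C ω := ShriekBridge22.isDualizing_GP ψ hψ (ShriekBridge22.isDualizing_field k)
  have hdim : ringKrullDim C = 0 := by
    letI := hC.toField
    exact ringKrullDim_eq_zero_of_field C
  obtain ⟨g⟩ := nonempty_iso_inD hC hω (fun i hi => by
    refine (Module.support_eq_empty_iff (R := C)).1 (Set.eq_empty_iff_forall_notMem.2 fun q hq => ?_)
    obtain ⟨h1, -, h3⟩ := ShriekBridge22.support_bounds ψ hψ i q hq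
    change (((-i).toNat : ℕ) : WithBot ℕ∞) ≤ ringKrullDim C at h3
    rw [hdim] at h3
    have h4 : (-i).toNat ≤ 0 := by exact_mod_cast h3
    omega)
  haveI : IsOpenImmersion hU.fromSpec := inferInstance
  haveI : IsIso hU.fromSpec := by
    rw [show hU.fromSpec = X'.isoSpec.inv from IsAffineOpen.fromSpec_top]
    infer_instance
  let j := hU.fromSpec
  obtain ⟨u⟩ := ShriekBridge22.nonempty_resD_unit (A := C) j (O := DCoh.inD X' (Coh.structureModule X')) ⟨Iso.refl _⟩
  let η := @asIso _ _ _ _ _ (isIso_unit_of_iso (asIso j))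
  exact ⟨η.app ((aQ π).obj O).obj ≪≫ (RR j).mapIso (e ≪≫ (DCoh.tildeD (CommRingCat.of C)).mapIso g ≪≫ u.symm) ≪≫
    (η.app _).symm⟩

end GrothLib.RightAdj20

namespace GrothLib.RightAdj20

open GrothLib.OX GrothLib.RightAdj22

/-- A field between `k` and a nonempty scheme of finite type is finite over `k`. -/
theorem finite_of_factor {X : Scheme.{u}} [Nonempty X] (k k' : Type u) [Field k] [Field k'] [Algebra k k']
    (f : X ⟶ Spec (CommRingCat.of k)) [LocallyOfFiniteType f] (f' : X ⟶ Spec (CommRingCat.of k'))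
    (h : f' ≫ Spec.map (CommRingCat.ofHom (algebraMap k k')) = f) : Module.Finite k k' := by
  obtain ⟨U, hU, hx, -⟩ := exists_isAffineOpen_mem_and_subset (x := Classical.arbitrary X) (U := ⊤) trivial
  obtain ⟨φ, hφ, w⟩ := GrothLib.Dim.exists_finiteType_specMap f hU
  haveI : Nonempty U := ⟨⟨_, hx⟩⟩
  let A := Γ(X, U)
  let ψ : CommRingCat.of k' ⟶ A := Spec.preimage (hU.fromSpec ≫ f')
  have hw : CommRingCat.ofHom (algebraMap k k') ≫ ψ = φ := Spec.map_injective (by
    rw [Spec.map_comp, Spec.map_preimage, Category.assoc, h]; exact w)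
  haveI : Nontrivial A := inferInstance
  obtain ⟨m, hm⟩ := Ideal.exists_maximal A
  letI := Ideal.Quotient.field m
  let g : k' →+* A ⧸ m := (Ideal.Quotient.mk m).comp ψ.hom
  letI : Algebra k (A ⧸ m) := (g.comp (algebraMap k k')).toAlgebra
  have hft : Algebra.FiniteType k (A ⧸ m) := by
    have h2 : (algebraMap k (A ⧸ m)) = (Ideal.Quotient.mk m).comp φ.hom := by
      rw [← hw]; rfl
    exact RingHom.finiteType_algebraMap.1 (h2 ▸
      RingHom.FiniteType.comp (RingHom.FiniteType.of_surjective _ Ideal.Quotient.mk_surjective) hφ)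
  haveI := finite_of_finite_type_of_isJacobsonRing k (A ⧸ m)
  let g' : k' →ₐ[k] A ⧸ m := { g with commutes' := fun r => rfl }
  exact Module.Finite.of_injective g'.toLinearMap g.injective

/-- An object of the derived category of the empty scheme vanishes. -/
theorem isZero_D_of_isEmpty {X : Scheme.{u}} [IsEmpty X] (K : DCoh.D X) : IsZero K :=
  isZero_of_support_empty fun _ => Set.eq_empty_of_forall_notMem fun x _ => isEmptyElim x

/-- **Independence of the base field.** -/
theorem nonempty_adjoint_indep {X : Scheme.{u}} (k k' : Type u) [Field k] [Field k'] [Algebra k k']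
    (f : X ⟶ Spec (CommRingCat.of k)) [IsProper f] (f' : X ⟶ Spec (CommRingCat.of k'))
    (h : f' ≫ Spec.map (CommRingCat.ofHom (algebraMap k k')) = f) [DCoh.HasRpush f]
    (hf : DCoh.RpushPreservesQCoh f) {a : DCoh.DQCoh (Spec (CommRingCat.of k)) ⥤ DCoh.DQCoh X}
    (adj : DCoh.RpushQ f hf ⊣ a) [DCoh.HasRpush f'] (hf' : DCoh.RpushPreservesQCoh f')
    {a' : DCoh.DQCoh (Spec (CommRingCat.of k')) ⥤ DCoh.DQCoh X} (adj' : DCoh.RpushQ f' hf' ⊣ a')
    (O : DCoh.DQCoh (Spec (CommRingCat.of k)))
    (hO : Nonempty (O.obj ≅ DCoh.inD _ (Coh.structureModule (Spec (CommRingCat.of k)))))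
    (O' : DCoh.DQCoh (Spec (CommRingCat.of k')))
    (hO' : Nonempty (O'.obj ≅ DCoh.inD _ (Coh.structureModule (Spec (CommRingCat.of k'))))) :
    Nonempty ((a.obj O).obj ≅ (a'.obj O').obj) := by
  rcases isEmpty_or_nonempty X with hX | hX
  · exact ⟨(isZero_D_of_isEmpty _).iso (isZero_D_of_isEmpty _)⟩
  haveI : ∀ R : CommRingCat.{u}, PreservesFiniteLimits (tilde.functor R) := preservesFiniteLimits_tildeGen
  let π := Spec.map (CommRingCat.ofHom (algebraMap k k'))
  haveI := finite_of_factor k k' f f' h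
  haveI : IsFinite π := (IsFinite.SpecMap_iff _).2 (RingHom.finite_algebraMap.2 inferInstance)
  haveI : IsProper (f' ≫ π) := h ▸ inferInstance
  haveI : IsProper f' := IsProper.of_comp f' π
  obtain ⟨eO'⟩ := hO'
  obtain ⟨n⟩ := nonempty_adjoint_fieldExt k' π O hO
  exact ⟨(DCoh.IsQCohD (X := X)).ι.mapIso ((aQUniq f hf adj).app O ≪≫ (aQCongr h.symm).app O ≪≫
    (aQComp f' π).app O ≪≫ (aQ f').mapIso ((DCoh.IsQCohD (X := Spec (CommRingCat.of k'))).isoMk (n ≪≫ eO'.symm)) ≪≫
    ((aQUniq f' hf' adj').app O').symm)⟩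

end GrothLib.RightAdj20
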