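import Groth.Agent.Lib.DualRing.BCHom
import Groth.Agent.Lib.DualCx22.DualRep
import Groth.Agent.Lib.DualRing.ShriekIndep

/-! # Flat base change of the dual of a complex with finite cohomology -/

set_option autoImplicit false
set_option linter.style.haveILetI false
set_option backward.isDefEq.respectTransparency false
set_option maxHeartbeats 800000
universe u

open CategoryTheory CategoryTheory.Limits CochainComplex CochainComplex.HomComplex HomologicalComplex GrothLib.DualCx22
open GrothLib.DualRing.Act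
open scoped TensorProduct

attribute [local instance] HasDerivedCategory.standard

namespace GrothLib.RightAdj20.FlatDual

section Window

variable {R : Type u} [CommRing R]

/-- A complex with cohomology only far above has small dual in bounded ranges of degrees. -/
theorem isZero_dual_homology (I : DRing.Cx R) [I.IsKInjective] (b : ℤ) (hI : ∀ t, b < t → IsZero (I.X t))
    (C : DRing.Cx R) (m : ℤ) (hC : ∀ p, p ≤ m → C.ExactAt p) (i : ℤ) (h : b ≤ m + i) :
    IsZero ((DRing.homCx C I).homology i) := by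
  haveI : C.IsGE (m + 1) := (CochainComplex.isGE_iff C (m + 1)).2 fun p hp => hC p (by omega)
  haveI : QuasiIso (C.πTruncGE (m + 1)) := (C.quasiIso_πTruncGE_iff (m + 1)).2 inferInstance
  haveI := GrothLib.RH.quasiIso_homCxPre (C.πTruncGE (m + 1)) I
  refine IsZero.of_iso ?_ (asIso (homologyMap (GrothLib.RH.homCxPre (C.πTruncGE (m + 1)) I) i)).symm
  refine isZero_homology_of_X (@ModuleCat.isZero_of_subsingleton _ _ _
    ⟨fun (z z' : Cochain (C.truncGE (m + 1)) I i) => Cochain.ext _ _ fun p q hpq => ?_⟩)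
  by_cases hp : p < m + 1
  · exact ((C.truncGE (m + 1)).isZero_of_isStrictlyGE (m + 1) p hp).eq_of_src _ _
  · exact (hI q (by omega)).eq_of_tgt _ _

/-- Restriction to a subcomplex agreeing in low degrees. -/
theorem isIso_dual_window (I : DRing.Cx R) [I.IsKInjective] (b : ℤ) (hI : ∀ t, b < t → IsZero (I.X t))
    (hinj : ∀ t, Injective (I.X t)) {S : ShortComplex (DRing.Cx R)} (hS : S.ShortExact) (m : ℤ)
    (hC : ∀ p, p ≤ m → S.X₃.ExactAt p) (j : ℤ) (h : b ≤ m + j) :
    IsIso (homologyMap (GrothLib.RH.homCxPre S.f I) j) := by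
  have hT := dualSC_shortExact I hinj hS
  haveI : Mono (homologyMap (GrothLib.RH.homCxPre S.f I) j) :=
    (hT.homology_exact₂ j).mono_g ((isZero_dual_homology I b hI S.X₃ m hC j h).eq_of_src _ _)
  haveI : Epi (homologyMap (GrothLib.RH.homCxPre S.f I) j) :=
    (hT.homology_exact₃ j (j + 1) rfl).epi_f
      ((isZero_dual_homology I b hI S.X₃ m hC (j + 1) (by omega)).eq_of_tgt _ _)
  exact isIso_of_mono_of_epi _

end Window

variable {A P : Type u} [CommRing A] [CommRing P] (ρ : A →+* P)

section Comparison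

variable {I : DRing.Cx A} {J : DRing.Cx P} (γ : (DR.bc ρ).obj I ⟶ J)

/-- The comparison of duals. -/
noncomputable def cmp (N : DRing.Cx A) :
    (DR.bc ρ).obj (DRing.homCx N I) ⟶ DRing.homCx ((DR.bc ρ).obj N) J :=
  cmpM ρ N I ≫ DRing.homCxMap ((DR.bc ρ).obj N) γ

theorem cmpM_natural_left {N N' : DRing.Cx A} (f : N' ⟶ N) :
    (DR.bc ρ).map (GrothLib.RH.homCxPre f I) ≫ cmpM ρ N' I =
      cmpM ρ N I ≫ GrothLib.RH.homCxPre ((DR.bc ρ).map f) ((DR.bc ρ).obj I) := by
  refine bc_hom_ext ρ fun n (z : Cochain N I n) => ?_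
  letI := ρ.toAlgebra
  change (cmpM ρ N' I).f n ((1 : P) ⊗ₜ[A] ((Cochain.ofHom f).comp z (zero_add n) : Cochain N' I n)) =
    (GrothLib.RH.homCxPre ((DR.bc ρ).map f) ((DR.bc ρ).obj I)).f n ((cmpM ρ N I).f n ((1 : P) ⊗ₜ[A] z))
  rw [cmpM_one_tmul, cmpM_one_tmul]
  exact (Cochain.map_comp I (Cochain.ofHom f) z (zero_add n) _).trans
    (congrArg (fun w => Cochain.comp w _ (zero_add n)) (Cochain.map_ofHom N' N f _))

theorem cmp_natural {N N' : DRing.Cx A} (f : N' ⟶ N) :
    (DR.bc ρ).map (GrothLib.RH.homCxPre f I) ≫ cmp ρ γ N' =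
      cmp ρ γ N ≫ GrothLib.RH.homCxPre ((DR.bc ρ).map f) J := by
  rw [cmp, cmp, reassoc_of% cmpM_natural_left ρ f, Category.assoc, homCxPre_homCxMap]

/-- Base change of homomorphisms into a bounded complex. -/
theorem isIso_cmpM_bdd (E : DRing.Cx A) (hE : DRing.TermwiseFiniteProjective E) (a b : ℤ)
    (hI : ∀ t, (t < a ∨ b < t) → IsZero (I.X t)) : IsIso (cmpM ρ E I) := by
  suffices ∀ n, IsIso ((cmpM ρ E I).f n) from HomologicalComplex.Hom.isIso_of_components _
  intro n
  rw [ConcreteCategory.isIso_iff_bijective]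
  letI := ρ.toAlgebra
  let S : Finset ℤ := Finset.Icc (a - n) (b - n)
  let E' := (DR.bc ρ).obj E
  let I' := (DR.bc ρ).obj I
  have hout : ∀ p q : ℤ, p + n = q → p ∉ S → IsZero (I.X q) := fun p q h hp => hI q (by
    simp only [S, Finset.mem_Icc] at hp; omega)
  let π : ∀ p, (DRing.homCx E I).X n →ₗ[A] (E.X p →ₗ[A] I.X (p + n)) := fun p =>
    { toFun := fun z : Cochain E I n => (z.v p (p + n) rfl).hom
      map_add' := fun _ _ => rfl
      map_smul' := fun _ _ => rfl }
  let ι : ∀ p, (E.X p →ₗ[A] I.X (p + n)) →ₗ[A] (DRing.homCx E I).X n := fun p =>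
    GrothLib.RH.singleLin E I p (p + n) n
  have hιπ : ∑ p ∈ S, (ι p).comp (π p) = LinearMap.id := by
    refine LinearMap.ext fun (z : Cochain E I n) => ?_
    rw [LinearMap.sum_apply]
    refine Cochain.ext _ _ fun p q h => ?_
    obtain rfl := h
    change (∑ r ∈ S, (ι r (π r z) : Cochain E I n)).v p (p + n) rfl = z.v p (p + n) rfl
    have hsum : ∀ T : Finset ℤ, (∑ r ∈ T, (ι r (π r z) : Cochain E I n)).v p (p + n) rfl =
        ∑ r ∈ T, (ι r (π r z) : Cochain E I n).v p (p + n) rfl := fun T => by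
      induction T using Finset.induction with
      | empty => simp
      | insert r T hr ih => rw [Finset.sum_insert hr, Finset.sum_insert hr, Cochain.add_v, ih]
    rw [hsum, Finset.sum_eq_single p]
    · exact Cochain.single_v _ _ _
    · exact fun r _ hr => Cochain.single_v_eq_zero _ _ _ _ _ hr.symm
    · exact fun hp => (hout p (p + n) rfl hp).eq_of_tgt _ _
  let L : P ⊗[A] ((DRing.homCx E I).X n) → Cochain E' I' n := fun x => (cmpM ρ E I).f n x
  let ev : ∀ p, Cochain E' I' n → (P ⊗[A] E.X p →ₗ[P] P ⊗[A] I.X (p + n)) := fun p w => (w.v p (p + n) rfl).hom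
  have key : ∀ p x, ev p (L x) = GrothLib.ExtBC.κ (A := A) P (I.X (p + n)) (E.X p) ((π p).baseChange P x) := by
    intro p x
    induction x using TensorProduct.induction_on with
    | zero =>
      have h0 : L 0 = 0 := map_zero ((cmpM ρ E I).f n).hom
      rw [h0, map_zero, map_zero]
      rfl
    | add x y hx hy =>
      have h0 : L (x + y) = L x + L y := map_add ((cmpM ρ E I).f n).hom x y
      rw [h0, map_add, map_add, ← hx, ← hy]
      rfl
    | tmul r z =>
      have h0 : L (r ⊗ₜ[A] z) = r • L ((1 : P) ⊗ₜ[A] z) := by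
        refine Eq.trans ?_ (map_smul ((cmpM ρ E I).f n).hom r ((1 : P) ⊗ₜ[A] z))
        refine congrArg L ?_
        rw [TensorProduct.smul_tmul', smul_eq_mul, mul_one]
      rw [h0, LinearMap.baseChange_tmul, GrothLib.ExtBC.κ_tmul]
      change r • ev p (L ((1 : P) ⊗ₜ[A] z)) = _
      refine congrArg (r • ·) (TensorProduct.AlgebraTensorModule.ext fun q e => ?_)
      have hz : L ((1 : P) ⊗ₜ[A] z) = (z : Cochain E I n).map (ModuleCat.extendScalars.{u, u, u} ρ) :=
        cmpM_one_tmul ρ E I n z
      change (L ((1 : P) ⊗ₜ[A] z)).v p (p + n) rfl (q ⊗ₜ[A] e) = _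
      rw [hz]
      rfl
  have hκ : ∀ p, Function.Bijective (GrothLib.ExtBC.κ (A := A) P (I.X (p + n)) (E.X p)) := fun p => by
    obtain ⟨h1, h2⟩ := hE p
    exact bijective_κ_proj P (I.X (p + n)) (E.X p)
  have hdec : ∀ x : P ⊗[A] ((DRing.homCx E I).X n),
      x = ∑ p ∈ S, (ι p).baseChange P ((π p).baseChange P x) := fun x => by
    have : LinearMap.baseChange P (∑ p ∈ S, (ι p).comp (π p)) x = x := by
      rw [hιπ, LinearMap.baseChange_id, LinearMap.id_apply]
    rw [← LinearMap.baseChangeHom_apply, map_sum, LinearMap.sum_apply] at this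
    refine this.symm.trans (Finset.sum_congr rfl fun p _ => ?_)
    rw [LinearMap.baseChangeHom_apply, LinearMap.baseChange_comp, LinearMap.comp_apply]
  constructor
  · refine (injective_iff_map_eq_zero ((cmpM ρ E I).f n).hom).2 fun x hx => ?_
    rw [hdec x]
    refine Finset.sum_eq_zero fun p _ => ?_
    have : (π p).baseChange P x = 0 := (hκ p).1 (by
      rw [← key p x, map_zero]
      exact congrArg (ev p) (show L x = 0 from hx))
    rw [this, map_zero]
  · intro (w : Cochain E' I' n)
    choose t ht using fun p => (hκ p).2 (ev p w)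
    let x : P ⊗[A] ((DRing.homCx E I).X n) := ∑ p ∈ S, (ι p).baseChange P (t p)
    refine ⟨x, Cochain.ext _ _ fun p q h => ?_⟩
    obtain rfl := h
    by_cases hp : p ∈ S
    · refine ModuleCat.hom_ext ?_
      change ev p (L x) = ev p w
      rw [key, ← ht p, map_sum]
      refine congrArg _ ((Finset.sum_eq_single p ?_ fun h' => absurd hp h').trans ?_)
      · intro r _ hr
        rw [← LinearMap.comp_apply, ← LinearMap.baseChange_comp]
        have h0 : (π p).comp (ι r) = 0 := LinearMap.ext fun f => congrArg ModuleCat.Hom.hom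
          (Cochain.single_v_eq_zero (K := E) (L := I) (p := r) (q := r + n) (ModuleCat.ofHom f) n p (p + n) rfl hr.symm)
        rw [h0, LinearMap.baseChange_zero, LinearMap.zero_apply]
      · rw [← LinearMap.comp_apply, ← LinearMap.baseChange_comp]
        have h1 : (π p).comp (ι p) = LinearMap.id := LinearMap.ext fun f => congrArg ModuleCat.Hom.hom
          (Cochain.single_v (K := E) (L := I) (p := p) (q := p + n) (ModuleCat.ofHom f) n rfl)
        rw [h1, LinearMap.baseChange_id, LinearMap.id_apply]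
    · exact ((ModuleCat.extendScalars.{u, u, u} ρ).map_isZero (hout p (p + n) rfl hp)).eq_of_tgt _ _

end Comparison

variable [PreservesFiniteLimits (ModuleCat.extendScalars.{u, u, u} ρ)]

theorem exactAt_bc (C : DRing.Cx A) (p : ℤ) (h : C.ExactAt p) : ((DR.bc ρ).obj C).ExactAt p :=
  ShortComplex.Exact.map h (ModuleCat.extendScalars.{u, u, u} ρ)

theorem shortExact_bc {S : ShortComplex (DRing.Cx A)} (hS : S.ShortExact) : (S.map (DR.bc ρ)).ShortExact :=
  HomologicalComplex.shortExact_of_degreewise_shortExact _ fun i =>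
    (hS.map_of_exact (HomologicalComplex.eval (ModuleCat.{u} A) (ComplexShape.up ℤ) i)).map_of_exact
      (ModuleCat.extendScalars.{u, u, u} ρ)

/-- **Flat base change of the dual**: the comparison is a quasi-isomorphism. -/
theorem quasiIso_cmp [IsNoetherianRing A] {I : DRing.Cx A} {J : DRing.Cx P} (γ : (DR.bc ρ).obj I ⟶ J) [QuasiIso γ]
    [I.IsKInjective] [J.IsKInjective] (a b : ℤ) (hI : ∀ t, (t < a ∨ b < t) → IsZero (I.X t))
    (hIi : ∀ t, Injective (I.X t)) (b' : ℤ) (hJ : ∀ t, b' < t → IsZero (J.X t)) (hJi : ∀ t, Injective (J.X t))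
    (N : DRing.Cx A) (hN : ∀ i, Module.Finite A (Dual.HD A (DRing.toD N) i)) : QuasiIso (cmp ρ γ N) := by
  rw [quasiIso_iff]
  intro j
  rw [quasiIsoAt_iff_isIso_homologyMap]
  set m : ℤ := max b b' - j with hm
  let K := N
  have hS := K.shortComplexTruncLE_shortExact m
  have hC : ∀ p, p ≤ m → (K.shortComplexTruncLE m).X₃.ExactAt p := fun p hp => by
    let q := K.shortComplexTruncLEX₃ToTruncGE m (m + 1) rfl
    rw [exactAt_iff_isZero_homology]
    haveI : IsIso (homologyMap q p) := by rw [← quasiIsoAt_iff_isIso_homologyMap]; infer_instance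
    exact (isZero_homology_of_X ((K.truncGE (m + 1)).isZero_of_isStrictlyGE (m + 1) p (by omega))).of_iso
      (asIso (homologyMap q p))
  haveI := isIso_dual_window I b (fun t ht => hI t (Or.inr ht)) hIi hS m hC j (by omega)
  haveI := isIso_dual_window J b' hJ hJi (shortExact_bc ρ hS) m (fun p hp => exactAt_bc ρ _ p (hC p hp)) j (by omega)
  -- a resolution of the truncation
  have hfin : ∀ i, Module.FinitePresentation A (Dual.HD A (DRing.toD (K.truncLE m)) i) := fun i => by
    haveI := hN i
    haveI : Module.Finite A (Dual.HD A (DRing.toD (K.truncLE m)) i) := by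
      by_cases hi : i ≤ m
      · haveI hq : QuasiIsoAt (K.ιTruncLE m) i := K.quasiIsoAt_ιTruncLE m i hi
        let e₀ := @asIso _ _ _ _ _ ((quasiIsoAt_iff_isIso_homologyMap (K.ιTruncLE m) i).1 hq)
        exact @Module.Finite.equiv _ _ _ _ _ _ _ _ (hN i) (((DerivedCategory.homologyFunctorFactors (ModuleCat.{u} A) i).app _) ≪≫
          e₀ ≪≫ ((DerivedCategory.homologyFunctorFactors (ModuleCat.{u} A) i).app K).symm).toLinearEquiv.symm
      · haveI : Subsingleton (Dual.HD A (DRing.toD (K.truncLE m)) i) :=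
          (GrothLib.DR.subsingleton_iff_isZero _).2 ((isZero_homology_of_X
            ((K.truncLE m).isZero_of_isStrictlyLE m i (by omega))).of_iso
            ((DerivedCategory.homologyFunctorFactors (ModuleCat.{u} A) i).app (K.truncLE m)))
        exact Module.Finite.of_finite
    exact Module.finitePresentation_of_finite A _
  obtain ⟨E, c, hE, hEf, ⟨e⟩⟩ := (GrothLib.DR.isPseudoCoherent'_iff_of_coherent
    (fun J _ => Module.finitePresentation_of_finite A J) (DRing.toD (K.truncLE m))
    ⟨m, fun i hi => (GrothLib.DR.subsingleton_iff_isZero _).2 ((isZero_homology_of_X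
      ((K.truncLE m).isZero_of_isStrictlyLE m i hi)).of_iso
      ((DerivedCategory.homologyFunctorFactors (ModuleCat.{u} A) i).app (K.truncLE m)))⟩).2 hfin
  have hEp : DRing.TermwiseFiniteProjective E := fun i => by
    obtain ⟨h1, h2⟩ := hEf i
    haveI := h2
    exact ⟨h1, inferInstance⟩
  haveI : E.IsKProjective := GrothLib.DR.isKProjective E c hE (fun i => (hEp i).2)
  obtain ⟨g, hg⟩ := GrothLib.DR.exists_lift E e.hom
  haveI : QuasiIso g := (DerivedCategory.isIso_Q_map_iff_quasiIso (ModuleCat.{u} A) g).1 (by rw [hg]; infer_instance)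
  -- the comparison on the resolution
  haveI : ((DR.bc ρ).obj E).IsKProjective := GrothLib.DR.isKProjective _ c
    (fun i hi => (ModuleCat.extendScalars.{u, u, u} ρ).map_isZero (hE i hi)) fun i => by
      letI := ρ.toAlgebra
      haveI := (hEp i).2
      exact inferInstanceAs (Module.Projective P (P ⊗[A] E.X i))
  haveI := isIso_cmpM_bdd ρ E hEp a b hI (I := I)
  haveI : QuasiIso (DRing.homCxMap ((DR.bc ρ).obj E) γ) :=
    GrothLib.RH.quasiIso_homCxMap_of_isKProjective _ γ
  haveI : QuasiIso (cmp ρ γ E) := by rw [cmp]; infer_instance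
  haveI : QuasiIso ((DR.bc ρ).map (GrothLib.RH.homCxPre g I)) := by
    haveI := GrothLib.RH.quasiIso_homCxPre g I
    infer_instance
  haveI : QuasiIso ((DR.bc ρ).map g) := inferInstance
  haveI := GrothLib.RH.quasiIso_homCxPre ((DR.bc ρ).map g) J
  -- the square
  have hqT : QuasiIso (cmp ρ γ (K.truncLE m)) := by
    have := cmp_natural ρ γ g
    haveI : QuasiIso (cmp ρ γ (K.truncLE m) ≫ GrothLib.RH.homCxPre ((DR.bc ρ).map g) J) := by
      rw [← this]; infer_instance
    exact quasiIso_of_comp_right _ (GrothLib.RH.homCxPre ((DR.bc ρ).map g) J)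
  have h2 := congrArg (fun k => homologyMap k j) (cmp_natural ρ γ (K.shortComplexTruncLE m).f)
  simp only [homologyMap_comp] at h2
  haveI : IsIso (homologyMap (cmp ρ γ (K.shortComplexTruncLE m).X₁) j) := by
    haveI : QuasiIso (cmp ρ γ (K.shortComplexTruncLE m).X₁) := hqT
    rw [← quasiIsoAt_iff_isIso_homologyMap]; infer_instance
  haveI : IsIso (homologyMap ((DR.bc ρ).map (GrothLib.RH.homCxPre (K.shortComplexTruncLE m).f I)) j) := by
    rw [← quasiIsoAt_iff_isIso_homologyMap]
    haveI : QuasiIsoAt (GrothLib.RH.homCxPre (K.shortComplexTruncLE m).f I) j := by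
      rw [quasiIsoAt_iff_isIso_homologyMap]; infer_instance
    infer_instance
  haveI : IsIso (homologyMap (cmp ρ γ K) j ≫
      homologyMap (GrothLib.RH.homCxPre ((DR.bc ρ).map (K.shortComplexTruncLE m).f) J) j) := by
    rw [← show _ = homologyMap (cmp ρ γ K) j ≫ _ from h2]; infer_instance
  haveI : IsIso (homologyMap (GrothLib.RH.homCxPre ((DR.bc ρ).map (K.shortComplexTruncLE m).f) J) j) := ‹_›
  exact IsIso.of_isIso_comp_right (homologyMap (cmp ρ γ K) j)
    (homologyMap (GrothLib.RH.homCxPre ((DR.bc ρ).map (K.shortComplexTruncLE m).f) J) j)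

end GrothLib.RightAdj20.FlatDual
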