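import Groth.Agent.Lib.RightAdj20.HomResidue
import Groth.Agent.Lib.RightAdj20.DualHom
import Groth.Agent.Lib.RightAdj20.RatTrace
import Groth.Agent.Lib.SerrePn27.ToHH
import Groth.Agent.Lib.Nagata6.UnionData

/-! # Grauert–Riemenschneider vanishing for a modification of a normal surface germ -/

set_option autoImplicit false
set_option maxHeartbeats 1000000
set_option linter.style.haveILetI false
set_option backward.isDefEq.respectTransparency false
universe u

open CategoryTheory CategoryTheory.Limits AlgebraicGeometry CategoryTheory.Pretriangulated GrothLib.OX TopologicalSpace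

attribute [local instance] HasDerivedCategory.standard

noncomputable section

namespace GrothLib.RightAdj20

/-- Cohomology is a morphism group out of the structure sheaf. -/
theorem nonempty_hh_equiv_hom (A : Type u) [CommRing A] {X : Scheme.{u}} [X.Over (Spec (CommRingCat.of A))]
    (M : X.Modules) (n : ℕ) :
    Nonempty (Coh.HH X M n ≃ (DCoh.inD X (Coh.structureModule X) ⟶ (DCoh.inD X M)⟦(n : ℤ)⟧)) := by
  haveI : EnoughInjectives X.Modules := SheafCoh.enoughInjectives_sheafOfModules X.ringCatSheaf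
  haveI : HasExt.{u} X.Modules := hasExt_of_enoughInjectives X.Modules
  exact ⟨(Equiv.ofBijective _ (SerrePn27.bijective_toHH (k := A) n M)).symm.trans Abelian.Ext.homEquiv⟩

variable (A : Type u) [CommRing A] [IsDomain A] [IsLocalRing A] [IsNoetherianRing A] [IsIntegrallyClosed A]
  (hdim : ringKrullDim A = 2) {X : Scheme.{u}} (f : X ⟶ Spec (CommRingCat.of A)) [IsProper f] [IsIntegral X]
  (hXn : Pi1.IsNormalScheme X)
  (hbir : ∃ U : (Spec (CommRingCat.of A)).Opens, (U : Set (Spec (CommRingCat.of A))).Nonempty ∧ IsIso (f ∣_ U))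
  [DCoh.HasRpush f] (hf : DCoh.RpushPreservesQCoh f) [DCoh.HasShriek f hf]
  {ωA : Type u} [AddCommGroup ωA] [Module A ωA] (hω : Dual.IsDualizing A (Dual.inD A ωA))
  (W : DCoh.DQCoh (Spec (CommRingCat.of A)))
  (e : W.obj ≅ (DCoh.tildeD (CommRingCat.of A)).obj (Dual.inD A ωA))

include hdim hXn hbir hω e

/-- The pulled back dualizing complex of a modification is a sheaf. -/
theorem isZero_HD_shriek {i : ℤ} (hi : i ≠ 0) : IsZero (DCoh.HD ((DCoh.shriek f hf).obj W).obj i) := by
  haveI : IsLocallyNoetherian X := LocallyOfFiniteType.isLocallyNoetherian f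
  haveI : QuasiCompact f := inferInstance
  haveI : CompactSpace X := QuasiCompact.compactSpace_of_compactSpace f
  have hK := isDualizingSch_spec A _ hω e
  have hW : ∀ j : ℤ, j ≠ 0 → IsZero (DCoh.HD W.obj j) := fun j hj => by
    haveI := DR.subsingleton_HD_inD (A := A) ωA j hj
    exact ((tilde.functor (CommRingCat.of A)).map_isZero ((DR.subsingleton_iff_isZero _).1 this)).of_iso
      ((DerivedCategory.homologyFunctor _ j).mapIso e ≪≫ HDTildeIso _ j)
  have hdA : topologicalKrullDim (Spec (CommRingCat.of A)) ≤ 2 :=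
    ((PrimeSpectrum.topologicalKrullDim_eq_ringKrullDim A).trans hdim).le
  obtain ⟨U, hU, hiso⟩ := hbir
  haveI := hiso
  have hcmX : ∀ x : X, LocCoh.IsCohenMacaulayLocalRing _ :=
    fun x => Groth.Agent.S9801.result X hXn (RatSing29.dim_le_of_birational f U hU hiso hdA) x
  obtain ⟨c, hc⟩ := exists_degree
    (ShriekBridge22.isDualizingSch_adjoint f hf (DCoh.shriekAdj f hf) W hK) hcmX
  by_cases hc0 : c = 0
  · exact hc i (hc0 ▸ hi)
  exfalso
  -- over an affine open where `f` is invertible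
  obtain ⟨v, hv⟩ := hU
  obtain ⟨V, hV, hvV, hle⟩ := exists_isAffineOpen_mem_and_subset (x := v) (U := U) hv
  haveI := Nagata6.isIso_restrict_of_le f U V hle
  haveI : CompactSpace V.toScheme := isCompact_iff_compactSpace.1 hV.isCompact
  haveI : QuasiCompact V.ι := quasiCompact_of_compactSpace V.ι
  haveI : W.obj.IsGE 0 := (DerivedCategory.isGE_iff _ _).2 fun j hj => hW j hj.ne
  let adj := DCoh.shriekAdj f hf
  have hsa := HomBC22.isIso_resD_map_locUnit_of_isGE (f := f) (hf := hf) V adj W 0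
  have hO : DCoh.IsQCohD (DCoh.inD X (Coh.structureModule X)) := isQCohD_of_isPerfect (isPerfect_unit X)
  let M : DCoh.DQCoh X := ⟨_, hO⟩
  have hbij := HomBC22.bijective_transp_counit_of_isIso V adj W hsa M
  let j := (f ⁻¹ᵁ V).ι
  let g := f ∣_ V
  haveI : IsAffine V.toScheme := hV
  haveI : IsAffine (f ⁻¹ᵁ V).toScheme := IsAffine.of_isIso g
  obtain ⟨r₁⟩ := BCPerf20.nonempty_resD_inD j (Coh.structureModule X)
  obtain ⟨r₂⟩ := BCPerf20.nonempty_resD_inD g (Coh.structureModule V.toScheme)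
  let eO : (resD j).obj M.obj ≅ (resD g).obj (DCoh.inD V.toScheme (Coh.structureModule V.toScheme)) :=
    r₁ ≪≫ (DerivedCategory.singleFunctor _ 0).mapIso (OX.pullUnitIso j ≪≫ (OX.pullUnitIso g).symm) ≪≫ r₂.symm
  -- no maps upstairs
  haveI hsrc : Subsingleton ((resD j).obj M.obj ⟶ (resD j).obj ((DCoh.shriek f hf).obj W).obj) := by
    have hE : DCoh.IsQCohD ((resD j).obj ((DCoh.shriek f hf).obj W).obj) :=
      isQCohD_resD j ((DCoh.shriek f hf).obj W).property
    have hz : IsZero (DCoh.HD ((resD j).obj ((DCoh.shriek f hf).obj W).obj) 0) :=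
      ((Scheme.Modules.restrictFunctor j).map_isZero (hc 0 (Ne.symm hc0))).of_iso (HDResIso j _ 0)
    haveI : Subsingleton ((DerivedCategory.singleFunctor _ 0).obj ((genF (f ⁻¹ᵁ V).toScheme).obj ⊤) ⟶
        (resD j).obj ((DCoh.shriek f hf).obj W).obj) :=
      ⟨fun a b => (theta_bijective (isAffineOpen_top _) hE 0).1 (hz.eq_of_tgt _ _)⟩
    exact ((r₁ ≪≫ (DerivedCategory.singleFunctor _ 0).mapIso
      (OX.pullUnitIso j ≪≫ (genTopIso (f ⁻¹ᵁ V).toScheme).symm)).homFromEquiv
        (Z := (resD j).obj ((DCoh.shriek f hf).obj W).obj)).subsingleton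
  -- no maps downstairs
  haveI := isIso_resDAdj_unit_of_surjective g g.homeomorph.surjective
    (DCoh.inD V.toScheme (Coh.structureModule V.toScheme))
  let eV : (resD V.ι).obj ((DCoh.RpushQ f hf).obj M).obj ≅ DCoh.inD V.toScheme (Coh.structureModule V.toScheme) :=
    (HomBC22.betaR f V).app M.obj ≪≫ (RR g).mapIso eO ≪≫
      (asIso ((resDAdj g).unit.app (DCoh.inD V.toScheme (Coh.structureModule V.toScheme)))).symm
  haveI : Subsingleton ((resD V.ι).obj ((DCoh.RpushQ f hf).obj M).obj ⟶ (resD V.ι).obj W.obj) :=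
    hbij.2.subsingleton
  haveI : Subsingleton (DCoh.inD V.toScheme (Coh.structureModule V.toScheme) ⟶ (resD V.ι).obj W.obj) :=
    (eV.homFromEquiv (Z := (resD V.ι).obj W.obj)).symm.subsingleton
  have hzero : IsZero ((resD hV.fromSpec).obj W.obj) := by
    let q := hV.isoSpec.inv
    haveI := isIso_resDAdj_unit_of_surjective q q.homeomorph.surjective ((resD V.ι).obj W.obj)
    have hq := HomBC22.restrBij_of_isIso_unit q ((resD V.ι).obj W.obj) this
    have hqV : q ≫ V.ι = hV.fromSpec := by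
      rw [Iso.inv_comp_eq, hV.isoSpec_hom_fromSpec]
    refine KSix19.ProjPush.isZero_of_hom_structure (isQCohD_resD hV.fromSpec W.property) fun m φ => ?_
    by_cases hm : m = 0
    · subst hm
      obtain ⟨r⟩ := BCPerf20.nonempty_resD_inD q (Coh.structureModule V.toScheme)
      let u : (resD q).obj (DCoh.inD V.toScheme (Coh.structureModule V.toScheme)) ≅
          DCoh.inD (Spec Γ(Spec (CommRingCat.of A), V)) (Coh.structureModule _) :=
        r ≪≫ (DerivedCategory.singleFunctor _ 0).mapIso (OX.pullUnitIso q)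
      let w : (resD q).obj ((resD V.ι).obj W.obj) ≅ (resD hV.fromSpec).obj W.obj :=
        (resDCompIso q V.ι).app W.obj ≪≫ eqToIso (by subst_vars; congr!)
      haveI : Subsingleton ((resD q).obj (DCoh.inD V.toScheme (Coh.structureModule V.toScheme)) ⟶
          (resD q).obj ((resD V.ι).obj W.obj)) :=
        (hq _ (isQCohD_of_isPerfect (isPerfect_unit V.toScheme))).2.subsingleton
      haveI := (u.homCongr w).symm.subsingleton
      exact Subsingleton.elim (α := DCoh.inD (Spec Γ(Spec (CommRingCat.of A), V)) (Coh.structureModule _) ⟶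
        (resD hV.fromSpec).obj W.obj) φ 0
    · have hz : IsZero (DCoh.HD ((resD hV.fromSpec).obj W.obj) m) :=
        ((Scheme.Modules.restrictFunctor hV.fromSpec).map_isZero (hW m hm)).of_iso (HDResIso hV.fromSpec _ m)
      rw [← cancel_epi ((DerivedCategory.singleFunctor _ m).map (genTopIso (Spec Γ(Spec (CommRingCat.of A), V))).hom), comp_zero]
      exact (theta_bijective (isAffineOpen_top _) (isQCohD_resD hV.fromSpec W.property) m).1 (hz.eq_of_tgt _ _)
  obtain ⟨k, hk, -⟩ := ((DualRing.isCM_stalk_iff_and_isOpen hK).1 v).1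
    (Groth.Agent.S9801.result _ (isNormalScheme_spec A) hdA v)
  exact (isZero_resD_iff_support hV.fromSpec W.obj).1 hzero k
    (show v ∈ CohB1.support (DCoh.HD W.obj k) from not_subsingleton_iff_nontrivial.2 hk) (OX.mem_range_fromSpec hV hvV)

/-- **Grauert–Riemenschneider vanishing.** -/
theorem subsingleton_H1_shriek :
    Subsingleton (Coh.HH X (DCoh.HD ((DCoh.shriek f hf).obj W).obj 0) 1) := by
  letI : X.Over (Spec (CommRingCat.of A)) := ⟨f⟩
  haveI : IsLocallyNoetherian X := LocallyOfFiniteType.isLocallyNoetherian f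
  obtain ⟨hnp, hgen⟩ := Polar.noPolar_of_birational hdim f hXn hbir
  haveI hres := Polar.subsingleton_hom_residue hnp hgen
  let T := DCoh.tildeD (CommRingCat.of A)
  let O := DCoh.inD X (Coh.structureModule X)
  let aW := ((DCoh.shriek f hf).obj W).obj
  haveI : aW.IsGE 0 :=
    (DerivedCategory.isGE_iff _ _).2 fun i hi => isZero_HD_shriek A hdim f hXn hbir hf hω W e hi.ne
  haveI : aW.IsLE 0 :=
    (DerivedCategory.isLE_iff _ _).2 fun i hi => isZero_HD_shriek A hdim f hXn hbir hf hω W e hi.ne'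
  obtain ⟨eA⟩ := DerTrunc.nonempty_iso_single aW 0
  let N := DCoh.HD aW 0
  haveI : N.IsQuasicoherent := ((DCoh.shriek f hf).obj W).property 0
  have hO : DCoh.IsQCohD O := isQCohD_of_isPerfect (isPerfect_unit X)
  -- the direct image as a complex of modules
  obtain ⟨hfull, hfaith, hess⟩ := tildeD_full_faithful_essImage (R := CommRingCat.of A)
  haveI := hfull
  haveI := hfaith
  obtain ⟨M, ⟨eM⟩⟩ := hess _ (hf O hO)
  have hMfin : ∀ j, Module.Finite A (Dual.HD A M j) := fun j =>
    (isCoh_tilde_iff _).1 (QCoh.isCoh_of_iso ((DerivedCategory.homologyFunctor _ j).mapIso eM.symm ≪≫ HDTildeIso M j)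
      ((HomBC22.isCohD_Rpush_perfect f (isPerfect_unit X)).1 j))
  let P : DRing.Cx A := DerivedCategory.Q.objPreimage M
  let eP : DRing.toD P ≅ M := DerivedCategory.Q.objObjPreimageIso M
  have hPfin : ∀ j, Module.Finite A (Dual.HD A (DRing.toD P) j) := fun j =>
    haveI := hMfin j
    Module.Finite.equiv ((DerivedCategory.homologyFunctor (ModuleCat.{u} A) j).mapIso eP.symm).toLinearEquiv
  -- duality
  have key : ∀ n : ℕ, Nonempty ((DRing.toD P ⟶ (Dual.inD A ωA)⟦(n : ℤ)⟧) ≃ Coh.HH X N n) := fun n => by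
    obtain ⟨eH⟩ := nonempty_hh_equiv_hom A N n
    let n' : ℤ := (n : ℤ)
    let sY := (shiftEquiv' (DCoh.D (Spec (CommRingCat.of A))) (-n') n' (by omega)).toAdjunction
    let sX := (shiftEquiv' (DCoh.D X) (-n') n' (by omega)).toAdjunction
    let e1 : (DRing.toD P ⟶ (Dual.inD A ωA)⟦n'⟧) ≃ (T.obj (DRing.toD P) ⟶ T.obj ((Dual.inD A ωA)⟦n'⟧)) :=
      Functor.FullyFaithful.homEquiv (Functor.FullyFaithful.ofFullyFaithful T)
    let e2 : (T.obj (DRing.toD P) ⟶ T.obj ((Dual.inD A ωA)⟦n'⟧)) ≃ ((RR f).obj O ⟶ W.obj⟦n'⟧) :=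
      (T.mapIso eP ≪≫ eM ≪≫ (rpushIsoRres f).app O).homCongr
        ((T.commShiftIso n').app _ ≪≫ (shiftFunctor _ n').mapIso e.symm)
    let e3 : ((RR f).obj O ⟶ W.obj⟦n'⟧) ≃ ((RR f).obj (O⟦-n'⟧) ⟶ W.obj) :=
      (sY.homEquiv ((RR f).obj O) W.obj).symm.trans
        ((((RR f).commShiftIso (-n')).app O).symm.homCongr (Iso.refl W.obj))
    let e4 : (O⟦-n'⟧ ⟶ aW) ≃ ((RR f).obj (O⟦-n'⟧) ⟶ W.obj) :=
      Equiv.ofBijective _ (bijective_map_trR f hf (DCoh.shriekAdj f hf) _ (isQCohD_shift hO (-n')) W)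
    let e5 : (O⟦-n'⟧ ⟶ aW) ≃ (O ⟶ (DCoh.inD X N)⟦n'⟧) :=
      (sX.homEquiv O aW).trans ((Iso.refl O).homCongr ((shiftFunctor _ n').mapIso eA))
    exact ⟨(((e1.trans e2).trans e3).trans e4.symm).trans (e5.trans eH.symm)⟩
  obtain ⟨r⟩ := DualCx22.nonempty_injRep hω
  haveI : DerivedCategory.IsLE (DRing.toD (r.dual P)) 1 := (DerivedCategory.isLE_iff _ _).2 fun i hi => by
    obtain ⟨n, rfl⟩ := Int.eq_ofNat_of_zero_le (show 0 ≤ i by omega)
    obtain ⟨k⟩ := key n
    obtain ⟨l⟩ := r.nonempty_HD_dual P (n : ℤ)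
    haveI := RatSing29.subsingleton_HH_two_le f hdim hbir N n (by omega)
    haveI := k.subsingleton
    exact (DR.subsingleton_iff_isZero _).1 l.toEquiv.subsingleton
  obtain ⟨k⟩ := key 1
  obtain ⟨l⟩ := r.nonempty_HD_dual P ((1 : ℕ) : ℤ)
  haveI : Subsingleton (Dual.HD A (DRing.toD (r.dual P)) ((1 : ℕ) : ℤ)) := by
    refine subsingleton_HD_dual_top hω r P hPfin 1 (-1) ?_ ?_
    · rw [deg_maximal_of_module 2 hdim hω]; norm_num
    · let κ := Dual.inD A (IsLocalRing.ResidueField A)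
      let ePM : T.obj (DRing.toD P) ≅ (DCoh.Rpush f).obj O := T.mapIso eP ≪≫ eM
      haveI : Subsingleton (T.obj (κ⟦(-1 : ℤ)⟧) ⟶ T.obj (DRing.toD P)) :=
        @Equiv.subsingleton _ _ (((T.commShiftIso (-1 : ℤ)).app κ).homCongr ePM) hres
      exact (T.map_injective (X := κ⟦(-1 : ℤ)⟧) (Y := DRing.toD P)).subsingleton
  haveI : Subsingleton (DRing.toD P ⟶ (Dual.inD A ωA)⟦((1 : ℕ) : ℤ)⟧) := l.symm.toEquiv.subsingleton
  exact k.symm.subsingleton

end GrothLib.RightAdj20
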