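import Groth.Agent.Lib.RightAdj20.PolarLift
import Groth.Agent.Lib.ThickDesc6.Pull
import Groth.Agent.Lib.SubCurve16.Core
import Groth.Agent.Lib.CurveMult.TwistHom
import Groth.Agent.Lib.OX.Support
import Groth.Agent.Lib.OX.AffineLocal
import Groth.Agent.Lib.OX.Adjunction
import Groth.Agent.Lib.OX.Lpull
import Groth.Agent.Lib.DualRing.SchemeLocus
import Groth.Agent.Lib.DerCat.Truncation
import Groth.Agent.Lib.DerCat.MapHomology

/-! # No maps from the residue field in degree one to the direct image of the structure sheaf -/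

set_option autoImplicit false
set_option maxHeartbeats 1000000
set_option linter.style.haveILetI false
set_option backward.isDefEq.respectTransparency false
universe u

open CategoryTheory CategoryTheory.Limits AlgebraicGeometry TopologicalSpace IsLocalRing Opposite GrothLib.QCoh
attribute [local instance] HasDerivedCategory.standard

noncomputable section

namespace GrothLib.RightAdj20.Polar

variable {X : Scheme.{u}} [IsIntegral X] {A : Type u} [CommRing A] [IsLocalRing A]
variable {f : X ⟶ Spec (CommRingCat.of A)}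

/-- A morphism into the structure sheaf vanishing at the generic point vanishes. -/
theorem eq_zero_of_generic {M : X.Modules} (r : M ⟶ Coh.structureModule X)
    (h : ∀ v, stalkLin r (genericPoint X) v = 0) : r = 0 := by
  have h1 : ∀ (x : X) (v : M.presheaf.stalk x), stalkLin r x v = 0 := fun x v => by
    obtain ⟨a, ha⟩ := (HomSh.unitStalk x).surjective (stalkLin r x v)
    have h2 : Ref1.sp (Coh.structureModule X) (genericPoint_specializes x) (stalkLin r x v) = 0 :=
      (Ref1.stalkMapₗ_sp _ (φ := r) (h := genericPoint_specializes x) v).symm.trans (h _)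
    rw [← ha, Ref1.sp_unitStalk, ← map_zero (HomSh.unitStalk (genericPoint X))] at h2
    have h3 := (HomSh.unitStalk (genericPoint X)).injective h2
    have h4 : ι x a = 0 := by rw [← ι_spR (genericPoint_specializes x) a, h3, map_zero]
    rw [← ha, (ι_injective x) (h4.trans (map_zero _).symm), map_zero]
  refine Scheme.Modules.hom_ext _ _ fun U => ?_
  ext t
  refine TopCat.Presheaf.section_ext ⟨(Coh.structureModule X).presheaf, (Coh.structureModule X).isSheaf⟩ U _ _
    fun x hx => ?_
  have h5 := h1 x (M.presheaf.germ U x hx t)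
  rw [stalkLin_germ] at h5
  exact h5.trans (map_zero _).symm

/-- Sheaves supported in the closed fibre have no maps to the structure sheaf. -/
theorem hom_eq_zero (hgen : f.base (genericPoint X) ≠ closedPoint A) {M : X.Modules}
    (hM : ∀ x, f.base x ≠ closedPoint A → Subsingleton (M.presheaf.stalk x)) (r : M ⟶ Coh.structureModule X) :
    r = 0 :=
  eq_zero_of_generic r fun v => by
    haveI := hM _ hgen
    rw [Subsingleton.elim v 0, map_zero]

/-- Quotients of the structure sheaf supported in the closed fibre have no extensions by it. -/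
theorem subsingleton_ext_one (hnp : NoPolar f) (hgen : f.base (genericPoint X) ≠ closedPoint A)
    {Q : X.Modules} (p : Coh.structureModule X ⟶ Q) [Epi p]
    (hQ : ∀ x, f.base x ≠ closedPoint A → Subsingleton (Q.presheaf.stalk x))
    [HasExt.{u + 1} X.Modules] : Subsingleton (Abelian.Ext.{u + 1} Q (Coh.structureModule X) 1) := by
  haveI : EnoughInjectives X.Modules := SheafCoh.enoughInjectives_sheafOfModules X.ringCatSheaf
  refine subsingleton_of_forall_eq 0 fun e => ?_
  let j := Injective.ι (Coh.structureModule X)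
  let S : ShortComplex X.Modules := ShortComplex.mk j (cokernel.π j) (cokernel.condition j)
  have hS : S.ShortExact :=
    { exact := ShortComplex.exact_of_g_is_cokernel _ (cokernelIsCokernel j)
      mono_f := inferInstanceAs (Mono j)
      epi_g := inferInstanceAs (Epi (cokernel.π j)) }
  obtain ⟨y, hy⟩ := Abelian.Ext.covariant_sequence_exact₁ Q hS e
    (Abelian.Ext.eq_zero_of_injective _) (by rfl : (0 : ℕ) + 1 = 1)
  obtain ⟨ψ, rfl⟩ := (Abelian.Ext.mk₀_bijective Q S.X₃).2 y
  haveI := hS.epi_g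
  haveI := hS.mono_f
  -- the pulled back extension
  let ι' : S.X₁ ⟶ pullback S.g ψ := pullback.lift S.f 0 (by rw [S.zero, zero_comp])
  have hι1 : ι' ≫ pullback.fst S.g ψ = S.f := pullback.lift_fst _ _ _
  have hι2 : ι' ≫ pullback.snd S.g ψ = 0 := pullback.lift_snd _ _ _
  haveI : Mono ι' := mono_of_mono_fac hι1
  let T : ShortComplex X.Modules := ShortComplex.mk ι' (pullback.snd S.g ψ) hι2
  have hT : T.ShortExact := by
    refine { exact := ShortComplex.exact_of_f_is_kernel _ ?_, mono_f := ‹_›, epi_g := ?_ }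
    · refine KernelFork.IsLimit.ofι' _ _ fun {W} k hk => ?_
      have h0 : (k ≫ pullback.fst S.g ψ) ≫ S.g = 0 := by
        rw [Category.assoc, pullback.condition, ← Category.assoc]
        exact (congrArg (· ≫ ψ) hk).trans zero_comp
      refine ⟨hS.exact.lift _ h0, pullback.hom_ext ?_ ?_⟩
      · show (hS.exact.lift _ h0 ≫ ι') ≫ pullback.fst S.g ψ = k ≫ pullback.fst S.g ψ
        rw [Category.assoc, hι1]
        exact hS.exact.lift_f _ h0
      · show (hS.exact.lift _ h0 ≫ ι') ≫ pullback.snd S.g ψ = k ≫ pullback.snd S.g ψ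
        rw [Category.assoc, hι2, comp_zero]
        exact hk.symm
    · show Epi (pullback.snd S.g ψ)
      infer_instance
  obtain ⟨g, hg, hg0⟩ := exists_torsion_lift hnp hgen hT (Iso.refl _) hQ (p.app ⊤ (FinCov.one X ⊤))
  let γ := FinCov.homOfSection g
  have hγ : γ ≫ T.g = p := by
    refine CurveMult.hom_ext_one _ _ ?_
    refine ((congrArg (T.g.app ⊤) ((FinCov.homOfSection_one g ⊤).trans (LefEt7.presheaf_map_self _ _ _))).trans hg)
  have hk : (kernel.ι p ≫ γ) ≫ T.g = 0 := by rw [Category.assoc, hγ, kernel.condition]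
  haveI := hT.mono_f
  let r := hT.exact.lift _ hk
  have hr : r ≫ T.f = kernel.ι p ≫ γ := hT.exact.lift_f _ hk
  have hr0 : r = 0 := eq_zero_of_generic r fun v => by
    refine stalkLin_injective T.f _ ?_
    rw [map_zero, ← stalkLin_comp, hr, stalkLin_comp]
    exact SubCurve16.stalkLin_homOfSection_eq_zero hg0 _
  have hk0 : kernel.ι p ≫ γ = 0 := by rw [← hr, hr0, zero_comp]
  let s := (Abelian.epiIsCokernelOfKernel _ (kernelIsKernel p)).desc (CokernelCofork.ofπ γ hk0)
  have hs : p ≫ s = γ := (Abelian.epiIsCokernelOfKernel _ (kernelIsKernel p)).fac (CokernelCofork.ofπ γ hk0)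
    WalkingParallelPair.one
  have hlift : (s ≫ pullback.fst S.g ψ) ≫ S.g = ψ := by
    rw [Category.assoc, pullback.condition, ← cancel_epi p, reassoc_of% hs]
    exact (Category.assoc _ _ _).symm.trans (congrArg (· ≫ ψ) hγ)
  rw [← hy, ← hlift, ← Abelian.Ext.mk₀_comp_mk₀, Abelian.Ext.comp_assoc_of_second_deg_zero, hS.comp_extClass,
    Abelian.Ext.comp_zero]

/-- Derived maps to the structure sheaf vanish from complexes supported in the closed fibre whose top cohomology
is a quotient of the structure sheaf. -/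
theorem subsingleton_hom (hnp : NoPolar f) (hgen : f.base (genericPoint X) ≠ closedPoint A)
    (L : DCoh.D X) [L.IsLE 1] (p : Coh.structureModule X ⟶ DCoh.HD L 1) [Epi p]
    (hsupp : ∀ (i : ℤ) (x : X), f.base x ≠ closedPoint A → Subsingleton ((DCoh.HD L i).presheaf.stalk x)) :
    Subsingleton (L ⟶ DCoh.inD X (Coh.structureModule X)) := by
  refine subsingleton_of_forall_eq 0 fun φ => ?_
  let O := DCoh.inD X (Coh.structureModule X)
  haveI : O.IsGE 0 := inferInstanceAs ((((DerivedCategory.singleFunctor X.Modules 0).obj _) : DCoh.D X).IsGE 0)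
  -- below degree zero
  haveI hX' : ((DerivedCategory.TStructure.t.truncLT 0).obj L).IsLE (-1) :=
    inferInstanceAs (DerivedCategory.TStructure.t.IsLE ((DerivedCategory.TStructure.t.truncLT 0).obj L) ((0 : ℤ) - 1))
  have h1 : (DerivedCategory.TStructure.t.truncLTι 0).app L ≫ φ = 0 :=
    DerivedCategory.TStructure.t.zero _ (-1) 0 (by omega)
  obtain ⟨φ', rfl⟩ := Pretriangulated.Triangle.yoneda_exact₂ _
    (DerivedCategory.TStructure.t.triangleLTGE_distinguished 0 L) φ h1
  set Y := (DerivedCategory.TStructure.t.truncGE 0).obj L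
  haveI hY0 : Y.IsGE 0 :=
    inferInstanceAs (DerivedCategory.TStructure.t.IsGE ((DerivedCategory.TStructure.t.truncGE 0).obj L) 0)
  have eY : ∀ i : ℤ, 0 ≤ i → Nonempty (DCoh.HD L i ≅ DCoh.HD Y i) := fun i hi =>
    haveI := DerTrunc.isIso_homology_truncGEπ L 0 i hi
    ⟨asIso ((DerivedCategory.homologyFunctor X.Modules i).map ((DerivedCategory.TStructure.t.truncGEπ 0).app L))⟩
  have hY1 : ∀ i : ℤ, 1 < i → IsZero (DCoh.HD Y i) := fun i hi =>
    (DerivedCategory.isZero_of_isLE L 1 i hi).of_iso (eY i (by omega)).some.symm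
  suffices φ' = 0 by rw [this, comp_zero]
  -- degree zero
  set Z₀ := (DerivedCategory.TStructure.t.truncLT 1).obj Y
  have e₀ : ∀ i : ℤ, i < 1 → Nonempty (DCoh.HD Z₀ i ≅ DCoh.HD Y i) := fun i hi =>
    haveI := DerTrunc.isIso_homology_truncLTι Y 1 i hi
    ⟨asIso ((DerivedCategory.homologyFunctor X.Modules i).map ((DerivedCategory.TStructure.t.truncLTι 1).app Y))⟩
  haveI : Z₀.IsLE 0 :=
    inferInstanceAs (DerivedCategory.TStructure.t.IsLE ((DerivedCategory.TStructure.t.truncLT 1).obj Y) ((1 : ℤ) - 1))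
  haveI : Z₀.IsGE 0 := (DerivedCategory.isGE_iff _ 0).2 fun i hi =>
    (DerivedCategory.isZero_of_isGE Y 0 i hi).of_iso (e₀ i (by omega)).some
  obtain ⟨u₀⟩ := DerTrunc.nonempty_iso_single Z₀ 0
  have h2 : (DerivedCategory.TStructure.t.truncLTι 1).app Y ≫ φ' = 0 := by
    rw [← cancel_epi u₀.inv, comp_zero]
    obtain ⟨q, hq⟩ := (DerivedCategory.singleFunctor X.Modules 0).map_surjective
      (u₀.inv ≫ (DerivedCategory.TStructure.t.truncLTι 1).app Y ≫ φ')
    have hq0 : q = 0 := hom_eq_zero hgen (fun x hx => by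
      exact @Equiv.subsingleton _ _
        ((OX.stalk x).mapIso ((eY 0 le_rfl).some ≪≫ (e₀ 0 one_pos).some.symm)).toLinearEquiv.symm.toEquiv (hsupp 0 x hx)) q
    rw [← hq, hq0, Functor.map_zero]
  obtain ⟨φ'', rfl⟩ := Pretriangulated.Triangle.yoneda_exact₂ _
    (DerivedCategory.TStructure.t.triangleLTGE_distinguished 1 Y) φ' h2
  suffices φ'' = 0 by rw [this, comp_zero]
  -- degree one
  set Z₁ := (DerivedCategory.TStructure.t.truncGE 1).obj Y
  have e₁ : ∀ i : ℤ, 1 ≤ i → Nonempty (DCoh.HD Y i ≅ DCoh.HD Z₁ i) := fun i hi =>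
    haveI := DerTrunc.isIso_homology_truncGEπ Y 1 i hi
    ⟨asIso ((DerivedCategory.homologyFunctor X.Modules i).map ((DerivedCategory.TStructure.t.truncGEπ 1).app Y))⟩
  haveI : Z₁.IsGE 1 :=
    inferInstanceAs (DerivedCategory.TStructure.t.IsGE ((DerivedCategory.TStructure.t.truncGE 1).obj Y) 1)
  haveI : Z₁.IsLE 1 := (DerivedCategory.isLE_iff _ 1).2 fun i hi =>
    (hY1 i hi).of_iso (e₁ i (by omega)).some.symm
  obtain ⟨u₁⟩ := DerTrunc.nonempty_iso_single Z₁ 1
  let eQ : DCoh.HD L 1 ≅ DCoh.HD Z₁ 1 := (eY 1 zero_le_one).some ≪≫ (e₁ 1 le_rfl).some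
  haveI : HasExt.{u + 1} X.Modules := HasExt.standard X.Modules
  have hQ : ∀ x, f.base x ≠ closedPoint A → Subsingleton ((DCoh.HD Z₁ 1).presheaf.stalk x) := fun x hx => by
    exact @Equiv.subsingleton _ _ ((OX.stalk x).mapIso eQ).toLinearEquiv.symm.toEquiv (hsupp 1 x hx)
  haveI := subsingleton_ext_one hnp hgen (p ≫ eQ.hom) hQ
  have h3 : Subsingleton ((DerivedCategory.singleFunctor X.Modules 0).obj (DCoh.HD Z₁ 1) ⟶ O⟦((1 : ℕ) : ℤ)⟧) :=
    (Abelian.Ext.homEquiv (X := DCoh.HD Z₁ 1) (Y := Coh.structureModule X) (n := 1)).symm.subsingleton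
  let a : ((DerivedCategory.singleFunctor X.Modules 1).obj (DCoh.HD Z₁ 1))⟦(1 : ℤ)⟧ ≅
      (DerivedCategory.singleFunctor X.Modules 0).obj (DCoh.HD Z₁ 1) :=
    ((DerivedCategory.singleFunctors X.Modules).shiftIso (1 : ℤ) 0 1 (by norm_num)).app (DCoh.HD Z₁ 1)
  have h4 : Subsingleton (((DerivedCategory.singleFunctor X.Modules 1).obj (DCoh.HD Z₁ 1))⟦(1 : ℤ)⟧ ⟶ O⟦(1 : ℤ)⟧) :=
    @Equiv.subsingleton _ _ (a.homCongr (Iso.refl (O⟦(1 : ℤ)⟧))) h3
  haveI : Subsingleton ((DerivedCategory.singleFunctor X.Modules 1).obj (DCoh.HD Z₁ 1) ⟶ O) :=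
    @Function.Injective.subsingleton _ _ _ (shiftFunctor (DCoh.D X) (1 : ℤ)).map_injective h4
  rw [← cancel_epi u₁.inv]
  exact Subsingleton.elim _ _

/-- **No maps from a skyscraper quotient in degree one into the direct image of the structure sheaf.** -/
theorem subsingleton_hom_rpush (hnp : NoPolar f) (hgen : f.base (genericPoint X) ≠ closedPoint A)
    [DCoh.HasRpush f] (T : (Spec (CommRingCat.of A)).Modules)
    (p : Coh.structureModule (Spec (CommRingCat.of A)) ⟶ T) [Epi p]
    (hT : ∀ y, y ≠ closedPoint A → Subsingleton (T.presheaf.stalk y))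
    (hcl : IsClosed ({closedPoint A} : Set (Spec (CommRingCat.of A)))) :
    Subsingleton ((DerivedCategory.singleFunctor _ 1).obj T ⟶
      (DCoh.Rpush f).obj (DCoh.inD X (Coh.structureModule X))) := by
  haveI := OX.hasLpull f
  obtain ⟨adj⟩ := OX.nonempty_lpullAdj f
  let K : DCoh.D (Spec (CommRingCat.of A)) := (DerivedCategory.singleFunctor _ 1).obj T
  haveI : K.IsLE 1 := inferInstanceAs (((DerivedCategory.singleFunctor _ 1).obj T).IsLE 1)
  haveI := ThickDesc6.isLE_lpull f (K := K) (b := 1) inferInstance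
  obtain ⟨e⟩ := ThickDesc6.nonempty_hd_lpull_top f K 1 inferInstance
  let e' : DCoh.HD ((DCoh.Lpull f).obj K) 1 ≅ (Scheme.Modules.pullback f).obj T :=
    e ≪≫ (Scheme.Modules.pullback f).mapIso ((DerivedCategory.singleFunctorCompHomologyFunctorIso _ 1).app T)
  haveI := (Scheme.Modules.pullbackPushforwardAdjunction f).isLeftAdjoint
  haveI : Epi ((Scheme.Modules.pullback f).map p) := inferInstance
  let V : (Spec (CommRingCat.of A)).Opens := ⟨{closedPoint A}ᶜ, hcl.isOpen_compl⟩
  haveI := OX.hasLpull (f ∣_ V)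
  obtain ⟨w⟩ := ThickDesc6.nonempty_resD_lpull f V K
  have hK : IsZero ((OX.resD V.ι).obj K) :=
    ((DerivedCategory.singleFunctor _ 1).map_isZero (OX.isZero_restrict_of_support V.ι fun y => not_not.2
      (hT _ (show V.ι y ≠ closedPoint A from y.2)))).of_iso
      (((Scheme.Modules.restrictFunctor V.ι).mapDerivedCategorySingleFunctor 1).app T)
  haveI : DCoh.HasRpush (f ∣_ V) := KInj.hasRightDerivedFunctor _
  obtain ⟨adjV⟩ := OX.nonempty_lpullAdj (f ∣_ V)
  haveI := adjV.isLeftAdjoint
  have hL : IsZero ((OX.resD (f ⁻¹ᵁ V).ι).obj ((DCoh.Lpull f).obj K)) :=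
    ((DCoh.Lpull (f ∣_ V)).map_isZero hK).of_iso w.symm
  haveI := subsingleton_hom hnp hgen ((DCoh.Lpull f).obj K)
    ((OX.pullUnitIso f).inv ≫ (Scheme.Modules.pullback f).map p ≫ e'.inv) fun i x hx =>
      not_not.1 fun h => (OX.isZero_resD_iff_support _ _).1 hL i h ⟨⟨x, hx⟩, rfl⟩
  exact (adj.homEquiv K _).symm.subsingleton

/-- Stalks of the residue field sheaf off the closed point. -/
theorem subsingleton_stalk_residue (y : Spec (CommRingCat.of A)) (hy : y ≠ closedPoint A) :
    Subsingleton ((tilde (R := CommRingCat.of A) (ModuleCat.of A (ResidueField A))).presheaf.stalk y) := by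
  obtain ⟨a, ha, hay⟩ : ∃ a ∈ maximalIdeal A, a ∉ y.asIdeal := by
    by_contra h
    push Not at h
    exact hy (PrimeSpectrum.ext (le_antisymm (le_maximalIdeal y.isPrime.ne_top) h))
  rw [← not_nontrivial_iff_subsingleton]
  refine fun h => ?_
  have h1 := (DualRing.nontrivial_tilde_stalk_iff (R := CommRingCat.of A) (ModuleCat.of A (ResidueField A)) y).1 h
  refine (Module.notMem_support_iff'.2 fun m => ⟨a, hay, ?_⟩) h1
  show algebraMap A (ResidueField A) a * m = 0
  rw [show algebraMap A (ResidueField A) a = residue A a from rfl, (residue_eq_zero_iff a).2 ha, zero_mul]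

/-- **Hom from the shifted residue field to the direct image of the structure sheaf vanishes.** -/
theorem subsingleton_hom_residue (hnp : NoPolar f) (hgen : f.base (genericPoint X) ≠ closedPoint A)
    [PreservesFiniteLimits (tilde.functor (CommRingCat.of A))] [DCoh.HasRpush f] :
    Subsingleton ((((DCoh.tildeD (CommRingCat.of A)).obj (Dual.inD A (ResidueField A)))⟦(-1 : ℤ)⟧) ⟶
      (DCoh.Rpush f).obj (DCoh.inD X (Coh.structureModule X))) := by
  let q : ModuleCat.of A A ⟶ ModuleCat.of A (ResidueField A) := ModuleCat.ofHom (Algebra.linearMap A (ResidueField A))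
  haveI : Epi q := (ModuleCat.epi_iff_surjective _).2 residue_surjective
  haveI := (tilde.adjunction (R := CommRingCat.of A)).isLeftAdjoint
  haveI : Epi ((tilde.functor (CommRingCat.of A)).map q) := inferInstance
  haveI := subsingleton_hom_rpush hnp hgen _ (tildeSelf.inv ≫ (tilde.functor (CommRingCat.of A)).map q)
    subsingleton_stalk_residue (isClosed_singleton_closedPoint A)
  exact ((shiftFunctor _ (-1 : ℤ)).mapIso (((tilde.functor (CommRingCat.of A)).mapDerivedCategorySingleFunctor 0).app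
      (ModuleCat.of A (ResidueField A))) ≪≫
    ((DerivedCategory.singleFunctors _).shiftIso (-1 : ℤ) 1 0 (by norm_num)).app _).homCongr (Iso.refl _)
    |>.subsingleton

end GrothLib.RightAdj20.Polar
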