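import Groth.Agent.Lib.HomBC22.BCMapMate

/-! # Detecting the base change map through commuting endomorphisms -/

set_option autoImplicit false
universe u v₁ v₂ v₃ v₄ w₁ w₂ w₃ w₄ t

open CategoryTheory

namespace GrothLib.RightAdj20

variable {A : Type w₁} {B : Type w₂} {A' : Type w₃} {B' : Type w₄} [Category.{v₁} A] [Category.{v₂} B]
  [Category.{v₃} A'] [Category.{v₄} B']
  {F : A ⥤ B} {a : B ⥤ A} {F' : A' ⥤ B'} {a' : B' ⥤ A'} {G : B' ⥤ B} {G' : A' ⥤ A} {L : B ⥤ B'} {L' : A ⥤ A'}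
  (adj : F ⊣ a) (adj' : F' ⊣ a') (e : G' ⋙ F ≅ F' ⋙ G) (adjg : L ⊣ G) (adjg' : L' ⊣ G')
  {ι : Type t} (sA : ι → ∀ Z : A', Z ⟶ Z) (sB : ι → ∀ Z : B', Z ⟶ Z)

/-- If `a (G O)` and `G' (L' E)` agree compatibly with the scalars and maps out of `G (L (F E))` commuting with
the scalars are determined on `F E`, then some `L' E ⟶ a' O` becomes invertible under `G'`. -/
theorem exists_isIso_map (hA : ∀ s {Z Z' : A'} (φ : Z ⟶ Z'), sA s Z ≫ φ = φ ≫ sA s Z')
    (hB : ∀ s {Z Z' : B'} (φ : Z ⟶ Z'), sB s Z ≫ φ = φ ≫ sB s Z')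
    (hF : ∀ s (Z : A'), F'.map (sA s Z) = sB s (F'.obj Z))
    (O : B') (E : A) (hξ : IsIso (adj.homEquiv _ _ (e.hom.app (a'.obj O) ≫ G.map (adj'.counit.app O))))
    (hθ : IsIso (HomBC22.thMate e adjg adjg' E))
    (ψ : a.obj (G.obj O) ≅ G'.obj (L'.obj E))
    (hψ : ∀ s, a.map (G.map (sB s O)) ≫ ψ.hom = ψ.hom ≫ G'.map (sA s (L'.obj E)))
    (key : ∀ D D' : G.obj (L.obj (F.obj E)) ⟶ G.obj O,
      (∀ s, G.map (sB s (L.obj (F.obj E))) ≫ D = D ≫ G.map (sB s O)) →
      (∀ s, G.map (sB s (L.obj (F.obj E))) ≫ D' = D' ≫ G.map (sB s O)) →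
      adjg.unit.app (F.obj E) ≫ D = adjg.unit.app (F.obj E) ≫ D' → D = D') :
    ∃ w : L'.obj E ⟶ a'.obj O, IsIso (G'.map w) := by
  haveI := hθ
  haveI := hξ
  let ξ := adj.homEquiv _ _ (e.hom.app (a'.obj O) ≫ G.map (adj'.counit.app O))
  let θ := HomBC22.thMate e adjg adjg' E
  let w := (adjg'.homEquiv _ _).symm (adjg'.unit.app E ≫ ψ.inv ≫ inv ξ)
  refine ⟨w, ?_⟩
  suffices h : G'.map w ≫ ξ = ψ.inv from IsIso.of_isIso_fac_right h
  apply (adj.homEquiv _ _).symm.injective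
  let T : (G'.obj (L'.obj E) ⟶ a.obj (G.obj O)) → (G.obj (L.obj (F.obj E)) ⟶ G.obj O) := fun u =>
    G.map θ ≫ e.inv.app (L'.obj E) ≫ (adj.homEquiv _ _).symm u
  have hT : ∀ u, (∀ s, G'.map (sA s (L'.obj E)) ≫ u = u ≫ a.map (G.map (sB s O))) →
      ∀ s, G.map (sB s (L.obj (F.obj E))) ≫ T u = T u ≫ G.map (sB s O) := by
    intro u hu s
    have h1 : G.map (sB s (L.obj (F.obj E))) ≫ G.map θ = G.map θ ≫ G.map (F'.map (sA s (L'.obj E))) := by
      rw [← Functor.map_comp, ← Functor.map_comp, hF, hB]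
    have h2 : G.map (F'.map (sA s (L'.obj E))) ≫ e.inv.app (L'.obj E) =
        e.inv.app (L'.obj E) ≫ F.map (G'.map (sA s (L'.obj E))) := e.inv.naturality _
    simp only [T, Category.assoc]
    rw [reassoc_of% h1, reassoc_of% h2, ← Adjunction.homEquiv_naturality_left_symm, hu,
      Adjunction.homEquiv_naturality_right_symm]
  have hunit : ∀ u, adjg.unit.app (F.obj E) ≫ T u = (adj.homEquiv _ _).symm (adjg'.unit.app E ≫ u) := by
    intro u
    have h1 : adjg.unit.app (F.obj E) ≫ G.map θ = F.map (adjg'.unit.app E) ≫ e.hom.app (L'.obj E) :=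
      (adjg.homEquiv_unit _ _ _).symm.trans (Equiv.apply_symm_apply _ _)
    simp only [T]
    rw [reassoc_of% h1, Iso.hom_inv_id_app_assoc, Adjunction.homEquiv_naturality_left_symm]
    rfl
  have hinv : ∀ s, G'.map (sA s (L'.obj E)) ≫ ψ.inv = ψ.inv ≫ a.map (G.map (sB s O)) := fun s => by
    rw [← cancel_epi ψ.hom, ← cancel_mono ψ.hom, Category.assoc, Category.assoc, Iso.inv_hom_id,
      Category.comp_id, Iso.hom_inv_id_assoc, hψ]
  have hw : ∀ s, G'.map (sA s (L'.obj E)) ≫ G'.map w ≫ ξ = (G'.map w ≫ ξ) ≫ a.map (G.map (sB s O)) := by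
    intro s
    have h1 : G'.map (sA s (a'.obj O)) ≫ ξ = ξ ≫ a.map (G.map (sB s O)) := by
      simp only [ξ]
      rw [← Adjunction.homEquiv_naturality_left, ← Adjunction.homEquiv_naturality_right]
      congr 1
      have h4 : adj'.counit.app O ≫ sB s O = F'.map (sA s (a'.obj O)) ≫ adj'.counit.app O := by
        rw [hF]; exact (hB s (adj'.counit.app O)).symm
      rw [Category.assoc, ← Functor.map_comp, h4, Functor.map_comp]
      exact e.hom.naturality_assoc (sA s (a'.obj O)) _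
    rw [← Category.assoc, ← Functor.map_comp, hA, Functor.map_comp, Category.assoc, h1, Category.assoc]
  have he : T (G'.map w ≫ ξ) = T ψ.inv := by
    refine key _ _ (hT _ hw) (hT _ hinv) ?_
    rw [hunit, hunit]
    congr 1
    rw [← Category.assoc, show adjg'.unit.app E ≫ G'.map w = adjg'.unit.app E ≫ ψ.inv ≫ inv ξ from
      (adjg'.homEquiv_unit _ _ _).symm.trans (Equiv.apply_symm_apply _ _), Category.assoc, Category.assoc,
      IsIso.inv_hom_id, Category.comp_id]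
  exact (cancel_epi (e.inv.app (L'.obj E))).1 ((cancel_epi (G.map θ)).1 he)

end GrothLib.RightAdj20
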