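import Groth.Prelude.Def_DDual2
import Mathlib.Algebra.Homology.DerivedCategory.Linear
import Mathlib.Algebra.Homology.DerivedCategory.FullyFaithful
import Mathlib.CategoryTheory.Triangulated.TStructure.TruncLTGE
import Groth.Agent.Lib.DerCat.MapHomology

/-! # Maps of restrictions commuting with scalars come from the larger ring -/

set_option autoImplicit false
set_option maxHeartbeats 1000000
set_option linter.style.haveILetI false
universe u

open CategoryTheory CategoryTheory.Limits CategoryTheory.Pretriangulated DerivedCategory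

attribute [local instance] HasDerivedCategory.standard

namespace GrothLib.RightAdj20

variable {R A : Type u} [CommRing R] [CommRing A] (φ : R →+* A)

theorem isLE_restrictD {M : Dual.D A} (n : ℤ) [M.IsLE n] : ((DRing.restrictD φ).obj M).IsLE n :=
  (isLE_iff _ _).2 fun i hi => ((ModuleCat.restrictScalars.{u} φ).map_isZero (isZero_of_isLE M n i hi)).of_iso
    ((DerTrunc.homologyMapIso (ModuleCat.restrictScalars.{u} φ) i).app M)

/-- Maps from objects in degrees `≤ 0` to a module are determined after restriction by commuting with scalars. -/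
theorem exists_map_of_equivariant {M : Dual.D A} [M.IsLE 0] (N : ModuleCat.{u} A)
    (D : (DRing.restrictD φ).obj M ⟶ (DRing.restrictD φ).obj ((singleFunctor (ModuleCat.{u} A) 0).obj N))
    (h : ∀ s : A, (DRing.restrictD φ).map (s • 𝟙 M) ≫ D = D ≫ (DRing.restrictD φ).map (s • 𝟙 _)) :
    ∃ d, (DRing.restrictD φ).map d = D := by
  let R₀ := DRing.restrictD φ
  let t := TStructure.t (C := ModuleCat.{u} A)
  let t₀ := TStructure.t (C := ModuleCat.{u} R)
  let N₁ := (singleFunctor (ModuleCat.{u} A) 0).obj N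
  let T := (t.triangleLTGE 0).obj M
  have hT : T ∈ distTriang _ := t.triangleLTGE_distinguished 0 M
  haveI h₁ : T.obj₁.IsLE (-1) := t.isLE_truncLT_obj M 0 (-1)
  haveI h₃ : T.obj₃.IsGE 0 := t.isGE_truncGE_obj M 0 0
  haveI : (T.obj₁⟦(1 : ℤ)⟧).IsLE (-2) := t.isLE_shift T.obj₁ (-1) 1 (-2) (by omega)
  haveI : T.obj₃.IsLE 0 := t.isLE₂ _ (rot_of_distTriang _ hT) 0 (show t.IsLE M 0 from ‹_›)
    (t.isLE_of_le (T.obj₁⟦(1 : ℤ)⟧) (-2) 0 (by omega))
  obtain ⟨H, ⟨eH⟩⟩ := exists_iso_singleFunctor_obj_of_isGE_of_isLE T.obj₃ 0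
  let τ : M ⟶ (singleFunctor (ModuleCat.{u} A) 0).obj H := T.mor₂ ≫ eH.hom
  -- precomposition with the truncation is bijective on maps into the heart
  haveI : (R₀.obj T.obj₁).IsLE (-1) := isLE_restrictD φ (-1)
  haveI : ((R₀.obj T.obj₁)⟦(1 : ℤ)⟧).IsLE (-2) := t₀.isLE_shift (R₀.obj T.obj₁) (-1) 1 (-2) (by omega)
  have hR : R₀.mapTriangle.obj T ∈ distTriang _ := R₀.map_distinguished _ hT
  let c := (ModuleCat.restrictScalars.{u} φ).mapDerivedCategorySingleFunctor 0
  haveI : IsGE ((singleFunctor (ModuleCat.{u} R) 0).obj ((ModuleCat.restrictScalars.{u} φ).obj N)) 0 := inferInstance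
  haveI hN : (R₀.obj N₁).IsGE 0 := @Triangulated.TStructure.isGE_of_iso _ _ _ _ _ _ _ t₀ _ _ (c.app N).symm 0 this
  have hz : ∀ (Z : Dual.D R) (n : ℤ) [Z.IsLE n] (g : Z ⟶ R₀.obj N₁), n < 0 → g = 0 := fun Z n _ g hn =>
    t₀.zero_of_isLE_of_isGE g n 0 hn inferInstance inferInstance
  have hepi : ∀ g g' : R₀.obj ((singleFunctor (ModuleCat.{u} A) 0).obj H) ⟶ R₀.obj N₁,
      R₀.map τ ≫ g = R₀.map τ ≫ g' → g = g' := fun g g' hg => by
    rw [← cancel_epi (R₀.map eH.hom), ← sub_eq_zero]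
    obtain ⟨x, hx⟩ := (R₀.mapTriangle.obj T).yoneda_exact₃ hR (R₀.map eH.hom ≫ g - R₀.map eH.hom ≫ g') (by
      show R₀.map T.mor₂ ≫ _ = 0
      rw [Preadditive.comp_sub, ← R₀.map_comp_assoc, ← R₀.map_comp_assoc, sub_eq_zero]
      exact hg)
    rw [hx, hz ((R₀.obj T.obj₁)⟦(1 : ℤ)⟧) (-2) x (by omega)]
    exact comp_zero
  obtain ⟨D₁, hD₁⟩ := (R₀.mapTriangle.obj T).yoneda_exact₂ hR D (hz (R₀.obj T.obj₁) (-1) _ (by omega))
  let D' : R₀.obj ((singleFunctor (ModuleCat.{u} A) 0).obj H) ⟶ R₀.obj N₁ := R₀.map eH.inv ≫ D₁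
  have hD' : R₀.map τ ≫ D' = D := by
    refine Eq.trans ?_ hD₁.symm
    simp only [τ, D', Functor.map_comp, Category.assoc]
    rw [← R₀.map_comp_assoc eH.hom, eH.hom_inv_id, R₀.map_id, Category.id_comp]
    rfl
  have hs : ∀ s : A, R₀.map (s • 𝟙 _) ≫ D' = D' ≫ R₀.map (s • 𝟙 _) := fun s => by
    refine hepi _ _ ?_
    rw [← R₀.map_comp_assoc, show τ ≫ (s • 𝟙 _) = (s • 𝟙 M) ≫ τ by
      rw [Linear.comp_smul, Category.comp_id, Linear.smul_comp, Category.id_comp], R₀.map_comp_assoc, hD',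
      reassoc_of% hD']
    exact h s
  -- in the heart
  let S := singleFunctor (ModuleCat.{u} R) 0
  obtain ⟨g, hg⟩ := S.map_surjective (c.inv.app H ≫ D' ≫ c.hom.app N)
  have hg' : ∀ s : A, (ModuleCat.restrictScalars.{u} φ).map (s • 𝟙 H) ≫ g =
      g ≫ (ModuleCat.restrictScalars.{u} φ).map (s • 𝟙 N) := fun s => by
    apply S.map_injective
    rw [S.map_comp, S.map_comp, hg]
    have e1 : ∀ (P : ModuleCat.{u} A), S.map ((ModuleCat.restrictScalars.{u} φ).map (s • 𝟙 P)) =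
        c.inv.app P ≫ R₀.map (s • 𝟙 _) ≫ c.hom.app P := fun P => by
      rw [show (s • 𝟙 ((singleFunctor (ModuleCat.{u} A) 0).obj P)) = (singleFunctor (ModuleCat.{u} A) 0).map (s • 𝟙 P) by
        rw [Functor.map_smul, CategoryTheory.Functor.map_id]]
      exact (Iso.eq_inv_comp (c.app P)).2 (c.hom.naturality (s • 𝟙 P)).symm
    rw [e1, e1]
    simp only [Category.assoc, Iso.hom_inv_id_app_assoc]
    rw [reassoc_of% (hs s)]
  let g₁ : H ⟶ N := ModuleCat.ofHom
    { toFun := fun x : H => (g.hom x : N)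
      map_add' := fun x y => g.hom.map_add x y
      map_smul' := fun s (x : H) => by
        exact congrArg (fun f => (f.hom x : N)) (hg' s) }
  refine ⟨τ ≫ (singleFunctor (ModuleCat.{u} A) 0).map g₁, ?_⟩
  rw [R₀.map_comp, ← hD']
  refine congrArg (R₀.map τ ≫ ·) ?_
  have hg₁ : (ModuleCat.restrictScalars.{u} φ).map g₁ = g := rfl
  rw [← cancel_mono (c.hom.app N), ← cancel_epi (c.inv.app H)]
  refine Eq.trans ?_ hg
  rw [← hg₁, ← Iso.app_inv, Iso.inv_comp_eq]
  exact c.hom.naturality g₁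

end GrothLib.RightAdj20
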