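import Groth.Agent.Lib.RightAdj20.PolarLift
import Groth.Agent.Lib.RatSing29.Completion
import Groth.Agent.Lib.RatSing29.PowIdeal
import Groth.Agent.Lib.RatSing29.SeqH1
import Groth.Agent.Lib.Cohom.LinearLES
import Groth.Agent.Lib.FinCov.FrameFree
import Groth.Agent.Lib.N2.Stabilize
import Groth.Agent.Lib.DualCx22.BidualCrit
import Groth.Agent.Lib.WeakAss.Basic

/-! # Bounding the torsion of `H¹(O)` uniformly over modifications of a normal surface germ -/

set_option autoImplicit false
set_option maxHeartbeats 1000000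
set_option linter.style.haveILetI false
set_option backward.isDefEq.respectTransparency false
universe u

open CategoryTheory CategoryTheory.Limits AlgebraicGeometry TopologicalSpace IsLocalRing Opposite GrothLib.QCoh
open GrothLib.RightAdj20.Polar

noncomputable section

namespace GrothLib.RightAdj20.TorsionBound

variable {A : Type u} [CommRing A] [IsDomain A] [IsLocalRing A] [IsNoetherianRing A]

omit [IsNoetherianRing A] in
/-- In a two dimensional local domain a non-maximal prime containing `a ≠ 0` is minimal over it. -/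
theorem mem_minimalPrimes (hdim : ringKrullDim A = 2) {a : A} (ha : a ≠ 0) {q : Ideal A} [q.IsPrime]
    (haq : a ∈ q) (hq : q ≠ maximalIdeal A) : q ∈ (Ideal.span {a}).minimalPrimes := by
  obtain ⟨q', hq', hle⟩ := Ideal.exists_minimalPrimes_le (show Ideal.span {a} ≤ q by simpa using haq)
  rcases hle.eq_or_lt with rfl | hlt
  · exact hq'
  · exfalso
    have haq' : a ∈ q' := hq'.1.2 (Ideal.mem_span_singleton_self a)
    haveI := hq'.1.1
    let b : PrimeSpectrum A := ⟨⊥, Ideal.isPrime_bot⟩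
    let x₁ : PrimeSpectrum A := ⟨q', hq'.1.1⟩
    let x₂ : PrimeSpectrum A := ⟨q, ‹_›⟩
    have h01 : b < x₁ := show (⊥ : Ideal A) < q' from bot_lt_iff_ne_bot.2 fun h => ha (by rw [h] at haq'; exact haq')
    have h12 : x₁ < x₂ := hlt
    have h23 : x₂ < closedPoint A := show q < maximalIdeal A from lt_of_le_of_ne (le_maximalIdeal ‹q.IsPrime›.ne_top) hq
    let l : LTSeries (PrimeSpectrum A) :=
      { length := 3, toFun := ![b, x₁, x₂, closedPoint A]
        step := fun i => by fin_cases i <;> assumption }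
    have h := Order.LTSeries.length_le_krullDim l
    change ((3 : ℕ) : WithBot ℕ∞) ≤ ringKrullDim A at h
    rw [hdim] at h
    norm_num at h

/-- A power of the maximal ideal kills a module with no support elsewhere. -/
theorem isFiniteLength_of_local {M : Type u} [AddCommGroup M] [Module A M] [Module.Finite A M]
    (h : ∀ q : Ideal A, q.IsPrime → q ≠ maximalIdeal A → ∀ z : M, ∃ t, t ∉ q ∧ t • z = 0) :
    IsFiniteLength A M := by
  obtain ⟨G, hG⟩ := (IsNoetherian.noetherian (maximalIdeal A) : (maximalIdeal A).FG)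
  refine DualCx22.isFiniteLength_of_killed G hG fun x hx z => ?_
  have h1 : x ∈ Ideal.radical (LinearMap.ker (LinearMap.toSpanSingleton A M z) : Ideal A) := by
    rw [Ideal.radical_eq_sInf, Ideal.mem_sInf]
    rintro J ⟨hJ, hJp⟩
    by_cases hJm : J = maximalIdeal A
    · rw [hJm, ← hG]; exact Ideal.subset_span hx
    · obtain ⟨t, ht, htz⟩ := h J hJp hJm z
      exact (ht (hJ (by simpa using htz))).elim
  obtain ⟨k, hk⟩ := h1
  exact ⟨k, by simpa using hk⟩

section Stalk

variable {X : Scheme.{u}} [X.Over (Spec (CommRingCat.of A))]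

local notation "OO" => Coh.structureModule X

omit [IsDomain A] [IsLocalRing A] [IsNoetherianRing A] in
/-- Multiplication by a constant on stalks. -/
theorem stalkLin_smulMod (M : X.Modules) (b : A) (x : X) (v : M.presheaf.stalk x) :
    stalkLin (Formal.smulMod A M b) x v = cA (X ↘ Spec (CommRingCat.of A)) x b • v := by
  obtain ⟨U, hU, k, rfl⟩ := TopCat.Presheaf.exists_germ_eq M.presheaf v
  rw [stalkLin_germ, RatSing29.smulMod_app, WeakAss.germ_smul]
  refine congrArg (· • _) ?_
  exact TopCat.Presheaf.germ_res_apply X.presheaf _ x hU _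

omit [IsDomain A] [IsLocalRing A] [IsNoetherianRing A] in
theorem germ_smul_H0 (M : X.Modules) (b : A) (s : Coh.HH X M 0) (x : X) :
    M.presheaf.germ ⊤ x trivial (ProjCoh.H0top M (b • s)) =
      cA (X ↘ Spec (CommRingCat.of A)) x b • M.presheaf.germ ⊤ x trivial (ProjCoh.H0top M s) := by
  rw [ProjCoh.H0top_smul, WeakAss.germ_smul]
  rfl

omit [IsDomain A] [IsLocalRing A] [IsNoetherianRing A] in
theorem toGlobal_eq_H0top_smul (r : A) :
    ProjCoh.H0top OO (r • (ProjCoh.H0top OO).symm (FinCov.one X ⊤)) = (show Γ(X, ⊤) from Coh.toGlobal (X ↘ Spec (CommRingCat.of A)) r) := by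
  rw [ProjCoh.H0top_smul, AddEquiv.apply_symm_apply]
  show (show Γ(X, ⊤) from Coh.toGlobal (X ↘ Spec (CommRingCat.of A)) r) * (1 : Γ(X, ⊤)) = _
  rw [mul_one]

/-- Every element of the stalk at a point with invertible stalk map is a fraction of constants. -/
theorem exists_fraction (x : X) [IsIso (Scheme.Hom.stalkMap (X ↘ Spec (CommRingCat.of A)) x)] (w : X.presheaf.stalk x) :
    ∃ c t : A, t ∉ ((X ↘ Spec (CommRingCat.of A)).base x).asIdeal ∧ w * cA (X ↘ Spec (CommRingCat.of A)) x t = cA (X ↘ Spec (CommRingCat.of A)) x c := by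
  obtain ⟨v, rfl⟩ := (ConcreteCategory.bijective_of_isIso (Scheme.Hom.stalkMap (X ↘ Spec (CommRingCat.of A)) x)).2 w
  let y : PrimeSpectrum A := (X ↘ Spec (CommRingCat.of A)).base x
  letI : Algebra A ((Spec (CommRingCat.of A)).presheaf.stalk ((X ↘ Spec (CommRingCat.of A)).base x)) := StructureSheaf.stalkAlgebra (R := A) y
  haveI : IsLocalization.AtPrime ((Spec (CommRingCat.of A)).presheaf.stalk ((X ↘ Spec (CommRingCat.of A)).base x)) y.asIdeal :=
    StructureSheaf.IsLocalization.to_stalk A y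
  obtain ⟨⟨c, t⟩, h⟩ := IsLocalization.surj y.asIdeal.primeCompl v
  refine ⟨c, t.1, fun h => t.2 h, ?_⟩
  have key : ∀ d : A, Scheme.Hom.stalkMap (X ↘ Spec (CommRingCat.of A)) x (algebraMap A ((Spec (CommRingCat.of A)).presheaf.stalk ((X ↘ Spec (CommRingCat.of A)).base x)) d) =
      cA (X ↘ Spec (CommRingCat.of A)) x d := fun d => Scheme.Hom.germ_stalkMap_apply (X ↘ Spec (CommRingCat.of A)) ⊤ x trivial _
  rw [← key, ← key, ← map_mul]
  exact congrArg _ h

variable [IsIntegrallyClosed A] [IsProper (X ↘ Spec (CommRingCat.of A))] [AlgebraicGeometry.IsIntegral X]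

/-- The key bound: the torsion killed by a height one prime embeds in a fixed module. -/
theorem length_torsion_le (hdim : ringKrullDim A = 2) (hXn : Pi1.IsNormalScheme X)
    (hbir : ∃ U : (Spec (CommRingCat.of A)).Opens, (U : Set (Spec (CommRingCat.of A))).Nonempty ∧ IsIso ((X ↘ Spec (CommRingCat.of A)) ∣_ U))
    {p : Ideal A} [p.IsPrime] (hpm : p ≠ maximalIdeal A) {a g : A} (ha0 : a ≠ 0) (hap : a ∈ p)
    (hpa : ∀ x ∈ p, ∃ t, t ∉ p ∧ t * x ∈ Ideal.span {a}) (hgp : g ∈ p)
    (hg : ∀ q ∈ (Ideal.span {a}).minimalPrimes, q ≠ p → g ∉ q) :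
    Module.length A ↥(Submodule.torsionBySet A (Coh.HH X OO 1) (p : Set A)) ≤
      Module.length A ((↥(Submodule.map (Submodule.mkQ (Ideal.span {a})) p) × ↥(integralClosure A p.ResidueField)) ⧸
        Submodule.span A {((⟨Submodule.mkQ (Ideal.span {a}) g, g, hgp, rfl⟩, 1) :
          ↥(Submodule.map (Submodule.mkQ (Ideal.span {a})) p) × ↥(integralClosure A p.ResidueField))}) := by
  classical
  let N := ↥(Submodule.map (Submodule.mkQ (Ideal.span {a})) p) × ↥(integralClosure A p.ResidueField)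
  let ψ₀ : N := (⟨Submodule.mkQ (Ideal.span {a}) g, g, hgp, rfl⟩, 1)
  obtain ⟨hnp, hgen⟩ := noPolar_of_birational hdim (X ↘ Spec (CommRingCat.of A)) hXn hbir
  -- invertibility off the closed fibre
  let Op : (Spec (CommRingCat.of A)).Opens := ⟨{closedPoint A}ᶜ, (isClosed_singleton_closedPoint A).isOpen_compl⟩
  haveI hisoOp := RatSing29.isIso_restrict_punctured hdim (X ↘ Spec (CommRingCat.of A)) hbir Op (fun h => h rfl)
  have hstalk : ∀ x : X, (X ↘ Spec (CommRingCat.of A)).base x ≠ closedPoint A → IsIso (Scheme.Hom.stalkMap (X ↘ Spec (CommRingCat.of A)) x) := fun x hx => by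
    let x' : ((X ↘ Spec (CommRingCat.of A)) ⁻¹ᵁ Op : X.Opens) := ⟨x, hx⟩
    haveI : IsIso (Scheme.Hom.stalkMap ((X ↘ Spec (CommRingCat.of A)) ∣_ Op) x') := inferInstance
    exact ((MorphismProperty.isomorphisms CommRingCat).arrow_mk_iso_iff (morphismRestrictStalkMap (X ↘ Spec (CommRingCat.of A)) Op x')).1 this
  have hinjpt : ∀ x x' : X, (X ↘ Spec (CommRingCat.of A)).base x ≠ closedPoint A → (X ↘ Spec (CommRingCat.of A)).base x = (X ↘ Spec (CommRingCat.of A)).base x' → x = x' := fun x x' hx he => by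
    have h := ((X ↘ Spec (CommRingCat.of A)) ∣_ Op).homeomorph.injective (a₁ := (⟨x, hx⟩ : ((X ↘ Spec (CommRingCat.of A)) ⁻¹ᵁ Op : X.Opens)))
      (a₂ := (⟨x', fun h => hx (he.trans h)⟩ : ((X ↘ Spec (CommRingCat.of A)) ⁻¹ᵁ Op : X.Opens))) (Subtype.ext (by
        show (((X ↘ Spec (CommRingCat.of A)) ∣_ Op) _).1 = (((X ↘ Spec (CommRingCat.of A)) ∣_ Op) _).1
        rw [morphismRestrict_base_coe, morphismRestrict_base_coe]; exact he))
    exact congrArg Subtype.val h
  have hη : (X ↘ Spec (CommRingCat.of A)).base (genericPoint X) = genericPoint (Spec (CommRingCat.of A)) := by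
    obtain ⟨U, hU, hi⟩ := hbir; exact RatSing29.apply_genericPoint (X ↘ Spec (CommRingCat.of A)) U hU hi
  have hcK : cK (X ↘ Spec (CommRingCat.of A)) a ≠ 0 := by
    have h1 : IsUnit (cA (X ↘ Spec (CommRingCat.of A)) (genericPoint X) a) := by
      by_contra h
      have h2 := (not_isUnit_cA_iff (X ↘ Spec (CommRingCat.of A)) _ a).1 h
      rw [hη, genericPoint_eq_bot_of_affine] at h2
      exact ha0 (Ideal.mem_bot.1 h2)
    exact (h1.map (ι (genericPoint X))).ne_zero
  have hcA : ∀ x, cA (X ↘ Spec (CommRingCat.of A)) x a ≠ 0 := fun x h => hcK (by rw [← ι_cA (X ↘ Spec (CommRingCat.of A)) x a, h, map_zero])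
  -- the sequence
  let m : OO ⟶ OO := Formal.smulMod A OO a
  haveI : Mono m := (OX.mono_iff m).2 fun x => (ModuleCat.mono_iff_injective _).2 (by
    show Function.Injective (stalkLin m x)
    refine (injective_iff_map_eq_zero _).2 fun v hv => ?_
    obtain ⟨r, rfl⟩ := (HomSh.unitStalk x).surjective v
    rw [stalkLin_smulMod, ← map_smul, smul_eq_mul] at hv
    have h1 : cA (X ↘ Spec (CommRingCat.of A)) x a * r = 0 := (HomSh.unitStalk x).injective (hv.trans (map_zero _).symm)
    rw [(mul_eq_zero.1 h1).resolve_left (hcA x), map_zero])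
  let S : ShortComplex X.Modules := ShortComplex.mk m (cokernel.π m) (cokernel.condition m)
  have hS : S.ShortExact :=
    { exact := ShortComplex.exact_of_g_is_cokernel _ (cokernelIsCokernel m)
      mono_f := ‹_›
      epi_g := inferInstanceAs (Epi (cokernel.π m)) }
  haveI := hS.epi_g
  let σ : ∀ x : X, X.presheaf.stalk x →ₗ[X.presheaf.stalk x] S.X₃.presheaf.stalk x := fun x =>
    stalkLin S.g x ∘ₗ (HomSh.unitStalk x).toLinearMap
  have hσs : ∀ x, Function.Surjective (σ x) := fun x =>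
    (stalkLin_surjective S.g x).comp (HomSh.unitStalk x).surjective
  have hσk : ∀ x (r : X.presheaf.stalk x), σ x r = 0 ↔ ∃ c, r = cA (X ↘ Spec (CommRingCat.of A)) x a * c := fun x r => by
    have he := (ShortComplex.ShortExact.moduleCat_exact_iff_function_exact _).1 ((OX.exact_iff S).1 hS.exact x)
      (HomSh.unitStalk x r)
    refine he.trans ⟨?_, ?_⟩
    · rintro ⟨v, hv⟩
      obtain ⟨c, rfl⟩ := (HomSh.unitStalk x).surjective v
      refine ⟨c, (HomSh.unitStalk x).injective ?_⟩
      change stalkLin m x _ = _ at hv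
      rw [stalkLin_smulMod, ← map_smul, smul_eq_mul] at hv
      exact hv.symm
    · rintro ⟨c, rfl⟩
      refine ⟨HomSh.unitStalk x c, ?_⟩
      show stalkLin m x _ = _
      rw [stalkLin_smulMod, ← map_smul, smul_eq_mul]
  let Γ0 := Coh.HH X S.X₃ 0
  let germ : ∀ x : X, Γ0 →+ S.X₃.presheaf.stalk x := fun x =>
    AddMonoidHom.mk' (fun s => S.X₃.presheaf.germ ⊤ x trivial (ProjCoh.H0top S.X₃ s)) fun s s' => by simp
  have hgs : ∀ x (b : A) (s : Γ0), germ x (b • s) = cA (X ↘ Spec (CommRingCat.of A)) x b • germ x s := fun x b s => germ_smul_H0 S.X₃ b s x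
  let one₀ : Coh.HH X OO 0 := (ProjCoh.H0top OO).symm (FinCov.one X ⊤)
  let π₀ := Cohom.hhMap A S.g 0
  let δ : Γ0 →ₗ[A] Coh.HH X OO (0 + 1) := Cohom.hhDelta A hS 0
  let one' : Γ0 := π₀ one₀
  have hgone : ∀ x, germ x one' = σ x 1 := fun x => by
    show S.X₃.presheaf.germ ⊤ x trivial (ProjCoh.H0top S.X₃ (π₀ one₀)) = stalkLin S.g x (HomSh.unitStalk x 1)
    have hu1 : HomSh.unitStalk x 1 = (Coh.structureModule X).presheaf.germ ⊤ x trivial (FinCov.one X ⊤) := by
      show (1 : X.presheaf.stalk x) • (Coh.structureModule X).presheaf.germ ⊤ x trivial (1 : Γ(X, ⊤)) = _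
      exact one_smul _ _
    rw [hu1, stalkLin_germ]
    refine congrArg _ ((ProjCoh.H0top_map ((QCoh.toAbFun X).map S.g) one₀).trans ?_)
    exact congrArg (S.g.app ⊤) (AddEquiv.apply_symm_apply _ _)
  have hgr : ∀ x (r : A), germ x (r • one') = σ x (cA (X ↘ Spec (CommRingCat.of A)) x r) := fun x r => by
    rw [hgs, hgone, ← map_smul, smul_eq_mul, mul_one]
  -- global functions are constants
  obtain ⟨U₀, hU₀, hU₀i⟩ := id hbir
  have hnS : ∀ z, IsIntegrallyClosed ((Spec (CommRingCat.of A)).presheaf.stalk z) := fun z => by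
    haveI : IsIntegrallyClosed (Localization.AtPrime z.asIdeal) :=
      isIntegrallyClosed_of_isLocalization _ z.asIdeal.primeCompl z.asIdeal.primeCompl_le_nonZeroDivisors
    exact IsIntegrallyClosed.of_equiv (AlgebraicGeometry.Spec.stalkIso (CommRingCat.of A) z).symm.commRingCatIsoToRingEquiv
  haveI happ := RatSing29.isIso_app_of_birational (X ↘ Spec (CommRingCat.of A)) hnS U₀ hU₀ hU₀i ⊤
  have hconst : ∀ y : Coh.HH X OO 0, ∃ r : A, r • one₀ = y := fun y => by
    obtain ⟨v, hv⟩ := (ConcreteCategory.bijective_of_isIso ((X ↘ Spec (CommRingCat.of A)).app ⊤)).2 (ProjCoh.H0top OO y)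
    obtain ⟨r, rfl⟩ := (ConcreteCategory.bijective_of_isIso (Scheme.ΓSpecIso (CommRingCat.of A)).inv).2 v
    exact ⟨r, (ProjCoh.H0top OO).injective ((toGlobal_eq_H0top_smul r).trans hv)⟩
  have hkerone : ∀ r : A, r • one' = 0 → r ∈ Ideal.span {a} := fun r hr => by
    have h1 : π₀ (r • one₀) = 0 := by rw [map_smul]; exact hr
    obtain ⟨y, hy⟩ := (Cohom.exact₂ (A := A) hS 0 _).1 h1
    obtain ⟨c, rfl⟩ := hconst y
    have h2 : a • c • one₀ = r • one₀ := hy
    rw [smul_smul] at h2
    have h3 := congrArg (ProjCoh.H0top OO) h2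
    rw [toGlobal_eq_H0top_smul, toGlobal_eq_H0top_smul] at h3
    have h4 := (ConcreteCategory.bijective_of_isIso (Scheme.ΓSpecIso (CommRingCat.of A)).inv).1
      ((ConcreteCategory.bijective_of_isIso ((X ↘ Spec (CommRingCat.of A)).app ⊤)).1 h3)
    exact Ideal.mem_span_singleton'.2 ⟨c, by rw [mul_comm, h4]⟩
  -- the point over `p`
  let yp : Spec (CommRingCat.of A) := ⟨p, ‹_›⟩
  have hyp : yp ≠ closedPoint A := fun h => hpm (congrArg PrimeSpectrum.asIdeal h)
  obtain ⟨z', hz'⟩ := ((X ↘ Spec (CommRingCat.of A)) ∣_ Op).homeomorph.surjective ⟨yp, hyp⟩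
  obtain ⟨z, hz⟩ : ∃ z : X, (X ↘ Spec (CommRingCat.of A)).base z = yp := ⟨z'.1, by
    rw [← morphismRestrict_base_coe]; exact congrArg Subtype.val hz'⟩
  clear hz' z'
  have hzc : (X ↘ Spec (CommRingCat.of A)).base z ≠ closedPoint A := hz ▸ hyp
  haveI hiz : IsIso (Scheme.Hom.stalkMap (X ↘ Spec (CommRingCat.of A)) z) := hstalk z hzc
  let k : A →+* X.residueField z := (IsLocalRing.residue (X.presheaf.stalk z)).comp (cA (X ↘ Spec (CommRingCat.of A)) z)
  have hk0 : ∀ b, k b = 0 ↔ b ∈ p := fun b => by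
    show IsLocalRing.residue _ (cA (X ↘ Spec (CommRingCat.of A)) z b) = 0 ↔ _
    rw [residue_eq_zero_iff, mem_maximalIdeal, mem_nonunits_iff, not_isUnit_cA_iff, hz]
  have hmaxz : ∀ w : X.presheaf.stalk z, ¬ IsUnit w → ∃ c, w = cA (X ↘ Spec (CommRingCat.of A)) z a * c := fun w hw => by
    obtain ⟨c, t, ht, he⟩ := exists_fraction (A := A) z w
    have htu : IsUnit (cA (X ↘ Spec (CommRingCat.of A)) z t) := by
      by_contra h
      exact ht (hz.symm ▸ (hz ▸ (not_isUnit_cA_iff (X ↘ Spec (CommRingCat.of A)) z t).1 h))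
    have hcp : c ∈ p := by
      rw [show p = ((X ↘ Spec (CommRingCat.of A)).base z).asIdeal from (congrArg PrimeSpectrum.asIdeal hz).symm]
      refine (not_isUnit_cA_iff (X ↘ Spec (CommRingCat.of A)) z c).1 fun h => hw ?_
      rw [← he] at h
      exact isUnit_of_mul_isUnit_left h
    obtain ⟨t', ht', he'⟩ := hpa c hcp
    obtain ⟨d, hd⟩ := Ideal.mem_span_singleton'.1 he'
    have htu' : IsUnit (cA (X ↘ Spec (CommRingCat.of A)) z t') := by
      by_contra h
      have := (not_isUnit_cA_iff (X ↘ Spec (CommRingCat.of A)) z t').1 h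
      rw [hz] at this
      exact ht' this
    obtain ⟨u, hu⟩ := htu.mul htu'
    refine ⟨cA (X ↘ Spec (CommRingCat.of A)) z d * ↑u⁻¹, ?_⟩
    have h5 : w * ↑u = cA (X ↘ Spec (CommRingCat.of A)) z a * cA (X ↘ Spec (CommRingCat.of A)) z d := by
      rw [hu, ← mul_assoc, he, ← map_mul, ← map_mul, mul_comm c t', ← hd, mul_comm d a]
    rw [← mul_assoc, ← h5, mul_assoc, Units.mul_inv, mul_one]
  let η₀ : p.ResidueField →+* X.residueField z :=
    Ideal.ResidueField.lift p k (fun b hb => (hk0 b).2 hb) fun b hb => isUnit_iff_ne_zero.2 fun h => hb ((hk0 b).1 h)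
  have hη₀a : ∀ b, η₀ (algebraMap A p.ResidueField b) = k b := fun b => Ideal.ResidueField.lift_algebraMap ..
  have hη₀s : Function.Surjective η₀ := fun v => by
    obtain ⟨w, rfl⟩ := IsLocalRing.residue_surjective v
    obtain ⟨c, t, ht, he⟩ := exists_fraction (A := A) z w
    have htp : t ∉ p := by rw [hz] at ht; exact ht
    refine ⟨algebraMap A _ c / algebraMap A _ t, ?_⟩
    rw [map_div₀, hη₀a, hη₀a]
    refine (div_eq_iff (fun h => htp ((hk0 t).1 h))).2 ?_
    show IsLocalRing.residue _ (cA (X ↘ Spec (CommRingCat.of A)) z c) = IsLocalRing.residue _ w * IsLocalRing.residue _ (cA (X ↘ Spec (CommRingCat.of A)) z t)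
    rw [← map_mul, he]
  -- integrality of values
  let q : Spec (CommRingCat.of (A ⧸ Ideal.span {a})) ⟶ Spec (CommRingCat.of A) :=
    Spec.map (CommRingCat.ofHom (Ideal.Quotient.mk (Ideal.span {a})))
  haveI : IsClosedImmersion q := IsClosedImmersion.spec_of_surjective _ Ideal.Quotient.mk_surjective
  let j : pullback (X ↘ Spec (CommRingCat.of A)) q ⟶ X := pullback.fst (X ↘ Spec (CommRingCat.of A)) q
  have hja : j.appTop (show Γ(X, ⊤) from Coh.toGlobal (X ↘ Spec (CommRingCat.of A)) a) = 0 := by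
    show (pullback.fst (X ↘ Spec (CommRingCat.of A)) q).appTop ((X ↘ Spec (CommRingCat.of A)).appTop ((Scheme.ΓSpecIso (CommRingCat.of A)).inv a)) = 0
    rw [← ConcreteCategory.comp_apply, ← Scheme.Hom.comp_appTop, pullback.condition, Scheme.Hom.comp_appTop,
      ConcreteCategory.comp_apply]
    have h1 : q.appTop ((Scheme.ΓSpecIso (CommRingCat.of A)).inv a) = 0 := by
      have h2 := ConcreteCategory.congr_hom
        (Scheme.ΓSpecIso_inv_naturality (CommRingCat.ofHom (Ideal.Quotient.mk (Ideal.span {a})))) a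
      simp only [ConcreteCategory.comp_apply] at h2
      refine h2.symm.trans ?_
      show (Scheme.ΓSpecIso (CommRingCat.of (A ⧸ Ideal.span {a}))).inv (Ideal.Quotient.mk (Ideal.span {a}) a) = 0
      rw [Ideal.Quotient.eq_zero_iff_mem.2 (Ideal.mem_span_singleton_self a), map_zero]
    rw [h1, map_zero]
  obtain ⟨zj, hzj, -⟩ : ∃ zj : ↥(pullback (X ↘ Spec (CommRingCat.of A)) q), j.base zj = z ∧ (pullback.snd (X ↘ Spec (CommRingCat.of A)) q).base zj = ⟨p.map (Ideal.Quotient.mk _),
      Ideal.map_isPrime_of_surjective Ideal.Quotient.mk_surjective (by simpa [Ideal.mk_ker] using hap)⟩ := by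
    refine Scheme.Pullback.exists_preimage_pullback _ _ ?_
    rw [hz]
    refine PrimeSpectrum.ext ?_
    show p = Ideal.comap (Ideal.Quotient.mk (Ideal.span {a})) (p.map (Ideal.Quotient.mk _))
    rw [Ideal.comap_map_of_surjective _ Ideal.Quotient.mk_surjective, ← RingHom.ker_eq_comap_bot, Ideal.mk_ker,
      sup_eq_left.2 (show Ideal.span {a} ≤ p by simpa using hap)]
  subst hzj
  let O' := Coh.structureModule (pullback (X ↘ Spec (CommRingCat.of A)) q)
  have hm0 : m ≫ ClSub.unitToPush j = 0 := by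
    refine Scheme.Modules.hom_ext _ _ fun U => ?_
    ext v
    show j.app U ((m.app U v : Γ(X, U))) = 0
    have h1 : (m.app U v : Γ(X, U)) = RatSing29.gOn X a U * (show Γ(X, U) from v) := RatSing29.smulMod_app OO a U v
    rw [h1, map_mul]
    have h2 : j.app U (RatSing29.gOn X a U) = 0 := by
      refine (ConcreteCategory.congr_hom (j.naturality (homOfLE (le_top : U ≤ ⊤)).op) _).trans ?_
      show (pullback (X ↘ Spec (CommRingCat.of A)) q).presheaf.map _ (j.appTop (show Γ(X, ⊤) from Coh.toGlobal (X ↘ Spec (CommRingCat.of A)) a)) = 0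
      rw [hja, map_zero]
    rw [h2, zero_mul]
  let θ : S.X₃ ⟶ (Scheme.Modules.pushforward j).obj O' := cokernel.desc m (ClSub.unitToPush j) hm0
  have hint : ∀ (s : Γ0) (w : X.presheaf.stalk (j.base zj)) (β : p.ResidueField),
      germ (j.base zj) s = σ (j.base zj) w → η₀ β = IsLocalRing.residue _ w → _root_.IsIntegral A β := by
    intro s w β hs hβ
    let t : Γ(pullback (X ↘ Spec (CommRingCat.of A)) q, ⊤) := θ.app ⊤ (ProjCoh.H0top S.X₃ s)
    obtain ⟨V, hV, kk, rfl⟩ := TopCat.Presheaf.exists_germ_eq X.presheaf w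
    let kk' : Γ(OO, V) := kk
    have hσg : σ (j.base zj) (X.presheaf.germ V (j.base zj) hV kk) =
        S.X₃.presheaf.germ V (j.base zj) hV (S.g.app V kk') := by
      show stalkLin S.g _ (HomSh.unitStalk _ (X.presheaf.germ V _ hV kk)) = _
      rw [show HomSh.unitStalk (j.base zj) (X.presheaf.germ V _ hV kk) = (Coh.structureModule X).presheaf.germ V _ hV kk' from ?_, stalkLin_germ]
      show X.presheaf.germ V (j.base zj) hV kk • (Coh.structureModule X).presheaf.germ ⊤ (j.base zj) trivial (1 : Γ(X, ⊤)) = (Coh.structureModule X).presheaf.germ V (j.base zj) hV kk'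
      rw [← TopCat.Presheaf.germ_res_apply (Coh.structureModule X).presheaf (homOfLE (le_top : V ≤ ⊤)) _ hV, ← WeakAss.germ_smul]
      refine congrArg _ ?_
      show kk * X.presheaf.map (homOfLE (le_top : V ≤ ⊤)).op (1 : Γ(X, ⊤)) = kk
      rw [map_one, mul_one]
    rw [hσg] at hs
    obtain ⟨W, hW, i₁, i₂, hWe⟩ := TopCat.Presheaf.germ_eq S.X₃.presheaf _ (show j.base zj ∈ (⊤ : X.Opens) from trivial) hV _ _ hs
    have h1 := congrArg (θ.app W) hWe
    have hn1 : θ.app W (S.X₃.presheaf.map i₁.op (ProjCoh.H0top S.X₃ s)) =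
        (pullback (X ↘ Spec (CommRingCat.of A)) q).presheaf.map (homOfLE (le_top : j ⁻¹ᵁ W ≤ ⊤)).op t :=
      NatTrans.naturality_apply (Scheme.Modules.Hom.mapPresheaf θ) i₁.op _
    have hn2 : θ.app W (S.X₃.presheaf.map i₂.op (S.g.app V kk')) =
        (pullback (X ↘ Spec (CommRingCat.of A)) q).presheaf.map (homOfLE (j.preimage_mono i₂.le)).op (j.app V kk) := by
      refine (NatTrans.naturality_apply (Scheme.Modules.Hom.mapPresheaf θ) i₂.op _).trans ?_
      refine congrArg _ ?_
      show (S.g ≫ θ).app V kk' = _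
      rw [show S.g ≫ θ = ClSub.unitToPush j from cokernel.π_desc _ _ _]
      rfl
    rw [hn1, hn2] at h1
    have h2 := congrArg ((pullback (X ↘ Spec (CommRingCat.of A)) q).presheaf.germ (j ⁻¹ᵁ W) zj hW) h1
    rw [TopCat.Presheaf.germ_res_apply, TopCat.Presheaf.germ_res_apply] at h2
    let ρ : Γ(pullback (X ↘ Spec (CommRingCat.of A)) q, ⊤) →+* (pullback (X ↘ Spec (CommRingCat.of A)) q).residueField zj :=
      (IsLocalRing.residue _).comp ((pullback (X ↘ Spec (CommRingCat.of A)) q).presheaf.germ ⊤ zj trivial).hom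
    let φ := (Scheme.Hom.residueFieldMap j zj).hom
    have hφ : ∀ w, φ (IsLocalRing.residue _ w) = IsLocalRing.residue _ (Scheme.Hom.stalkMap j zj w) := fun w =>
      ConcreteCategory.congr_hom (Scheme.residue_residueFieldMap j zj) w
    have hρt : ρ t = φ (η₀ β) := by
      rw [hβ, hφ, Scheme.Hom.germ_stalkMap_apply]
      exact congrArg _ h2
    let ψ := (j ≫ (X ↘ Spec (CommRingCat.of A))).appTop.hom.comp (Scheme.ΓSpecIso (CommRingCat.of A)).inv.hom
    have hψ : ψ.IsIntegralElem t := by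
      refine RingHom.IsIntegral.trans _ _ (RingHom.isIntegral_of_surjective _
        (ConcreteCategory.bijective_of_isIso (Scheme.ΓSpecIso (CommRingCat.of A)).inv).2)
        (isIntegral_appTop_of_universallyClosed (j ≫ (X ↘ Spec (CommRingCat.of A)))) t
    obtain ⟨P, hP, hP0⟩ := hψ
    refine ⟨P, hP, ?_⟩
    have hinj : Function.Injective (φ.comp η₀) := RingHom.injective _
    refine hinj ?_
    rw [map_zero, Polynomial.hom_eval₂]
    have hcomp : (φ.comp η₀).comp (algebraMap A p.ResidueField) = ρ.comp ψ := RingHom.ext fun b => by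
      show φ (η₀ (algebraMap A p.ResidueField b)) = ρ (ψ b)
      rw [hη₀a]
      show φ (IsLocalRing.residue _ (cA (X ↘ Spec (CommRingCat.of A)) _ b)) = _
      rw [hφ]
      refine congrArg (IsLocalRing.residue _) ?_
      show Scheme.Hom.stalkMap j zj (X.presheaf.germ ⊤ (j.base zj) trivial (Coh.toGlobal (X ↘ Spec (CommRingCat.of A)) b)) = _
      rw [Scheme.Hom.germ_stalkMap_apply]
      rfl
    show Polynomial.eval₂ ((φ.comp η₀).comp (algebraMap A p.ResidueField)) ((φ.comp η₀) β) P = 0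
    rw [hcomp, show (φ.comp η₀) β = ρ t from hρt.symm, ← Polynomial.hom_eval₂, hP0, map_zero]
  -- the comparison map
  let Msub : Submodule A Γ0 := (Submodule.torsionBySet A (Coh.HH X OO (0 + 1)) (p : Set A)).comap δ
  let R : Γ0 → N → Prop := fun s n => ∃ (r : A) (w : X.presheaf.stalk (j.base zj)), g • s = r • one' ∧
    (n.1 : A ⧸ Ideal.span {a}) = Submodule.mkQ (Ideal.span {a}) r ∧ germ (j.base zj) s = σ _ w ∧
    η₀ (n.2 : p.ResidueField) = IsLocalRing.residue _ w
  have hres : ∀ w w' : X.presheaf.stalk (j.base zj), σ _ w = σ _ w' →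
      IsLocalRing.residue _ w = IsLocalRing.residue _ w' := fun w w' h => by
    obtain ⟨c, hc⟩ := (hσk _ (w - w')).1 (by rw [map_sub, h, sub_self])
    rw [← sub_eq_zero, ← map_sub, hc, map_mul, show IsLocalRing.residue _ (cA (X ↘ Spec (CommRingCat.of A)) (j.base zj) a) = 0 from (hk0 a).2 hap,
      zero_mul]
  have huniq : ∀ s n n', R s n → R s n' → n = n' := by
    rintro s n n' ⟨r, w, h1, h2, h3, h4⟩ ⟨r', w', h1', h2', h3', h4'⟩
    refine Prod.ext (Subtype.ext ?_) (Subtype.ext (η₀.injective ?_))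
    · rw [h2, h2', ← sub_eq_zero, ← map_sub]
      exact (Submodule.Quotient.mk_eq_zero _).2 (hkerone _ (by rw [sub_smul, ← h1, ← h1', sub_self]))
    · rw [h4, h4']
      exact hres w w' (h3.symm.trans h3')
  have hexR : ∀ s : Msub, ∃ n, R s n := by
    rintro ⟨s, hs⟩
    have hgd : δ (g • s) = 0 := by
      rw [map_smul]; exact (Submodule.mem_torsionBySet_iff _ _).1 hs ⟨g, hgp⟩
    obtain ⟨y, hy⟩ := (Cohom.exact₃ (A := A) hS 0 _).1 hgd
    obtain ⟨r, rfl⟩ := hconst y
    have hr : g • s = r • one' := by rw [← hy, map_smul]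
    obtain ⟨w, hw⟩ := hσs _ (germ (j.base zj) s)
    have hrp : r ∈ p := by
      rw [← hk0]
      have h1 := congrArg (germ (j.base zj)) hr
      rw [hgs, ← hw, ← map_smul, smul_eq_mul, hgr] at h1
      rw [show k r = IsLocalRing.residue _ (cA (X ↘ Spec (CommRingCat.of A)) (j.base zj) r) from rfl, ← hres _ _ h1, map_mul]
      rw [show IsLocalRing.residue _ (cA (X ↘ Spec (CommRingCat.of A)) (j.base zj) g) = 0 from (hk0 g).2 hgp, zero_mul]
    obtain ⟨β, hβ⟩ := hη₀s (IsLocalRing.residue _ w)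
    exact ⟨(⟨_, r, hrp, rfl⟩, ⟨β, hint s w β hw.symm hβ⟩), r, w, hr, rfl, hw.symm, hβ⟩
  choose Ψ₀ hΨ₀ using hexR
  let Ψ : Msub →ₗ[A] N :=
    { toFun := Ψ₀
      map_add' := fun s s' => huniq _ _ _ (hΨ₀ _) (by
        obtain ⟨r, w, h1, h2, h3, h4⟩ := hΨ₀ s
        obtain ⟨r', w', h1', h2', h3', h4'⟩ := hΨ₀ s'
        refine ⟨r + r', w + w', ?_, ?_, ?_, ?_⟩
        · rw [Submodule.coe_add, smul_add, add_smul, h1, h1']
        · rw [Prod.fst_add, Submodule.coe_add, h2, h2', map_add]
        · rw [Submodule.coe_add, map_add, map_add, h3, h3']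
        · rw [Prod.snd_add, Subalgebra.coe_add, map_add, map_add, h4, h4'])
      map_smul' := fun b s => huniq _ _ _ (hΨ₀ _) (by
        obtain ⟨r, w, h1, h2, h3, h4⟩ := hΨ₀ s
        refine ⟨b * r, cA (X ↘ Spec (CommRingCat.of A)) _ b * w, ?_, ?_, ?_, ?_⟩
        · rw [Submodule.coe_smul, smul_comm, h1, smul_smul]
        · rw [RingHom.id_apply, Prod.smul_fst, Submodule.coe_smul, h2, ← map_smul, smul_eq_mul]
        · rw [Submodule.coe_smul, hgs, h3, ← map_smul, smul_eq_mul]
        · rw [RingHom.id_apply, Prod.smul_snd]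
          show η₀ (b • ((Ψ₀ s).2 : p.ResidueField)) = _
          rw [Algebra.smul_def, map_mul, map_mul, hη₀a, h4]
          rfl) }
  have hΨinj : ∀ s : Msub, Ψ s = 0 → s = 0 := by
    rintro ⟨s, hs⟩ h0
    obtain ⟨r, w, h1, h2, h3, h4⟩ := hΨ₀ ⟨s, hs⟩
    rw [show Ψ₀ ⟨s, hs⟩ = 0 from h0] at h2 h4
    simp only [Prod.fst_zero, Prod.snd_zero, ZeroMemClass.coe_zero, map_zero] at h2 h4
    obtain ⟨c, hc⟩ := Ideal.mem_span_singleton'.1 ((Submodule.Quotient.mk_eq_zero _).1 h2.symm)
    have hgz : ∀ x, germ x (g • s) = 0 := fun x => by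
      show germ x (g • (show Γ0 from s)) = 0
      rw [h1, hgr]
      exact (hσk x _).2 ⟨cA (X ↘ Spec (CommRingCat.of A)) x c, by rw [← map_mul, mul_comm, hc]⟩
    -- vanishing off the closed fibre
    have hoff : ∀ x, (X ↘ Spec (CommRingCat.of A)).base x ≠ closedPoint A → germ x s = 0 := fun x hx => by
      obtain ⟨v, hv⟩ := hσs x (germ x s)
      by_cases hax : a ∈ ((X ↘ Spec (CommRingCat.of A)).base x).asIdeal
      · by_cases hxp : ((X ↘ Spec (CommRingCat.of A)).base x).asIdeal = p
        · obtain rfl : x = j.base zj := hinjpt x _ hx ((PrimeSpectrum.ext hxp).trans hz.symm)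
          rw [h3]
          refine (hσk _ w).2 (hmaxz w ?_)
          rw [← mem_nonunits_iff, ← mem_maximalIdeal, ← residue_eq_zero_iff]
          exact h4.symm
        · have hgu : IsUnit (cA (X ↘ Spec (CommRingCat.of A)) x g) := by
            by_contra hu
            exact hg _ (mem_minimalPrimes hdim ha0 hax fun h => hx (PrimeSpectrum.ext h)) hxp
              ((not_isUnit_cA_iff (X ↘ Spec (CommRingCat.of A)) x g).1 hu)
          have h5 := hgz x
          rw [hgs] at h5
          exact (hgu.smul_eq_zero).1 h5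
      · have hau : IsUnit (cA (X ↘ Spec (CommRingCat.of A)) x a) := by
          by_contra hu
          exact hax ((not_isUnit_cA_iff (X ↘ Spec (CommRingCat.of A)) x a).1 hu)
        obtain ⟨u, hu⟩ := hau
        rw [← hv]
        exact (hσk x v).2 ⟨↑u⁻¹ * v, by rw [← hu, Units.mul_inv_cancel_left]⟩
    -- the polar parts
    choose v hv using fun x => hσs x (germ x s)
    have hR := hnp (fun x => ι x (v x) / cK (X ↘ Spec (CommRingCat.of A)) a) (fun x hx => by
      obtain ⟨c, hc⟩ := (hσk x (v x)).1 ((hv x).trans (hoff x hx))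
      refine ⟨c, ?_⟩
      rw [hc, map_mul, ι_cA, mul_div_assoc, mul_div_cancel₀ _ hcK]) (fun x q hq => by
      have h5 : σ q (Ref1.spR hq (v x)) = σ q (v q) := by
        rw [hv q]
        show stalkLin S.g q (HomSh.unitStalk q (Ref1.spR hq (v x))) = _
        rw [← Ref1.sp_unitStalk hq (v x)]
        refine (Ref1.stalkMapₗ_sp _ (φ := S.g) (h := hq) _).trans ?_
        show Ref1.sp S.X₃ hq (σ x (v x)) = _
        rw [hv x]
        exact Ref1.sp_germ _ hq _ _
      obtain ⟨c, hc⟩ := (hσk q _).1 (show σ q (Ref1.spR hq (v x) - v q) = 0 by rw [map_sub, h5, sub_self])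
      refine ⟨c, ?_⟩
      rw [← sub_div, ← ι_spR hq (v x), ← map_sub, hc, map_mul, ι_cA, mul_div_assoc, mul_div_cancel₀ _ hcK])
    refine Subtype.ext ((ProjCoh.H0top S.X₃).injective ?_)
    rw [show ((0 : Msub) : Γ0) = 0 from rfl, map_zero]
    refine TopCat.Presheaf.section_ext ⟨S.X₃.presheaf, S.X₃.isSheaf⟩ ⊤ _ _ fun x _ => ?_
    show germ x s = S.X₃.presheaf.germ ⊤ x trivial 0
    rw [map_zero, ← hv x]
    obtain ⟨c, hc⟩ := hR x
    refine (hσk x (v x)).2 ⟨c, ι_injective x ?_⟩
    rw [map_mul, ι_cA, hc, mul_div_cancel₀ _ hcK]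
  -- conclusion
  have hone : one' ∈ Msub := (Submodule.mem_torsionBySet_iff _ _).2 fun b => by
    rw [show δ one' = 0 from (Cohom.exact₃ (A := A) hS 0 _).2 ⟨one₀, rfl⟩, smul_zero]
  have hΨone : Ψ ⟨one', hone⟩ = ψ₀ := huniq _ _ _ (hΨ₀ _) ⟨g, 1, rfl, rfl, hgone _, by
    show η₀ ((1 : integralClosure A p.ResidueField) : p.ResidueField) = _
    rw [OneMemClass.coe_one, map_one, map_one]⟩
  let δ' : Msub →ₗ[A] ↥(Submodule.torsionBySet A (Coh.HH X OO (0 + 1)) (p : Set A)) :=
    LinearMap.codRestrict _ (δ ∘ₗ Msub.subtype) fun s => s.2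
  have hδ' : Function.Surjective δ' := fun τ => by
    have h0 : Cohom.hhMap A S.f (0 + 1) τ.1 = 0 := by
      show a • τ.1 = 0
      exact (Submodule.mem_torsionBySet_iff _ _).1 τ.2 ⟨a, hap⟩
    obtain ⟨s, hs⟩ := (Cohom.exact₁ (A := A) hS 0 _).1 h0
    exact ⟨⟨s, show δ s ∈ _ by rw [show δ s = τ.1 from hs]; exact τ.2⟩, Subtype.ext hs⟩
  let Φ : Msub →ₗ[A] (N ⧸ Submodule.span A {ψ₀}) := (Submodule.mkQ _) ∘ₗ Ψ
  have hker : LinearMap.ker Φ ≤ LinearMap.ker δ' := fun s hs => by
    obtain ⟨c, hc⟩ := Submodule.mem_span_singleton.1 ((Submodule.Quotient.mk_eq_zero _).1 (LinearMap.mem_ker.1 hs))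
    have h5 : s = c • (⟨one', hone⟩ : Msub) :=
      sub_eq_zero.1 (hΨinj _ (by rw [map_sub, map_smul, hΨone, hc, sub_self]))
    rw [LinearMap.mem_ker, h5, map_smul]
    have h6 : δ' ⟨one', hone⟩ = 0 := Subtype.ext ((Cohom.exact₃ (A := A) hS 0 _).2 ⟨one₀, rfl⟩)
    rw [h6, smul_zero]
  calc Module.length A ↥(Submodule.torsionBySet A (Coh.HH X OO (0 + 1)) (p : Set A))
      ≤ Module.length A (Msub ⧸ LinearMap.ker Φ) := by
        refine Module.length_le_of_surjective (Submodule.liftQ _ δ' hker) fun τ => ?_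
        obtain ⟨s, hs⟩ := hδ' τ
        exact ⟨Submodule.Quotient.mk s, hs⟩
    _ ≤ _ := Module.length_le_of_injective (Submodule.liftQ _ Φ le_rfl) (LinearMap.ker_eq_bot.1
        (Submodule.ker_liftQ_eq_bot' _ Φ rfl))

end Stalk

/-- The data attached to a height one prime. -/
theorem exists_bound_prime [IsIntegrallyClosed A] (hN : CAlg.IsNagata A) (hdim : ringKrullDim A = 2)
    {p : Ideal A} [p.IsPrime] (hp0 : p ≠ ⊥) (hpm : p ≠ maximalIdeal A) :
    ∃ N : ℕ, ∀ (X : Scheme.{u}) [X.Over (Spec (CommRingCat.of A))], IsProper (X ↘ Spec (CommRingCat.of A)) →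
      IsIntegral X → Pi1.IsNormalScheme X →
      (∃ U : (Spec (CommRingCat.of A)).Opens, (U : Set (Spec (CommRingCat.of A))).Nonempty ∧ IsIso ((X ↘ Spec (CommRingCat.of A)) ∣_ U)) →
      Module.length A ↥(Submodule.torsionBySet A (Coh.HH X (Coh.structureModule X) 1) (p : Set A)) ≤ (N : ℕ∞) := by
  classical
  haveI : IsDomain (Localization.AtPrime p) := IsLocalization.isDomain_localization p.primeCompl_le_nonZeroDivisors
  haveI : IsIntegrallyClosed (Localization.AtPrime p) :=
    isIntegrallyClosed_of_isLocalization _ p.primeCompl p.primeCompl_le_nonZeroDivisors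
  haveI : Ring.KrullDimLE 1 (Localization.AtPrime p) := Ring.krullDimLE_iff.2 (by
    rw [IsLocalization.AtPrime.ringKrullDim_eq_height p (Localization.AtPrime p)]
    refine WithBot.coe_le_coe.2 ((Ideal.height_le_iff (n := 1)).2 fun q hq hqp => ?_)
    by_contra hne
    have hq0 : q ≠ ⊥ := fun h => hne (by
      haveI := hq
      rw [h, Ideal.height_bot]; norm_num)
    obtain ⟨b, hb, hb0⟩ := Submodule.exists_mem_ne_zero_of_ne_bot hq0
    haveI := hq
    have hqm : q ≠ maximalIdeal A := fun h => (hqp.trans_le (le_maximalIdeal ‹p.IsPrime›.ne_top)).ne h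
    have h1 := mem_minimalPrimes hdim hb0 (hqp.le hb) hpm
    exact hqp.not_ge (h1.2 ⟨hq, by simpa using hb⟩ hqp.le))
  have hnf : ¬ IsField (Localization.AtPrime p) := fun h => hp0 (by
    have h1 := IsLocalRing.isField_iff_maximalIdeal_eq.1 h
    rw [← Localization.AtPrime.map_eq_maximalIdeal] at h1
    exact eq_bot_iff.2 fun x hx => IsLocalization.injective (Localization.AtPrime p) p.primeCompl_le_nonZeroDivisors (by
      rw [map_zero]
      have := Ideal.mem_map_of_mem (algebraMap A (Localization.AtPrime p)) hx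
      rw [h1] at this
      exact this))
  have hmax0 : maximalIdeal (Localization.AtPrime p) ≠ ⊥ := fun h => hnf (IsLocalRing.isField_iff_maximalIdeal_eq.2 h)
  have hpr : (maximalIdeal (Localization.AtPrime p)).IsPrincipal :=
    ((IsDiscreteValuationRing.TFAE (Localization.AtPrime p) hnf).out 3 4
      (a := IsIntegrallyClosed (Localization.AtPrime p) ∧
        ∃! P : Ideal (Localization.AtPrime p), P ≠ ⊥ ∧ P.IsPrime)
      (b := (maximalIdeal (Localization.AtPrime p)).IsPrincipal)).1 ⟨inferInstance,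
      maximalIdeal (Localization.AtPrime p), ⟨hmax0, inferInstance⟩, fun P hP =>
        eq_maximalIdeal ((Ring.krullDimLE_one_iff_of_noZeroDivisors.1 inferInstance) P hP.1 hP.2)⟩
  obtain ⟨ϖ, hϖ⟩ : ∃ ϖ, maximalIdeal (Localization.AtPrime p) = Ideal.span {ϖ} := hpr.principal
  obtain ⟨⟨a, t₀⟩, hat⟩ := IsLocalization.surj p.primeCompl ϖ
  have ht₀u : IsUnit (algebraMap A (Localization.AtPrime p) t₀.1) := IsLocalization.map_units _ t₀
  have hspan : maximalIdeal (Localization.AtPrime p) = Ideal.span {algebraMap A _ a} := by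
    rw [hϖ, ← hat]
    exact (Ideal.span_singleton_mul_right_unit ht₀u ϖ).symm
  have hap : a ∈ p := by
    rw [← IsLocalization.AtPrime.to_map_mem_maximal_iff (Localization.AtPrime p) p a, hspan]
    exact Ideal.mem_span_singleton_self _
  have ha0 : a ≠ 0 := fun h => hnf (IsLocalRing.isField_iff_maximalIdeal_eq.2 (by rw [hspan, h, map_zero, Ideal.span_singleton_zero]))
  have hpa : ∀ x ∈ p, ∃ t, t ∉ p ∧ t * x ∈ Ideal.span {a} := fun x hx => by
    have h1 : algebraMap A (Localization.AtPrime p) x ∈ (Ideal.span {a}).map (algebraMap A (Localization.AtPrime p)) := by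
      rw [Ideal.map_span, Set.image_singleton, ← hspan, IsLocalization.AtPrime.to_map_mem_maximal_iff (Localization.AtPrime p) p]
      exact hx
    obtain ⟨t, ht, he⟩ := (IsLocalization.algebraMap_mem_map_algebraMap_iff p.primeCompl _ _ _).1 h1
    exact ⟨t, ht, he⟩
  obtain ⟨g, hgp, hg⟩ : ∃ g ∈ p, ∀ q ∈ (Ideal.span {a}).minimalPrimes, q ≠ p → g ∉ q := by
    have hfin := ((Ideal.span {a}).finite_minimalPrimes_of_isNoetherianRing A).sdiff (t := {p})
    by_contra hne
    push Not at hne
    have hsub : (p : Set A) ⊆ ⋃ q ∈ (hfin.toFinset : Set (Ideal A)), (q : Set A) := fun x hx => by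
      obtain ⟨q, hq, hqp, hxq⟩ := hne x hx
      exact Set.mem_biUnion (show q ∈ (hfin.toFinset : Set (Ideal A)) by simp [hq, hqp]) hxq
    obtain ⟨q, hq, hle⟩ := (Ideal.subset_union_prime p p fun q hq _ _ => by
      simp only [Set.Finite.mem_toFinset, Set.mem_diff] at hq
      exact hq.1.1.1).1 hsub
    simp only [Set.Finite.mem_toFinset, Set.mem_diff, Set.mem_singleton_iff] at hq
    exact hq.2 (le_antisymm (hq.1.2 ⟨‹_›, by simpa using hap⟩ hle) hle)
  haveI : Module.Finite A (integralClosure A p.ResidueField) :=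
    N2.finite_integralClosure_field_of_isN2 p.ResidueField (by
      have h := hN.2 p
      convert h using 2 <;> simp [Ideal.ker_algebraMap_residueField])
  let N := ↥(Submodule.map (Submodule.mkQ (Ideal.span {a})) p) × ↥(integralClosure A p.ResidueField)
  let ψ₀ : N := (⟨Submodule.mkQ (Ideal.span {a}) g, g, hgp, rfl⟩, 1)
  have hfl : IsFiniteLength A (N ⧸ Submodule.span A {ψ₀}) := isFiniteLength_of_local fun q hq hqm z => by
    obtain ⟨⟨⟨_, x, hx, rfl⟩, β⟩, rfl⟩ := Submodule.Quotient.mk_surjective _ z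
    have key : ∀ t : A, (∃ c : A, c * g - t * x ∈ Ideal.span {a} ∧
        algebraMap A p.ResidueField c = algebraMap A p.ResidueField t * (β : p.ResidueField)) →
        t • (Submodule.Quotient.mk ((⟨Submodule.mkQ (Ideal.span {a}) x, x, hx, rfl⟩, β) : N) : N ⧸ Submodule.span A {ψ₀}) = 0 := by
      rintro t ⟨c, hc1, hc2⟩
      rw [← Submodule.Quotient.mk_smul, Submodule.Quotient.mk_eq_zero, Submodule.mem_span_singleton]
      refine ⟨c, Prod.ext (Subtype.ext ?_) (Subtype.ext ?_)⟩
      · show c • Submodule.mkQ (Ideal.span {a}) g = t • Submodule.mkQ (Ideal.span {a}) x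
        rw [← map_smul, ← map_smul, ← sub_eq_zero, ← map_sub]
        exact (Submodule.Quotient.mk_eq_zero _).2 hc1
      · show c • (1 : p.ResidueField) = t • (β : p.ResidueField)
        rw [Algebra.smul_def, Algebra.smul_def, mul_one, hc2]
    have hzero : ∀ t ∈ p, algebraMap A p.ResidueField t = 0 := fun t ht => Ideal.algebraMap_residueField_eq_zero.2 ht
    by_cases haq : a ∈ q
    · by_cases hqp : q = p
      · subst hqp
        obtain ⟨⟨c, s⟩, hcs⟩ := IsLocalization.surj (nonZeroDivisors (A ⧸ q)) (β : q.ResidueField)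
        obtain ⟨c, rfl⟩ := Ideal.Quotient.mk_surjective c
        obtain ⟨s', hs'⟩ := Ideal.Quotient.mk_surjective s.1
        have hs'q : s' ∉ q := fun h => nonZeroDivisors.coe_ne_zero s
          (by rw [← hs']; exact Ideal.Quotient.eq_zero_iff_mem.2 h)
        obtain ⟨t, ht, htx⟩ := hpa x hx
        obtain ⟨t', ht', htg⟩ := hpa g hgp
        refine ⟨t * t' * s', fun h => (hq.mem_or_mem h).elim (fun h' => (hq.mem_or_mem h').elim ht ht') hs'q,
          key _ ⟨t * t' * c, ?_, ?_⟩⟩
        · refine sub_mem ?_ ?_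
          · rw [show t * t' * c * g = (t * c) * (t' * g) by ring]
            exact Ideal.mul_mem_left _ _ htg
          · rw [show t * t' * s' * x = (t' * s') * (t * x) by ring]
            exact Ideal.mul_mem_left _ _ htx
        · rw [map_mul, map_mul (algebraMap A q.ResidueField) (t * t') s', mul_assoc]
          refine congrArg _ ?_
          rw [IsScalarTower.algebraMap_apply A (A ⧸ q) q.ResidueField, IsScalarTower.algebraMap_apply A (A ⧸ q) q.ResidueField]
          show _ = algebraMap (A ⧸ q) q.ResidueField (Ideal.Quotient.mk q s') * _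
          rw [hs', mul_comm]
          exact hcs.symm
      · exact ⟨g, hg q (mem_minimalPrimes hdim ha0 haq hqm) hqp, key g ⟨x, by rw [mul_comm, sub_self]; exact zero_mem _,
          by rw [hzero x hx, hzero g hgp, zero_mul]⟩⟩
    · exact ⟨a, haq, key a ⟨0, by rw [zero_mul, zero_sub]; exact neg_mem (Ideal.mul_mem_right _ _ (Ideal.mem_span_singleton_self a)),
        by rw [hzero a hap, zero_mul, map_zero]⟩⟩
  obtain ⟨n, hn⟩ := ENat.ne_top_iff_exists.1 (Module.length_ne_top_iff.2 hfl)
  refine ⟨n, fun X _ hp hi hX hb => ?_⟩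
  haveI := hp
  haveI := hi
  exact (length_torsion_le hdim hX hb hpm ha0 hap hpa hgp hg).trans hn.ge

/-- **The torsion killed by a fixed element is bounded uniformly.** -/
theorem exists_bound_torsionBy [IsIntegrallyClosed A] (hN : CAlg.IsNagata A) (hdim : ringKrullDim A = 2)
    {a : A} (ha : a ≠ 0) :
    ∃ N : ℕ, ∀ (X : Scheme.{u}) [X.Over (Spec (CommRingCat.of A))], IsProper (X ↘ Spec (CommRingCat.of A)) →
      IsIntegral X → Pi1.IsNormalScheme X →
      (∃ U : (Spec (CommRingCat.of A)).Opens, (U : Set (Spec (CommRingCat.of A))).Nonempty ∧ IsIso ((X ↘ Spec (CommRingCat.of A)) ∣_ U)) →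
      Module.length A ↥(Submodule.torsionBy A (Coh.HH X (Coh.structureModule X) 1) a) ≤ (N : ℕ∞) := by
  classical
  let P : Ideal A → Prop := fun J => ∃ N : ℕ, ∀ (X : Scheme.{u}) [X.Over (Spec (CommRingCat.of A))],
      IsProper (X ↘ Spec (CommRingCat.of A)) → IsIntegral X → Pi1.IsNormalScheme X →
      (∃ U : (Spec (CommRingCat.of A)).Opens, (U : Set (Spec (CommRingCat.of A))).Nonempty ∧ IsIso ((X ↘ Spec (CommRingCat.of A)) ∣_ U)) →
      Module.length A ↥(Submodule.torsionBySet A (Coh.HH X (Coh.structureModule X) 1) (J : Set A)) ≤ (N : ℕ∞)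
  have hone : P 1 := ⟨0, fun X _ _ _ _ _ => by
    rw [Ideal.one_eq_top, Nat.cast_zero, nonpos_iff_eq_zero, Module.length_eq_zero_iff]
    refine ⟨fun x y => Subtype.ext ?_⟩
    have h1 := (Submodule.mem_torsionBySet_iff _ _).1 x.2 ⟨1, trivial⟩
    have h2 := (Submodule.mem_torsionBySet_iff _ _).1 y.2 ⟨1, trivial⟩
    simp only [one_smul] at h1 h2
    rw [h1, h2]⟩
  have hmul : ∀ I J, P I → P J → P (I * J) := by
    rintro I J ⟨N₁, h₁⟩ ⟨N₂, h₂⟩
    obtain ⟨G, hG⟩ := (IsNoetherian.noetherian I : I.FG)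
    refine ⟨N₁ + G.card * N₂, fun X _ hp hi hX hb => ?_⟩
    let T := Coh.HH X (Coh.structureModule X) 1
    let TIJ := Submodule.torsionBySet A T ((I * J : Ideal A) : Set A)
    let TI := Submodule.torsionBySet A T (I : Set A)
    let TJ := Submodule.torsionBySet A T (J : Set A)
    have hmem : ∀ (x : TIJ) (i : G), (i : A) • (x : T) ∈ TJ := fun x i =>
      (Submodule.mem_torsionBySet_iff _ _).2 fun c => by
        show (c : A) • (i : A) • (x : T) = 0
        rw [smul_smul]
        exact (Submodule.mem_torsionBySet_iff _ _).1 x.2 ⟨_, by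
          show _ ∈ I * J; rw [mul_comm (c : A)]; exact Ideal.mul_mem_mul (hG.le (Submodule.subset_span i.2)) c.2⟩
    let φ : TIJ →ₗ[A] (G → TJ) :=
      { toFun := fun x i => ⟨(i : A) • (x : T), hmem x i⟩
        map_add' := fun x y => funext fun i => Subtype.ext (smul_add _ _ _)
        map_smul' := fun c x => funext fun i => Subtype.ext (smul_comm _ _ _) }
    let ι' : LinearMap.ker φ →ₗ[A] TI := LinearMap.codRestrict _ (TIJ.subtype ∘ₗ (LinearMap.ker φ).subtype) fun x =>
      (Submodule.mem_torsionBySet_iff _ _).2 fun c => by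
        have hc : (c : A) ∈ Ideal.span (G : Set A) := hG.symm ▸ c.2
        show (c : A) • ((x : TIJ) : T) = 0
        refine Submodule.span_induction (fun i hi => ?_) (zero_smul _ _)
          (fun u v _ _ hu hv => by rw [add_smul, hu, hv, add_zero])
          (fun r u _ hu => by rw [smul_eq_mul, mul_smul, hu, smul_zero]) hc
        exact congrArg (fun f : G → TJ => ((f ⟨i, hi⟩ : TJ) : T)) x.2
    have hinj : Function.Injective ι' := fun x y h =>
      Subtype.ext (Subtype.ext (congrArg (fun v : TI => (v : T)) h))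
    calc Module.length A TIJ = Module.length A (LinearMap.ker φ) + Module.length A (LinearMap.range φ) :=
          Module.length_eq_add_of_exact _ φ.rangeRestrict Subtype.val_injective φ.surjective_rangeRestrict
            (LinearMap.exact_iff.2 (by rw [LinearMap.ker_rangeRestrict, Submodule.range_subtype]))
      _ ≤ (N₁ : ℕ∞) + (G.card * N₂ : ℕ) := add_le_add
          ((Module.length_le_of_injective ι' hinj).trans (h₁ X hp hi hX hb)) (by
          refine (Module.length_le_of_injective (LinearMap.range φ).subtype Subtype.val_injective).trans ?_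
          rw [Module.length_pi_of_fintype, Nat.cast_mul]
          refine (Finset.sum_le_card_nsmul _ _ _ fun i _ => h₂ X hp hi hX hb).trans ?_
          rw [Finset.card_univ, Fintype.card_coe, nsmul_eq_mul])
      _ = _ := (Nat.cast_add _ _).symm
  have hfin := (Ideal.span {a}).finite_minimalPrimes_of_isNoetherianRing A
  have hprod : P (∏ q ∈ hfin.toFinset, q) := by
    refine Finset.prod_induction _ P hmul hone fun q hq => ?_
    rw [Set.Finite.mem_toFinset] at hq
    haveI := hq.1.1
    by_cases hqm : q = maximalIdeal A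
    · exfalso
      have hht : q.height ≤ 1 := Ideal.height_le_one_of_isPrincipal_of_mem_minimalPrimes (Ideal.span {a}) q hq
      have hdm : ringKrullDim A = (maximalIdeal A).height := (IsLocalRing.maximalIdeal_height_eq_ringKrullDim).symm
      rw [hdim, ← hqm] at hdm
      have : ((2 : ℕ∞) : WithBot ℕ∞) = (q.height : WithBot ℕ∞) := hdm
      have h2 : (2 : ℕ∞) ≤ 1 := (WithBot.coe_inj.1 this).le.trans hht
      norm_num at h2
    · exact exists_bound_prime hN hdim (fun h => ha (by
        have := hq.1.2 (Ideal.mem_span_singleton_self a)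
        rwa [h] at this)) hqm
  have hrad : (∏ q ∈ hfin.toFinset, q) ≤ (Ideal.span {a}).radical := by
    rw [← Ideal.sInf_minimalPrimes]
    refine le_sInf fun q hq => Ideal.prod_le_inf.trans (Finset.inf_le (f := fun q : Ideal A => q) ?_)
    rwa [Set.Finite.mem_toFinset]
  obtain ⟨n, hn⟩ := Ideal.exists_pow_le_of_le_radical_of_fg hrad (IsNoetherian.noetherian _)
  obtain ⟨N, hN'⟩ : P ((∏ q ∈ hfin.toFinset, q) ^ n) := by
    clear hn
    induction n with
    | zero => rwa [pow_zero]
    | succ n ih => rw [pow_succ]; exact hmul _ _ ih hprod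
  refine ⟨N, fun X _ hp hi hX hb => le_trans ?_ (hN' X hp hi hX hb)⟩
  refine Module.length_le_of_injective (Submodule.inclusion fun x hx => ?_) (Submodule.inclusion_injective _)
  refine (Submodule.mem_torsionBySet_iff _ _).2 fun c => ?_
  obtain ⟨d, hd⟩ := Ideal.mem_span_singleton'.1 (hn c.2)
  rw [← hd, mul_smul, (Submodule.mem_torsionBy_iff _ _).1 hx, smul_zero]

end GrothLib.RightAdj20.TorsionBound
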