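import Groth.Agent.Lib.RightAdj20.DominateModif
import Groth.Agent.Lib.RatSing29.NormCover
import Groth.Agent.Lib.RatSing29.Join
import Groth.Agent.Lib.RatSing29.TraceMap
import Groth.Agent.Lib.DetRank12.Geometry
import Groth.Agent.Lib.Snapper.PushEuler
import Groth.Agent.Lib.Euler.Scalar
import Groth.Agent.Lib.RightAdj20.TorsionBound
import Groth.Agent.S7338
import Mathlib.RingTheory.Length
import Mathlib.RingTheory.Trace.Basic

/-!
# Reduction to rational singularities goes up a separable extension
-/

set_option autoImplicit false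
set_option maxHeartbeats 1000000
set_option linter.style.haveILetI false
set_option linter.all false
set_option backward.isDefEq.respectTransparency false

universe u

open AlgebraicGeometry CategoryTheory CategoryTheory.Limits TopologicalSpace Opposite
open GrothLib.RatSing29

noncomputable section

namespace GrothLib.RightAdj20.Dom

variable {A : Type u} [CommRing A] [IsDomain A] [IsNoetherianRing A] [IsIntegrallyClosed A]
  {B : Type u} [CommRing B] [IsDomain B] [IsIntegrallyClosed B] [Algebra A B] [Module.Finite A B]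

/-- **The normalisation of a modification in a finite separable extension.** -/
theorem exists_normal_cover_over (hinj : Function.Injective (algebraMap A B))
    (K L : Type u) [Field K] [Field L] [Algebra A K] [IsFractionRing A K] [Algebra B L] [IsFractionRing B L]
    [Algebra K L] [Algebra A L] [IsScalarTower A K L] [IsScalarTower A B L] [Algebra.IsSeparable K L]
    [FiniteDimensional K L]
    {Y : Scheme.{u}} [IsIntegral Y] (hYn : Pi1.IsNormalScheme Y) (f : Y ⟶ Spec (CommRingCat.of A)) [IsProper f]
    (hbir : ∃ U : (Spec (CommRingCat.of A)).Opens, (U : Set ↥(Spec (CommRingCat.of A))).Nonempty ∧ IsIso (f ∣_ U)) :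
    ∃ (X : Scheme.{u}) (_ : IsIntegral X) (π : X ⟶ Y) (_ : Surjective π) (_ : IsFinite π)
      (h : X ⟶ Spec (CommRingCat.of B)),
      Pi1.IsNormalScheme X ∧ h ≫ Spec.map (CommRingCat.ofHom (algebraMap A B)) = π ≫ f ∧ IsProper h ∧
      ∃ U : (Spec (CommRingCat.of B)).Opens, (U : Set ↥(Spec (CommRingCat.of B))).Nonempty ∧ IsIso (h ∣_ U) := by
  haveI : IsLocallyNoetherian Y := LocallyOfFiniteType.isLocallyNoetherian f
  haveI : CompactSpace Y := QuasiCompact.compactSpace_of_compactSpace f
  obtain ⟨U, hU, hiso⟩ := hbir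
  obtain ⟨a, ha, hV, hloc, hηV⟩ := exists_chart_modification f hU hiso
  obtain ⟨φ, eK, hφK, hφA⟩ := exists_functionField_hom K L f ha hV hloc hηV
  letI iFL : Algebra Y.functionField L := φ.toAlgebra
  have hsq : (algebraMap Y.functionField L).comp eK.toRingHom = (RingEquiv.refl L).toRingHom.comp (algebraMap K L) := by
    rw [show algebraMap Y.functionField L = φ from rfl, hφK]; rfl
  have hφ : φ = (algebraMap K L).comp eK.symm.toRingHom := RingHom.ext fun z => by
    rw [RingHom.comp_apply, ← hφK]
    show φ z = φ (eK (eK.symm z))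
    rw [eK.apply_symm_apply]
  have hfin : φ.Finite := hφ ▸ RingHom.Finite.comp (RingHom.finite_algebraMap.2 inferInstance)
    (RingHom.Finite.of_surjective _ eK.symm.surjective)
  haveI : Algebra.IsSeparable Y.functionField L := Algebra.IsSeparable.of_equiv_equiv eK (RingEquiv.refl L) hsq
  have hdeg : Module.finrank K L = Module.finrank Y.functionField L :=
    Algebra.finrank_eq_of_equiv_equiv eK (RingEquiv.refl L) hsq
  let g : Spec (CommRingCat.of L) ⟶ Y := Spec.map (CommRingCat.ofHom φ) ≫ Y.fromSpecStalk (genericPoint Y)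
  haveI : QuasiCompact g := inferInstance
  haveI : QuasiSeparated g := inferInstance
  haveI := surjective_fromNormalization φ g rfl
  haveI : IsFinite g.fromNormalization := isFinite_fromNormalization_of_separable φ g rfl hYn hfin ‹_›
  let π := g.fromNormalization
  have hψ := psi_bijective φ g rfl hfin
  -- the morphism to `Spec B`
  have hglob : ∀ b : B, ∃ s : Γ(g.normalization, ⊤),
      psi g (g.normalization.presheaf.germ ⊤ (genericPoint g.normalization) trivial s) = algebraMap B L b := fun b =>
    exists_global_section φ g rfl hfin _ fun {_} => by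
      obtain ⟨P, hP, hP0⟩ := Algebra.IsIntegral.isIntegral (R := A) b
      refine ⟨P.map (f.appTop.hom.comp (Scheme.ΓSpecIso (CommRingCat.of A)).inv.hom), hP.map _, ?_⟩
      rw [Polynomial.eval₂_map]
      have he : (φ.comp (Y.germToFunctionField ⊤).hom).comp
          (f.appTop.hom.comp (Scheme.ΓSpecIso (CommRingCat.of A)).inv.hom) = algebraMap A L := by
        refine RingHom.ext fun x => ?_
        refine Eq.trans (congrArg φ ?_) (hφA ⊤ trivial x)
        exact (TopCat.Presheaf.germ_res_apply _ _ _ _ _).symm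
      rw [he, IsScalarTower.algebraMap_eq A B L, ← Polynomial.hom_eval₂, hP0, map_zero]
  let γ : Γ(g.normalization, ⊤) →+* L :=
    (psi g).comp (g.normalization.presheaf.germ ⊤ (genericPoint g.normalization) trivial).hom
  have hγ : Function.Injective γ := hψ.1.comp (germ_injective_of_isIntegral g.normalization _ _)
  let ρ : B →+* Γ(g.normalization, ⊤) :=
    { toFun := fun b => (hglob b).choose
      map_one' := hγ ((hglob 1).choose_spec.trans ((map_one (algebraMap B L)).trans (map_one γ).symm))
      map_mul' := fun x y => hγ (((hglob _).choose_spec.trans (map_mul (algebraMap B L) x y)).trans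
        ((congrArg₂ (· * ·) (hglob x).choose_spec.symm (hglob y).choose_spec.symm).trans (map_mul γ _ _).symm))
      map_zero' := hγ ((hglob 0).choose_spec.trans ((map_zero (algebraMap B L)).trans (map_zero γ).symm))
      map_add' := fun x y => hγ (((hglob _).choose_spec.trans (map_add (algebraMap B L) x y)).trans
        ((congrArg₂ (· + ·) (hglob x).choose_spec.symm (hglob y).choose_spec.symm).trans (map_add γ _ _).symm)) }
  have hρ : ∀ b, γ (ρ b) = algebraMap B L b := fun b => (hglob b).choose_spec
  have hρA : ρ.comp (algebraMap A B) = π.appTop.hom.comp (f.appTop.hom.comp (Scheme.ΓSpecIso (CommRingCat.of A)).inv.hom) := by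
    refine RingHom.ext fun x => hγ ?_
    show γ (ρ (algebraMap A B x)) = _
    rw [hρ, ← IsScalarTower.algebraMap_apply]
    show _ = psi g (g.normalization.presheaf.germ (π ⁻¹ᵁ ⊤) _ trivial (π.app ⊤ _))
    rw [← NormAmple.fmap_germ π (W := ⊤) trivial trivial]
    refine Eq.trans ?_ (RingHom.congr_fun (psi_fmap φ g rfl) _).symm
    refine Eq.trans (hφA ⊤ trivial x).symm (congrArg φ ?_)
    exact TopCat.Presheaf.germ_res_apply _ _ _ _ _
  let h : g.normalization ⟶ Spec (CommRingCat.of B) := g.normalization.toSpecΓ ≫ Spec.map (CommRingCat.ofHom ρ)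
  let q : Spec (CommRingCat.of B) ⟶ Spec (CommRingCat.of A) := Spec.map (CommRingCat.ofHom (algebraMap A B))
  have hhq : h ≫ q = π ≫ f := by
    show (g.normalization.toSpecΓ ≫ Spec.map (CommRingCat.ofHom ρ)) ≫ Spec.map (CommRingCat.ofHom (algebraMap A B)) = _
    rw [Category.assoc, ← Spec.map_comp]
    have e : CommRingCat.ofHom (algebraMap A B) ≫ CommRingCat.ofHom ρ =
        (Scheme.ΓSpecIso (CommRingCat.of A)).inv ≫ (π ≫ f).appTop := by
      apply CommRingCat.hom_ext
      exact hρA
    rw [e, Spec.map_comp, ← Scheme.toSpecΓ_naturality_assoc, toSpecΓ_SpecMap_ΓSpecIso_inv, Category.comp_id]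
  haveI : IsProper h := by
    haveI : IsProper (h ≫ q) := by rw [hhq]; infer_instance
    exact IsProper.of_comp h q
  refine ⟨g.normalization, inferInstance, π, inferInstance, inferInstance, h, NormExt8.isNormalScheme φ g rfl,
    hhq, inferInstance, PrimeSpectrum.basicOpen (algebraMap A B a), ?_, ?_⟩
  · refine ⟨(⊥ : PrimeSpectrum B), ?_⟩
    show algebraMap A B a ∉ (⊥ : Ideal B)
    exact fun h0 => ha (hinj (by rw [map_zero]; exact h0))
  have hpre : h ⁻¹ᵁ (PrimeSpectrum.basicOpen (algebraMap A B a)) = π ⁻¹ᵁ (f ⁻¹ᵁ PrimeSpectrum.basicOpen a) := by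
    rw [show PrimeSpectrum.basicOpen (algebraMap A B a) = q ⁻¹ᵁ PrimeSpectrum.basicOpen a from
      (PrimeSpectrum.comap_basicOpen _ a).symm]
    rw [← Scheme.Hom.comp_preimage, ← Scheme.Hom.comp_preimage, hhq]
  have hη : genericPoint g.normalization ∈ h ⁻¹ᵁ (PrimeSpectrum.basicOpen (algebraMap A B a)) := by
    rw [hpre]; exact NormAmple.genericPoint_mem_preimage π hηV
  refine isIso_restrict_of_sections (L := L) h (psi g) hψ.1 (hpre ▸ hV.preimage π) hη (fun b => ?_) fun s => ?_
  · rw [secHom_res, TopCat.Presheaf.germ_res_apply]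
    have e2 : h.appTop ((Scheme.ΓSpecIso (CommRingCat.of B)).inv b) = ρ b := by
      show (g.normalization.toSpecΓ ≫ Spec.map (CommRingCat.ofHom ρ)).appTop _ = _
      rw [Scheme.Hom.comp_appTop, Scheme.toSpecΓ_appTop]
      have e3 := congr($(Scheme.ΓSpecIso_inv_naturality (CommRingCat.ofHom ρ)) b)
      refine Eq.trans (congrArg (Scheme.ΓSpecIso Γ(g.normalization, ⊤)).hom e3.symm) ?_
      exact congr($(Iso.inv_hom_id (Scheme.ΓSpecIso Γ(g.normalization, ⊤))) (ρ b))
    rw [e2]
    exact hρ b
  · let V : Y.Opens := f ⁻¹ᵁ PrimeSpectrum.basicOpen a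
    haveI : Nonempty V := ⟨⟨_, hηV⟩⟩
    have key : ∀ (W : g.normalization.Opens) (hW' : genericPoint g.normalization ∈ W) (e : W = π ⁻¹ᵁ V)
        (t : Γ(g.normalization, W)),
        (φ.comp (Y.germToFunctionField V).hom).IsIntegralElem (psi g (g.normalization.presheaf.germ W _ hW' t)) := by
      rintro W hW' rfl t
      obtain ⟨-, -, hiff⟩ := NormExt8.exists_chart φ g rfl hV (genericPoint_mem_pre φ g rfl hηV)
      rw [psi_germ g _ (genericPoint_mem_pre φ g rfl hηV)]
      exact (hiff _).2 ⟨t, rfl⟩
    have hint := key _ hη hpre s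
    letI : Algebra A Γ(Y, V) := (secHom f (PrimeSpectrum.basicOpen a)).toAlgebra
    haveI : IsLocalization.Away a Γ(Y, V) := hloc
    letI : Algebra Γ(Y, V) L := (φ.comp (Y.germToFunctionField V).hom).toAlgebra
    haveI : IsScalarTower A Γ(Y, V) L := IsScalarTower.of_algebraMap_eq fun x => by
      show _ = φ (Y.presheaf.germ V _ hηV (secHom f (PrimeSpectrum.basicOpen a) x))
      rw [secHom_res]
      exact (hφA V hηV x).symm
    obtain ⟨⟨m, n, hn⟩, hm⟩ := IsIntegral.exists_multiple_integral_of_isLocalization (Submonoid.powers a)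
      (Rₘ := Γ(Y, V)) (psi g (g.normalization.presheaf.germ _ _ hη s)) hint
    obtain ⟨b, hb⟩ := IsIntegrallyClosed.isIntegral_iff.1 (hm.tower_top (A := B))
    refine ⟨b, n, ?_⟩
    rw [hb, Submonoid.smul_def, Algebra.smul_def, ← IsScalarTower.algebraMap_apply, ← map_pow, mul_comm]
    exact congrArg (fun z => algebraMap A L z * _) hn


omit [IsNoetherianRing A] [IsIntegrallyClosed A] [IsIntegrallyClosed B] in
/-- **A decomposition of a nonzero multiple of the identity through traces.** -/
theorem exists_trace_decomposition [IsIntegrallyClosed B] (hinj : Function.Injective (algebraMap A B))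
    (K L : Type u) [Field K] [Field L] [Algebra A K] [IsFractionRing A K] [Algebra B L] [IsFractionRing B L]
    [Algebra K L] [Algebra A L] [IsScalarTower A K L] [IsScalarTower A B L] [Algebra.IsSeparable K L]
    [FiniteDimensional K L] :
    ∃ (d : A) (_ : d ≠ 0) (n : ℕ) (e c : Fin n → B), ∀ z : L,
      algebraMap B L (algebraMap A B d) * z =
        ∑ i, algebraMap B L (c i) * algebraMap K L (Algebra.trace K L (algebraMap B L (e i) * z)) := by
  classical
  haveI : FaithfulSMul A B := (faithfulSMul_iff_algebraMap_injective A B).2 hinj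
  haveI : IsIntegralClosure B A L := IsIntegralClosure.of_isIntegrallyClosed _ _ _
  haveI : Algebra.IsAlgebraic K L := isAlgebraic_of_isFractionRing A B K L
  haveI : IsLocalization (Algebra.algebraMapSubmonoid B (nonZeroDivisors A)) L :=
    IsIntegralClosure.isLocalization A K L B
  let b := Module.finBasis K L
  obtain ⟨⟨_, d₁, hd₁, rfl⟩, h₁⟩ := IsLocalization.exist_integer_multiples_of_finite
    (Algebra.algebraMapSubmonoid B (nonZeroDivisors A)) (fun i => b i)
  obtain ⟨⟨_, d₂, hd₂, rfl⟩, h₂⟩ := IsLocalization.exist_integer_multiples_of_finite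
    (Algebra.algebraMapSubmonoid B (nonZeroDivisors A)) (fun i => b.traceDual i)
  choose e he using h₁
  choose c hc using h₂
  refine ⟨d₁ * d₂, mul_ne_zero (nonZeroDivisors.ne_zero hd₁) (nonZeroDivisors.ne_zero hd₂), _, e, c, fun z => ?_⟩
  conv_lhs => rw [← b.traceDual.sum_repr z, Finset.mul_sum]
  refine Finset.sum_congr rfl fun i _ => ?_
  rw [he, hc, b.traceDual_repr_apply, Algebra.smul_def, Algebra.smul_def, Algebra.smul_def,
    mul_assoc (algebraMap B L (algebraMap A B d₁)), mul_comm (b i) z]
  rw [show algebraMap B L (algebraMap A B d₁) = algebraMap K L (algebraMap A K d₁) by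
    rw [← IsScalarTower.algebraMap_apply A B L, IsScalarTower.algebraMap_apply A K L]]
  rw [← Algebra.smul_def (algebraMap A K d₁), LinearMap.map_smul, smul_eq_mul, map_mul, map_mul, map_mul,
    show algebraMap K L (algebraMap A K d₁) = algebraMap B L (algebraMap A B d₁) by
    rw [← IsScalarTower.algebraMap_apply A B L, IsScalarTower.algebraMap_apply A K L]]
  simp only [Algebra.traceForm_apply]
  ring

theorem hhMap_sum {X : Scheme.{u}} [X.Over (Spec (CommRingCat.of A))] {M N : X.Modules} {ι : Type*} (s : Finset ι)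
    (φ : ι → (M ⟶ N)) (n : ℕ) (x : Coh.HH X M n) :
    Cohom.hhMap A (∑ i ∈ s, φ i) n x = ∑ i ∈ s, Cohom.hhMap A (φ i) n x := by
  classical
  induction s using Finset.induction with
  | empty =>
    rw [Finset.sum_empty, Finset.sum_empty, Cohom.hhMap_apply, Functor.map_zero]
    show ((Sheaf.functorH _ n).map (0 : _ ⟶ _)).hom x = 0
    rw [Functor.map_zero]
    rfl
  | insert i s hi ih =>
    rw [Finset.sum_insert hi, Finset.sum_insert hi, ← ih, Cohom.hhMap_apply, Functor.map_add, Sheaf.H.map_add_apply]
    rfl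

theorem sum_app {X : Scheme.{u}} {M N : X.Modules} {ι : Type*} (s : Finset ι) (φ : ι → (M ⟶ N)) (U : X.Opens)
    (m : Γ(M, U)) : (∑ i ∈ s, φ i).app U m = ∑ i ∈ s, (φ i).app U m := by
  classical
  induction s using Finset.induction with
  | empty => rw [Finset.sum_empty, Finset.sum_empty]; rfl
  | insert i s hi ih => rw [Finset.sum_insert hi, Finset.sum_insert hi, ← ih]; rfl

theorem toGlobal_spec_map {X : Scheme.{u}} (h : X ⟶ Spec (CommRingCat.of B)) (a : A) :
    Coh.toGlobal (h ≫ Spec.map (CommRingCat.ofHom (algebraMap A B))) a = Coh.toGlobal h (algebraMap A B a) := by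
  show h.appTop ((Spec.map (CommRingCat.ofHom (algebraMap A B))).appTop ((Scheme.ΓSpecIso (CommRingCat.of A)).inv a)) =
    h.appTop ((Scheme.ΓSpecIso (CommRingCat.of B)).inv (algebraMap A B a))
  congr 1
  exact (congr($(Scheme.ΓSpecIso_inv_naturality (CommRingCat.ofHom (algebraMap A B))) a)).symm

/-- **The sections over the base generate a nonzero multiple of the cohomology of the cover.** -/
theorem length_le (K L : Type u) [Field K] [Field L] [Algebra A K] [IsFractionRing A K] [Algebra B L]
    [IsFractionRing B L] [Algebra K L] [Algebra A L] [IsScalarTower A K L] [IsScalarTower A B L]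
    {d : A} {n : ℕ} {e c : Fin n → B}
    (hdec : ∀ z : L, algebraMap B L (algebraMap A B d) * z =
      ∑ i, algebraMap B L (c i) * algebraMap K L (Algebra.trace K L (algebraMap B L (e i) * z)))
    {Y Y' : Scheme.{u}} [IsIntegral Y] [IsIntegral Y'] [Y.Over (Spec (CommRingCat.of A))]
    [Y'.Over (Spec (CommRingCat.of B))] (π : Y' ⟶ Y) [Surjective π] [IsFinite π] (hYn : Pi1.IsNormalScheme Y)
    (hcomm : (Y' ↘ Spec (CommRingCat.of B)) ≫ Spec.map (CommRingCat.ofHom (algebraMap A B)) =
      π ≫ (Y ↘ Spec (CommRingCat.of A)))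
    (hbY : ∃ U : (Spec (CommRingCat.of A)).Opens, (U : Set ↥(Spec (CommRingCat.of A))).Nonempty ∧
      IsIso ((Y ↘ Spec (CommRingCat.of A)) ∣_ U))
    (hbY' : ∃ U : (Spec (CommRingCat.of B)).Opens, (U : Set ↥(Spec (CommRingCat.of B))).Nonempty ∧
      IsIso ((Y' ↘ Spec (CommRingCat.of B)) ∣_ U))
    (N T : ℕ) (hN : Module.length A (Coh.HH Y (Coh.structureModule Y) 1) ≤ (N : ℕ∞))
    (hT : Module.length B ↥(Submodule.torsionBy B (Coh.HH Y' (Coh.structureModule Y') 1) (algebraMap A B d)) ≤ (T : ℕ∞)) :
    Module.length B (Coh.HH Y' (Coh.structureModule Y') 1) ≤ ((n * N + T : ℕ) : ℕ∞) := by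
  classical
  let h := Y' ↘ Spec (CommRingCat.of B)
  let f := Y ↘ Spec (CommRingCat.of A)
  letI iOver : Y'.Over (Spec (CommRingCat.of A)) := ⟨π ≫ f⟩
  let η := genericPoint Y
  let η' := genericPoint Y'
  -- the function fields
  letI iAY : Algebra A Y.functionField := (toStk f η).toAlgebra
  letI iBY : Algebra B Y'.functionField := (toStk h η').toAlgebra
  haveI : IsFractionRing A Y.functionField := isFractionRing_functionField f hbY
  haveI : IsFractionRing B Y'.functionField := isFractionRing_functionField h hbY'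
  letI iYY : Algebra Y.functionField Y'.functionField := (NormAmple.fmap π).hom.toAlgebra
  let eK : K ≃ₐ[A] Y.functionField := IsLocalization.algEquiv (nonZeroDivisors A) K Y.functionField
  let eL : L ≃ₐ[B] Y'.functionField := IsLocalization.algEquiv (nonZeroDivisors B) L Y'.functionField
  have hglob : ∀ a : A, Coh.toGlobal (π ≫ f) a = Coh.toGlobal h (algebraMap A B a) := fun a => by
    rw [← hcomm]; exact toGlobal_spec_map h a
  have hsqA : ∀ a : A, NormAmple.fmap π (toStk f η a) = toStk h η' (algebraMap A B a) := fun a => by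
    refine Eq.trans (NormAmple.fmap_germ π (W := ⊤) trivial trivial _) ?_
    exact congrArg (Y'.presheaf.germ ⊤ η' trivial) (hglob a)
  have hsq : RingHom.comp (algebraMap Y.functionField Y'.functionField) (eK.toRingEquiv : K →+* Y.functionField) =
      RingHom.comp (eL.toRingEquiv : L →+* Y'.functionField) (algebraMap K L) := by
    refine IsLocalization.ringHom_ext (nonZeroDivisors A) (RingHom.ext fun a => ?_)
    show NormAmple.fmap π (eK (algebraMap A K a)) = eL (algebraMap K L (algebraMap A K a))
    rw [eK.commutes, ← IsScalarTower.algebraMap_apply A K L, IsScalarTower.algebraMap_apply A B L, eL.commutes]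
    exact hsqA a
  have hdec' : ∀ w : Y'.functionField, toStk h η' (algebraMap A B d) * w =
      ∑ i, toStk h η' (c i) * NormAmple.fmap π (Algebra.trace Y.functionField Y'.functionField (toStk h η' (e i) * w)) := by
    intro w
    obtain ⟨z, rfl⟩ := eL.surjective w
    have h1 := congrArg eL (hdec z)
    rw [map_mul, map_sum, eL.commutes] at h1
    refine h1.trans (Finset.sum_congr rfl fun i _ => ?_)
    rw [map_mul, eL.commutes]
    refine congrArg (toStk h η' (c i) * ·) ?_
    have e1 := Algebra.trace_eq_of_equiv_equiv eK.toRingEquiv eL.toRingEquiv hsq (algebraMap B L (e i) * z)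
    refine (RingHom.congr_fun hsq (Algebra.trace K L (algebraMap B L (e i) * z))).symm.trans ?_
    show NormAmple.fmap π (eK (Algebra.trace K L (algebraMap B L (e i) * z))) = _
    rw [e1]
    show NormAmple.fmap π (eK (eK.symm (Algebra.trace Y.functionField Y'.functionField (eL (algebraMap B L (e i) * z))))) = _
    rw [eK.apply_symm_apply, map_mul, eL.commutes]
    rfl
  -- the endomorphisms
  let O' := Coh.structureModule Y'
  let P := (Scheme.Modules.pushforward π).obj O'
  let μ : B → (P ⟶ P) := fun b => (Scheme.Modules.pushforward π).map (Euler.smulMod O' (Coh.toGlobal h b))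
  let τ := RatSing29.traceMap π hYn
  have hid : Euler.smulMod P (Coh.toGlobal f d) = ∑ i, μ (e i) ≫ τ ≫ ClSub.unitToPush π ≫ μ (c i) := by
    refine Scheme.Modules.hom_ext _ _ fun U => ?_
    ext s
    rw [sum_app]
    change @Eq Γ(Y', π ⁻¹ᵁ U) _ _
    by_cases hU : η ∈ U
    · have hU' := NormAmple.genericPoint_mem_preimage π hU
      let s' : Γ(Y', π ⁻¹ᵁ U) := s
      refine germ_injective_of_isIntegral Y' (U := π ⁻¹ᵁ U) η' hU' ?_
      have hres : ∀ b : B, Y'.presheaf.germ (π ⁻¹ᵁ U) η' hU'
          (Y'.presheaf.map (homOfLE (le_top : π ⁻¹ᵁ U ≤ ⊤)).op (Coh.toGlobal h b)) = toStk h η' b := fun b =>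
        TopCat.Presheaf.germ_res_apply _ _ _ _ _
      have hlhs : Y'.presheaf.germ (π ⁻¹ᵁ U) η' hU'
          (show Γ(Y', π ⁻¹ᵁ U) from (Euler.smulMod P (Coh.toGlobal f d)).app U s) =
          toStk h η' (algebraMap A B d) * Y'.presheaf.germ (π ⁻¹ᵁ U) η' hU' s' := by
        have e0 : (show Γ(Y', π ⁻¹ᵁ U) from (Euler.smulMod P (Coh.toGlobal f d)).app U s) =
            π.app U (Y.presheaf.map (homOfLE (le_top : U ≤ ⊤)).op (Coh.toGlobal f d)) * s' := rfl
        rw [e0, map_mul, ← NormAmple.fmap_germ π hU, TopCat.Presheaf.germ_res_apply, ← hsqA]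
        rfl
      refine hlhs.trans ((hdec' _).trans ?_)
      refine Eq.trans ?_ (map_sum (Y'.presheaf.germ (π ⁻¹ᵁ U) η' hU').hom _ _).symm
      refine Finset.sum_congr rfl fun i _ => ?_
      show _ = Y'.presheaf.germ (π ⁻¹ᵁ U) η' hU'
        (Y'.presheaf.map (homOfLE (le_top : π ⁻¹ᵁ U ≤ ⊤)).op (Coh.toGlobal h (c i)) *
          π.app U (RatSing29.trSec π hYn U
            (Y'.presheaf.map (homOfLE (le_top : π ⁻¹ᵁ U ≤ ⊤)).op (Coh.toGlobal h (e i)) * s')))
      conv_rhs => rw [map_mul, hres, ← NormAmple.fmap_germ π hU, RatSing29.trSec_spec π hYn U _ hU]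
      refine congrArg (fun v => toStk h η' (c i) * NormAmple.fmap π v) ?_
      show _ = Algebra.trace Y.functionField Y'.functionField
        (Y'.presheaf.germ (π ⁻¹ᵁ U) η' hU'
          (Y'.presheaf.map (homOfLE (le_top : π ⁻¹ᵁ U ≤ ⊤)).op (Coh.toGlobal h (e i)) * s'))
      conv_rhs => rw [map_mul, hres]
    · have hbot : U = ⊥ := le_bot_iff.1 fun y hy => (hU ((genericPoint_specializes y).mem_open U.isOpen hy)).elim
      haveI : Subsingleton Γ(Y', π ⁻¹ᵁ U) :=
        CommRingCat.subsingleton_of_isTerminal (Y'.sheaf.isTerminalOfEqEmpty (by rw [hbot]; rfl))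
      exact Subsingleton.elim _ _
  -- cohomology
  let M' := Coh.HH Y' O' 1
  haveI : IsScalarTower A B M' := IsScalarTower.of_algebraMap_smul fun a x => by
    show Sheaf.H.map (Coh.smulAb O' (Coh.toGlobal h (algebraMap A B a))) 1 x =
      Sheaf.H.map (Coh.smulAb O' (Coh.toGlobal (π ≫ f) a)) 1 x
    rw [hglob]
  haveI : O'.IsQuasicoherent := inferInstance
  obtain ⟨E⟩ := GrothLib.Snapper.nonempty_HH_linearEquiv_pushforward (A := A) π rfl O' 1
  let Φ : (Fin n → Coh.HH Y (Coh.structureModule Y) 1) →ₗ[A] Coh.HH Y P 1 :=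
    ∑ i, (Cohom.hhMap A (ClSub.unitToPush π ≫ μ (c i)) 1).comp (LinearMap.proj i)
  have hΦ : ∀ y : Coh.HH Y P 1, d • y ∈ LinearMap.range Φ := fun y => by
    refine ⟨fun i => Cohom.hhMap A (μ (e i) ≫ τ) 1 y, ?_⟩
    have h1 : d • y = Cohom.hhMap A (Euler.smulMod P (Coh.toGlobal f d)) 1 y := rfl
    rw [h1, hid, hhMap_sum, LinearMap.sum_apply]
    refine Finset.sum_congr rfl fun i _ => ?_
    rw [LinearMap.comp_apply, LinearMap.proj_apply, ← Euler.hhMap_comp, Category.assoc]
  let D : M' →ₗ[B] M' := LinearMap.lsmul B M' (algebraMap A B d)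
  have hker : Module.length B (LinearMap.ker D) ≤ (T : ℕ∞) := by
    refine le_trans (le_of_eq ?_) hT
    rfl
  have hran : Module.length B (LinearMap.range D) ≤ ((n * N : ℕ) : ℕ∞) := by
    refine (Submodule.length_le_length_restrictScalars A _).trans ?_
    let G : ↥((LinearMap.range D).restrictScalars A) →ₗ[A] LinearMap.range Φ :=
      LinearMap.codRestrict _ (E.toLinearMap ∘ₗ ((LinearMap.range D).restrictScalars A).subtype) (by
        rintro ⟨_, x, rfl⟩
        show E (algebraMap A B d • x) ∈ LinearMap.range Φ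
        rw [algebraMap_smul, map_smul]
        exact hΦ (E x))
    have hG : Function.Injective G := fun x y hxy => Subtype.ext (E.injective (congrArg Subtype.val hxy))
    refine (Module.length_le_of_injective G hG).trans ((Module.length_le_of_surjective _
      Φ.surjective_rangeRestrict).trans ?_)
    rw [Module.length_pi_of_fintype, Nat.cast_mul]
    refine (Finset.sum_le_card_nsmul _ _ _ fun i _ => hN).trans ?_
    rw [Finset.card_univ, Fintype.card_fin, nsmul_eq_mul]
  rw [Module.length_eq_add_of_exact (LinearMap.ker D).subtype D.rangeRestrict Subtype.val_injective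
    D.surjective_rangeRestrict (LinearMap.exact_iff.2 (by rw [LinearMap.ker_rangeRestrict, Submodule.range_subtype])),
    Nat.cast_add, add_comm]
  exact add_le_add hran hker

end GrothLib.RightAdj20.Dom
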