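import Groth.Agent.Lib.RightAdj20.CoindHom
import Groth.Agent.Lib.RightAdj20.FlatDual
import Groth.Agent.Lib.DualRing.Biduality
import Groth.Agent.S11177
import Groth.Prelude.Def_DualSh

/-! # The upper shriek through duality -/

set_option autoImplicit false
set_option linter.style.haveILetI false
set_option backward.isDefEq.respectTransparency false
set_option maxHeartbeats 1000000
universe u

open CategoryTheory CategoryTheory.Limits CochainComplex CochainComplex.HomComplex HomologicalComplex GrothLib.DualCx22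

attribute [local instance] HasDerivedCategory.standard

namespace GrothLib.RightAdj20.ShriekDual

/-- Homomorphisms into a shift. -/
noncomputable def homCxShiftIso {A : Type u} [CommRing A] (E L : DRing.Cx A) (a : ℤ) :
    DRing.homCx E (L⟦a⟧) ≅ (DRing.homCx E L)⟦a⟧ :=
  Iso.symm <| HomologicalComplex.Hom.isoOfComponents
    (fun i => ((Cochain.rightShiftLinearEquiv A E L (i + a) a i rfl).toModuleIso :
      ModuleCat.of A (Cochain E L (i + a)) ≅ ModuleCat.of A (Cochain E (L⟦a⟧) i)))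
    (fun i j hij => by
      obtain rfl : i + 1 = j := hij
      refine ModuleCat.hom_ext (LinearMap.ext fun (γ : Cochain E L (i + a)) => ?_)
      change δ i (i + 1) (γ.rightShift a i rfl) =
        ((a.negOnePow • δ (i + a) (i + 1 + a) γ : Cochain E L (i + 1 + a))).rightShift a (i + 1) rfl
      rw [Cochain.δ_rightShift _ a i (i + 1) rfl (i + 1 + a) rfl, Cochain.rightShift_units_smul])

/-- Duals into a fixed K-injective only depend on the object. -/
theorem nonempty_homCx_congr {A : Type u} [CommRing A] (I : DRing.Cx A) [I.IsKInjective] {K L : DRing.Cx A}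
    (e : DRing.toD K ≅ DRing.toD L) : Nonempty (DRing.toD (DRing.homCx L I) ≅ DRing.toD (DRing.homCx K I)) := by
  obtain ⟨K', s, hs, g, hg⟩ := DerivedCategory.right_fac e.hom
  haveI := hs
  haveI : IsIso (DerivedCategory.Q.map g) := by
    have : DerivedCategory.Q.map g = DerivedCategory.Q.map s ≫ e.hom := by rw [hg, IsIso.hom_inv_id_assoc]
    rw [this]
    infer_instance
  haveI := (DerivedCategory.isIso_Q_map_iff_quasiIso (C := ModuleCat.{u} A) s).1 hs
  haveI := (DerivedCategory.isIso_Q_map_iff_quasiIso (C := ModuleCat.{u} A) g).1 inferInstance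
  haveI := GrothLib.RH.quasiIso_homCxPre s I
  haveI := GrothLib.RH.quasiIso_homCxPre g I
  haveI := GrothLib.RH.quasiIso_Q (GrothLib.RH.homCxPre s I)
  haveI := GrothLib.RH.quasiIso_Q (GrothLib.RH.homCxPre g I)
  exact ⟨asIso (DerivedCategory.Q.map (GrothLib.RH.homCxPre g I)) ≪≫
    (asIso (DerivedCategory.Q.map (GrothLib.RH.homCxPre s I))).symm⟩

/-- **The upper shriek is the base change of the dual, dualized.** -/
theorem nonempty_shriekVia_dual (A B : Type u) [CommRing A] [CommRing B] [IsNoetherianRing A] [Algebra A B]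
    (n : ℕ) (ψ : MvPolynomial (Fin n) A →ₐ[A] B)
    [DRing.HasLBaseChange (algebraMap A (MvPolynomial (Fin n) A))]
    (Rψ : Dual.D (MvPolynomial (Fin n) A) ⥤ Dual.D B) (adj : DRing.restrictD ψ.toRingHom ⊣ Rψ)
    [DRing.HasLBaseChange (algebraMap A B)] (ω : Dual.D A) (hω : Dual.IsDualizing A ω)
    (K : DRing.Cx A) [DRing.HasRHomCx K] (hK : ∀ i : ℤ, Module.Finite A (Dual.HD A (DRing.toD K) i))
    (E : DRing.Cx B) [DRing.HasRHomCx E]
    (hE : Nonempty (DRing.toD E ≅ (DRing.LBaseChange (algebraMap A B)).obj ((DRing.RHomCx K).obj ω))) :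
    Nonempty (Dual2.shriekVia n Rψ (DRing.toD K) ≅ (DRing.RHomCx E).obj (Dual2.shriekVia n Rψ ω)) := by
  obtain ⟨eE⟩ := hE
  obtain ⟨r⟩ := nonempty_injRep hω
  obtain ⟨eKω⟩ := r.nonempty_rHom_iso K
  -- a K-flat representative of the dual
  obtain ⟨N, hNflat, -, ⟨eN⟩⟩ := GrothLib.KF.exists_kflat_rep (DRing.toD (r.dual K))
  have hN : ∀ i, Module.Finite A (Dual.HD A (DRing.toD N) i) := fun i => by
    haveI := GrothLib.DualRing.finite_hom_dualizing hω hK i
    exact Module.Finite.equiv ((r.nonempty_HD_dual K i).some.symm.trans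
      ((DerivedCategory.homologyFunctor (ModuleCat.{u} A) i).mapIso eN.symm).toLinearEquiv)
  obtain ⟨b1⟩ := r.nonempty_bidual K hK
  obtain ⟨b2⟩ := r.nonempty_dual_congr eN
  let eK : DRing.toD K ≅ DRing.toD (r.dual N) := b1 ≪≫ b2
  -- over the polynomial ring
  let a₁ := algebraMap A (MvPolynomial (Fin n) A)
  let φ := ψ.toRingHom
  haveI : PreservesFiniteLimits (bcMod (A := A) (MvPolynomial (Fin n) A)) := GrothLib.DualRing.Shriek.pfl_of_flat A
  haveI : PreservesFiniteLimits (ModuleCat.extendScalars.{u, u, u} a₁) := ‹_›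
  haveI : Algebra.Smooth A (MvPolynomial (Fin n) A) := ⟨inferInstance, inferInstance⟩
  have hωP := Groth.Agent.S11177.result A (MvPolynomial (Fin n) A) ω hω
  obtain ⟨rP⟩ := nonempty_injRep hωP
  haveI := r.kInj
  haveI := rP.kInj
  obtain ⟨eL⟩ := nonempty_lBase_iso_bcD (A := A) (MvPolynomial (Fin n) A)
  let bcQ : ∀ X : DRing.Cx A, (DRing.LBaseChange a₁).obj (DRing.toD X) ≅ DRing.toD ((DR.bc a₁).obj X) := fun X =>
    eL.app _ ≪≫ (bcMod (A := A) (MvPolynomial (Fin n) A)).mapDerivedCategoryFactors.app X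
  obtain ⟨γ, hγ⟩ := GrothLib.DR.exists_lift_inj
    ((bcQ r.I).symm ≪≫ (DRing.LBaseChange a₁).mapIso r.iso ≪≫ rP.iso.symm).hom
  haveI : QuasiIso γ :=
    (DerivedCategory.isIso_Q_map_iff_quasiIso (ModuleCat.{u} (MvPolynomial (Fin n) A)) γ).1 (by rw [hγ]; infer_instance)
  haveI := FlatDual.quasiIso_cmp a₁ γ r.a r.b r.vanish r.inj rP.b (fun t ht => rP.vanish t (Or.inr ht)) rP.inj N hN
  haveI := GrothLib.RH.quasiIso_Q (FlatDual.cmp a₁ γ N)
  let X := (DR.bc a₁).obj N
  have hX : GrothLib.KF.IsKFlat X := GrothLib.KF.isKFlat_baseChange a₁ N hNflat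
  let eKP : (DRing.LBaseChange a₁).obj (DRing.toD K) ≅ DRing.toD (DRing.homCx X rP.I) :=
    (DRing.LBaseChange a₁).mapIso eK ≪≫ bcQ _ ≪≫ asIso (DerivedCategory.Q.map (FlatDual.cmp a₁ γ N))
  -- coinduction
  haveI := GrothLib.RH.isKInjective_homCx X rP.I hX
  haveI := isKInjective_coI φ rP.I
  obtain ⟨c1⟩ := nonempty_coI_iso φ (DRing.homCx X rP.I) Rψ adj
  obtain ⟨c2⟩ := nonempty_coI_iso φ rP.I Rψ adj
  haveI := CoindHom.isIso_coHom φ X rP.I
  let eL1 : Dual2.shriekVia n Rψ (DRing.toD K) ≅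
      (DRing.toD (DRing.homCx ((DR.bc φ).obj X) (coI φ rP.I)))⟦(n : ℤ)⟧ :=
    (CategoryTheory.shiftFunctor (Dual.D B) (n : ℤ)).mapIso (Rψ.mapIso eKP ≪≫ c1.symm ≪≫
      DerivedCategory.Q.mapIso (asIso (CoindHom.coHom φ X rP.I)))
  -- the right-hand side
  let J := (coI φ rP.I)⟦(n : ℤ)⟧
  let eJ : Dual2.shriekVia n Rψ ω ≅ DRing.toD J :=
    (CategoryTheory.shiftFunctor (Dual.D B) (n : ℤ)).mapIso (Rψ.mapIso rP.iso.symm ≪≫ c2.symm) ≪≫
      (((DerivedCategory.Q (C := ModuleCat.{u} B)).commShiftIso (n : ℤ)).app (coI φ rP.I)).symm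
  haveI := GrothLib.KF.hasLBaseChange φ
  obtain ⟨d1⟩ := GrothLib.KF.lBase_value φ hX
  obtain ⟨d2⟩ := GrothLib.KF.lBase_value a₁ hNflat
  obtain ⟨d3⟩ := DR.nonempty_lBase_comp a₁ φ (algebraMap A B) ψ.comp_algebraMap.symm (DRing.toD N)
  let eEX : DRing.toD E ≅ DRing.toD ((DR.bc φ).obj X) :=
    eE ≪≫ (DRing.LBaseChange (algebraMap A B)).mapIso (eKω ≪≫ eN.symm) ≪≫ d3.symm ≪≫
      (DRing.LBaseChange φ).mapIso d2 ≪≫ d1
  obtain ⟨h1⟩ := nonempty_homCx_congr (coI φ rP.I) eEX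
  exact ⟨eL1 ≪≫ (CategoryTheory.shiftFunctor (Dual.D B) (n : ℤ)).mapIso h1 ≪≫
    (((DerivedCategory.Q (C := ModuleCat.{u} B)).commShiftIso (n : ℤ)).app _).symm ≪≫
    DerivedCategory.Q.mapIso (homCxShiftIso E (coI φ rP.I) (n : ℤ)).symm ≪≫
    (GrothLib.RH.rHom_value E J).some.symm ≪≫ (DRing.RHomCx E).mapIso eJ.symm⟩

end GrothLib.RightAdj20.ShriekDual
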