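import Groth.Agent.Lib.OX.RRComp
import Groth.Prelude.Def_Dual3

/-! # Morphisms out of an object supported in a closed subset of an open -/

set_option autoImplicit false
set_option maxHeartbeats 1000000
set_option linter.style.haveILetI false
set_option backward.isDefEq.respectTransparency false
universe u

open CategoryTheory CategoryTheory.Limits AlgebraicGeometry Pretriangulated

attribute [local instance] HasDerivedCategory.standard

noncomputable section

namespace GrothLib.RightAdj20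

open GrothLib.OX

variable {X Z : Scheme.{u}} (j : X ⟶ Z) [IsOpenImmersion j] (W : Z.Opens)

/-- A map from an object supported on `Z ∖ W ⊆ j X` is determined by its composite with the unit. -/
theorem eq_zero_of_comp_unit (hW : (W : Set Z)ᶜ ⊆ Set.range j.base) {N M : DCoh.D Z}
    (hN : IsZero ((resD W.ι).obj N)) (x : N ⟶ M) (hx : x ≫ (resDAdj j).unit.app M = 0) : x = 0 := by
  haveI : CxOX.HasRgammaZ W.ι := KInj.hasRightDerivedFunctor _
  obtain ⟨C, q, d, hT⟩ := distinguished_cocone_triangle ((resDAdj j).unit.app M)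
  have hjC : IsZero ((resD j).obj C) :=
    (Triangle.isZero₃_iff_isIso₁ _ ((resD j).map_distinguished _ hT)).2 (isIso_resD_unit j M)
  have hV : IsZero ((resD j.opensRange.ι).obj C) :=
    isZero_resD_of_le j.opensRange.ι j (by rw [Scheme.Opens.range_ι]; exact le_of_eq rfl) hjC
  obtain ⟨K, q', d', hT'⟩ := distinguished_cocone_triangle ((resDAdj W.ι).unit.app C)
  obtain ⟨h1, h2⟩ := isZero_resD_unit_cone W.ι j.opensRange hT' hV
  have hC : IsIso ((resDAdj W.ι).unit.app C) :=
    (Triangle.isZero₃_iff_isIso₁ _ hT').1 (isZero_of_isZero_cover W.ι j.opensRange.ι (fun y => by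
      rw [Scheme.Opens.range_ι, Scheme.Opens.range_ι]
      by_cases h : y ∈ W
      · exact Or.inl h
      · exact Or.inr (hW h)) h2 h1)
  exact eq_zero_of_comp_eq_zero W.ι hT hC hN hx

variable [DCoh.HasRpush j] (adjj : DCoh.restrictD j ⊣ DCoh.Rpush j)

/-- The counit of any adjunction `j^* ⊣ Rj_*` is invertible. -/
theorem isIso_adjj_counit : IsIso adjj.counit :=
  adjj.isIso_counit_of_iso (Functor.isoWhiskerRight (rpushIsoRres j) (resD j) ≪≫ resDRRIso j)

/-- `Rj_*` of an object supported on `j⁻¹(Z ∖ W)` vanishes on `W`. -/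
theorem isZero_resD_rpush {F : DCoh.D X} (hF : CxOX.IsSuppD (j ⁻¹ᵁ W).ι F) :
    IsZero ((resD W.ι).obj ((DCoh.Rpush j).obj F)) :=
  (isZero_resD_RR' j ((isZero_resD_iff_support _ F).2 hF)).of_iso ((resD W.ι).mapIso ((rpushIsoRres j).app F))

/-- **Sections with support, seen in a compactification.** -/
theorem bijective_supp_transpose (hW : (W : Set Z)ᶜ ⊆ Set.range j.base) [CxOX.HasRgammaZ W.ι]
    [CxOX.HasRgammaZ (j ⁻¹ᵁ W).ι] (M : DCoh.D Z)
    (θ : (CxOX.RgammaZ (j ⁻¹ᵁ W).ι).obj ((DCoh.restrictD j).obj M) ⟶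
      (DCoh.restrictD j).obj ((CxOX.RgammaZ W.ι).obj M))
    (hθ : θ ≫ (DCoh.restrictD j).map ((CxOX.RgammaZToId W.ι).app M) =
      (CxOX.RgammaZToId (j ⁻¹ᵁ W).ι).app ((DCoh.restrictD j).obj M))
    [IsIso (adjj.unit.app ((CxOX.RgammaZ W.ι).obj M))] (F : DCoh.D X) (hF : CxOX.IsSuppD (j ⁻¹ᵁ W).ι F) :
    Function.Bijective (fun φ : F ⟶ (CxOX.RgammaZ (j ⁻¹ᵁ W).ι).obj ((DCoh.restrictD j).obj M) =>
      (DCoh.Rpush j).map (φ ≫ θ) ≫ inv (adjj.unit.app ((CxOX.RgammaZ W.ι).obj M)) ≫
        (CxOX.RgammaZToId W.ι).app M) := by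
  haveI := isIso_adjj_counit j adjj
  haveI := adjj.fullyFaithfulROfIsIsoCounit.full
  haveI := adjj.fullyFaithfulROfIsIsoCounit.faithful
  let R := (CxOX.RgammaZ W.ι).obj M
  let ι := (CxOX.RgammaZToId W.ι).app M
  let N := (DCoh.Rpush j).obj F
  have hN : IsZero ((resD W.ι).obj N) := isZero_resD_rpush j W hF
  have hF' : IsZero ((resD (j ⁻¹ᵁ W).ι).obj F) := (isZero_resD_iff_support _ F).2 hF
  -- composing with the unit of `R` is bijective, and `R` is detected on `X`
  have hB : Function.Bijective fun ψ : F ⟶ (DCoh.restrictD j).obj R =>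
      (DCoh.Rpush j).map ψ ≫ inv (adjj.unit.app R) := by
    refine ⟨fun a b h => (DCoh.Rpush j).map_injective ((cancel_mono _).1 h), fun h => ?_⟩
    obtain ⟨ψ, hψ⟩ := (DCoh.Rpush j).map_surjective (h ≫ adjj.unit.app R)
    exact ⟨ψ, by dsimp only; rw [hψ, Category.assoc, IsIso.hom_inv_id, Category.comp_id]⟩
  have hC : ∀ ψ : F ⟶ (DCoh.restrictD j).obj R, ψ ≫ (DCoh.restrictD j).map ι = 0 → ψ = 0 := fun ψ hψ => by
    refine hB.1 (?_ : (DCoh.Rpush j).map ψ ≫ inv (adjj.unit.app R) = (DCoh.Rpush j).map 0 ≫ _)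
    rw [show ((DCoh.Rpush j).map (0 : F ⟶ (DCoh.restrictD j).obj R)) = 0 by
      haveI := adjj.right_adjoint_additive
      exact Functor.map_zero _ _ _, zero_comp]
    refine eq_of_comp_RgammaZToId W.ι hN ?_
    rw [zero_comp]
    refine eq_zero_of_comp_unit j W hW hN _ (((resDAdj j).homEquiv _ _).symm.injective ?_)
    have h0 : (DCoh.restrictD j).map (((DCoh.Rpush j).map ψ ≫ inv (adjj.unit.app R)) ≫ ι) = 0 := by
      have e1 : (DCoh.restrictD j).map (inv (adjj.unit.app R)) = adjj.counit.app ((DCoh.restrictD j).obj R) := by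
        rw [Functor.map_inv]
        exact IsIso.inv_eq_of_hom_inv_id (adjj.left_triangle_components R)
      rw [Functor.map_comp, Functor.map_comp, e1]
      refine (congrArg (· ≫ _) (adjj.counit.naturality ψ)).trans ((Category.assoc _ _ _).trans ?_)
      exact (congrArg (_ ≫ ·) hψ).trans comp_zero
    have hh : ((resDAdj j).homEquiv _ _).symm
        ((((DCoh.Rpush j).map ψ ≫ inv (adjj.unit.app R)) ≫ ι) ≫ (resDAdj j).unit.app M) = 0 := by
      rw [Adjunction.homEquiv_counit, Functor.map_comp, Category.assoc]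
      exact (congrArg (_ ≫ ·) ((resDAdj j).left_triangle_components M)).trans ((Category.comp_id _).trans h0)
    refine hh.trans ?_
    rw [Adjunction.homEquiv_counit]
    exact ((congrArg (· ≫ _) ((DCoh.restrictD j).map_zero _ _)).trans zero_comp).symm
  refine ⟨fun φ φ' h => ?_, fun g => ?_⟩
  · have h1 : φ ≫ θ = φ' ≫ θ := hB.1 (eq_of_comp_RgammaZToId W.ι hN (by simpa only [Category.assoc] using h))
    refine eq_of_comp_RgammaZToId (j ⁻¹ᵁ W).ι hF' ?_
    rw [← hθ, reassoc_of% h1]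
  · obtain ⟨h, rfl⟩ := exists_lift_RgammaZ W.ι hN g
    obtain ⟨ψ, rfl⟩ := hB.2 h
    obtain ⟨φ, hφ⟩ := exists_lift_RgammaZ (j ⁻¹ᵁ W).ι hF' (ψ ≫ (DCoh.restrictD j).map ι)
    have hφθ : φ ≫ θ = ψ := sub_eq_zero.1 (hC _ (by
      rw [Preadditive.sub_comp, Category.assoc, hθ]
      exact sub_eq_zero.2 hφ))
    exact ⟨φ, by dsimp only; rw [hφθ, Category.assoc]; rfl⟩

end GrothLib.RightAdj20
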