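import Groth.Agent.Lib.RightAdj20.TraceUnitMain
import Groth.Agent.Lib.DualRing.SchemeLocus
import Groth.Agent.Lib.BCCoh.RpushAffine
import Groth.Agent.Lib.Cohom.Affine
import Groth.Agent.Lib.RefK12.Stalk

/-! # Cohomology of a dualizing complex as higher direct images -/

set_option autoImplicit false
set_option maxHeartbeats 1000000
set_option linter.style.haveILetI false
set_option backward.isDefEq.respectTransparency false
universe u

open CategoryTheory CategoryTheory.Limits AlgebraicGeometry CategoryTheory.Pretriangulated GrothLib.OX TopologicalSpace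

attribute [local instance] HasDerivedCategory.standard

noncomputable section

namespace GrothLib.RightAdj20

variable {X Y : Scheme.{u}} (f : X ⟶ Y)

/-- Over an open where `f` is invertible, higher direct images of quasi-coherent modules have zero stalks. -/
theorem subsingleton_stalk_Rpush_of_isIso [HasInjectiveResolutions X.Modules] [QuasiCompact f] [QuasiSeparated f]
    (V : Y.Opens) [IsIso (f ∣_ V)] (M : X.Modules) [M.IsQuasicoherent] {p : ℕ} (hp : 0 < p) {y : Y} (hy : y ∈ V) :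
    Subsingleton (((Coh.Rpush f p).obj M).presheaf.stalk y) := by
  have key : ∀ W : Y.Opens, IsAffineOpen W → W ≤ V → Subsingleton Γ((Coh.Rpush f p).obj M, W) := by
    intro W hW hle
    have hA : IsAffineOpen (f ⁻¹ᵁ W) := by
      have h1 := ((hW.preimage_of_isOpenImmersion V.ι (by simpa using hle)).preimage_of_isIso
        (f ∣_ V)).image_of_isOpenImmersion (f ⁻¹ᵁ V).ι
      convert h1 using 1
      rw [← Scheme.Hom.comp_preimage, morphismRestrict_ι, Scheme.Hom.comp_preimage,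
        Scheme.Hom.image_preimage_eq_opensRange_inf, Scheme.Opens.opensRange_ι]
      exact (inf_eq_right.2 (Scheme.Hom.preimage_mono f hle)).symm
    haveI : IsAffine ((f ⁻¹ᵁ W : X.Opens) : Scheme.{u}) := hA
    haveI := Cohom.subsingleton_HH_of_isAffine (M.restrict (f ⁻¹ᵁ W).ι) p hp
    obtain ⟨e, -⟩ := BCCoh.exists_Rpush_equiv f hW M p
    exact e.symm.toEquiv.subsingleton
  refine ⟨fun a b => ?_⟩
  suffices h0 : ∀ a : ((Coh.Rpush f p).obj M).presheaf.stalk y, a = 0 from (h0 a).trans (h0 b).symm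
  intro a
  obtain ⟨U, hU, s, rfl⟩ := TopCat.Presheaf.exists_germ_eq _ a
  obtain ⟨W, hW, hyW, hle⟩ := exists_isAffineOpen_mem_and_subset (x := y) (U := U ⊓ V) ⟨hU, hy⟩
  haveI := key W hW (fun z hz => (hle hz).2)
  rw [← TopCat.Presheaf.germ_res_apply _ (homOfLE (fun z hz => (hle hz).1)) y hyW s,
    Subsingleton.elim (((Coh.Rpush f p).obj M).presheaf.map (homOfLE (fun z hz => (hle hz).1)).op s) 0]
  exact map_zero _

variable [IsNoetherian Y] [IsProper f] [DCoh.HasRpush f]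

/-- When `f` is pseudo-rational, a dualizing complex is the direct image of its pullback. -/
theorem nonempty_HD_iso_Rpush (hf : DCoh.RpushPreservesQCoh f) [DCoh.HasShriek f hf] [HasInjectiveResolutions X.Modules]
    (hξ : IsIso (ClSub.unitToPush f) ∧ ∀ p : ℕ, 0 < p → IsZero ((Coh.Rpush f p).obj (Coh.structureModule X)))
    (K : DCoh.DQCoh Y) (hK : Dual2.IsDualizingSch Y K.obj) (d : ℕ)
    (hKX : ∀ i : ℤ, i ≠ -(d : ℤ) → IsZero (DCoh.HD ((DCoh.shriek f hf).obj K).obj i)) :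
    (∀ p : ℕ, Nonempty (DCoh.HD K.obj ((p : ℤ) - d) ≅
      (Coh.Rpush f p).obj (DCoh.HD ((DCoh.shriek f hf).obj K).obj (-(d : ℤ))))) ∧
    ∀ i : ℤ, i < -(d : ℤ) → IsZero (DCoh.HD K.obj i) := by
  haveI := OX.hasLpull f
  obtain ⟨c, hc⟩ := ShriekBridge22.exists_isGE_of_isDualizingSch K.property hK
  haveI := hc
  obtain ⟨adjL⟩ := OX.nonempty_lpullAdj f
  let b := adjL.ofNatIsoRight (rpushIsoRres f)
  haveI := isIso_trR_of_isIso_unit f hf (DCoh.shriekAdj f hf) b K c ((unitToPush_iff f b).1 hξ)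
  let A := ((DCoh.shriek f hf).obj K).obj
  let ω := DCoh.HD A (-(d : ℤ))
  haveI : A.IsGE (-(d : ℤ)) := (DerivedCategory.isGE_iff _ _).2 fun i hi => hKX i (by omega)
  haveI : A.IsLE (-(d : ℤ)) := (DerivedCategory.isLE_iff _ _).2 fun i hi => hKX i (by omega)
  obtain ⟨M, ⟨eM⟩⟩ := DerivedCategory.exists_iso_singleFunctor_obj_of_isGE_of_isLE A (-(d : ℤ))
  let eω : M ≅ ω :=
    ((DerivedCategory.singleFunctorCompHomologyFunctorIso X.Modules (-(d : ℤ))).app M).symm ≪≫
      (DerivedCategory.homologyFunctor X.Modules (-(d : ℤ))).mapIso eM.symm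
  let eA : A ≅ (DCoh.inD X ω)⟦(d : ℤ)⟧ := eM ≪≫ (DerivedCategory.singleFunctor _ _).mapIso eω ≪≫
    (((DerivedCategory.singleFunctors X.Modules).shiftIso (d : ℤ) (-(d : ℤ)) 0 (by omega)).app ω).symm
  let eK : K.obj ≅ ((RR f).obj (DCoh.inD X ω))⟦(d : ℤ)⟧ :=
    (asIso (trR f hf (DCoh.shriekAdj f hf) K)).symm ≪≫ (RR f).mapIso eA ≪≫
      ((RR f).commShiftIso (d : ℤ)).app (DCoh.inD X ω)
  refine ⟨fun p => ?_, fun i hi => ?_⟩
  · obtain ⟨e⟩ := SiteDer.nonempty_homology_Rres_single (OX.rmor f) ω p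
    exact ⟨(DerivedCategory.homologyFunctor _ _).mapIso eK ≪≫
      HDShiftIso _ (d : ℤ) ((p : ℤ) - d) (p : ℤ) (by omega) ≪≫ e⟩
  · haveI : (DCoh.inD X ω).IsGE 0 := inferInstance
    haveI : ((RR f).obj (DCoh.inD X ω)).IsGE 0 := SiteDer.isGE_Rres (OX.rmor f) (DCoh.inD X ω) 0
    exact (DerivedCategory.isZero_of_isGE ((RR f).obj (DCoh.inD X ω)) 0 ((d : ℤ) + i) (by omega)).of_iso
      ((DerivedCategory.homologyFunctor _ _).mapIso eK ≪≫ HDShiftIso _ (d : ℤ) i ((d : ℤ) + i) rfl)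

/-- **Cohen–Macaulayness of the target of a pseudo-rational birational morphism.** -/
theorem cohenMacaulay_iff_Rpush_zero [IsLocallyNoetherian X]
    [∀ (U : Scheme.{u}) (j : U ⟶ Y) [IsOpenImmersion j], PreservesFiniteLimits (Scheme.Modules.restrictFunctor j)]
    [∀ (R : CommRingCat.{u}), PreservesFiniteLimits (tilde.functor R)]
    (hbir : ∃ V : Y.Opens, Dense (V : Set Y) ∧ IsIso (f ∣_ V))
    (hf : DCoh.RpushPreservesQCoh f) [DCoh.HasShriek f hf] [HasInjectiveResolutions X.Modules]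
    (hξ : IsIso (ClSub.unitToPush f) ∧ ∀ p : ℕ, 0 < p → IsZero ((Coh.Rpush f p).obj (Coh.structureModule X)))
    (K : DCoh.DQCoh Y) (hK : Dual2.IsDualizingSch Y K.obj) (d : ℕ)
    (hKX : ∀ i : ℤ, i ≠ -(d : ℤ) → IsZero (DCoh.HD ((DCoh.shriek f hf).obj K).obj i)) :
    (∀ y : Y, LocCoh.IsCohenMacaulayLocalRing (Y.presheaf.stalk y)) ↔
      ∀ p : ℕ, 0 < p → IsZero ((Coh.Rpush f p).obj (DCoh.HD ((DCoh.shriek f hf).obj K).obj (-(d : ℤ)))) := by
  obtain ⟨hiso, hneg⟩ := nonempty_HD_iso_Rpush f hf hξ K hK d hKX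
  haveI hq : (DCoh.HD ((DCoh.shriek f hf).obj K).obj (-(d : ℤ))).IsQuasicoherent :=
    ((DCoh.shriek f hf).obj K).property (-(d : ℤ))
  let st := fun y : Y => Scheme.Modules.toPresheaf Y ⋙ TopCat.Presheaf.stalkFunctor Ab.{u} y
  have hz : ∀ {F : Y.Modules}, IsZero F → ∀ y : Y, Subsingleton (F.presheaf.stalk y) := fun h y =>
    AddCommGrpCat.subsingleton_of_isZero ((st y).map_isZero h)
  have hcm := (DualRing.isCM_stalk_iff_and_isOpen hK).1
  have hclosed : IsOpen {y : Y | ¬ Nontrivial ((DCoh.HD K.obj (-(d : ℤ))).presheaf.stalk y)} := by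
    refine isOpen_iff_forall_mem_open.2 fun y hy => ?_
    obtain ⟨U, hU, hyU, -⟩ := exists_isAffineOpen_mem_and_subset (x := y) (U := ⊤) trivial
    obtain ⟨q, hq⟩ := OX.mem_range_fromSpec hU hyU
    haveI : IsNoetherianRing Γ(Y, U) := IsLocallyNoetherian.component_noetherian ⟨U, hU⟩
    obtain ⟨ωA, hωA, h1, -⟩ := DualRing.exists_chart hK hU.fromSpec
    haveI := hωA.finite_cohomology (-(d : ℤ))
    let S := (Module.support Γ(Y, U) (Dual.HD Γ(Y, U) ωA (-(d : ℤ))))ᶜ
    refine ⟨hU.fromSpec '' S, ?_, hU.fromSpec.isOpenEmbedding.isOpenMap _ Module.isClosed_support.isOpen_compl,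
      q, fun h => hy (hq ▸ (h1 _ q).2 h), hq⟩
    rintro _ ⟨r, hr, rfl⟩ h
    exact hr ((h1 _ r).1 h)
  constructor
  · intro hY p hp
    refine IsZero.of_iso (RefK12.isZero_of_support_eq_empty (Set.eq_empty_iff_forall_notMem.2 fun y hy => ?_))
      (hiso p).some.symm
    obtain ⟨V, hVd, hV⟩ := hbir
    haveI := hV
    have hS : ∀ z : Y, Nontrivial ((DCoh.HD K.obj (-(d : ℤ))).presheaf.stalk z) := by
      by_contra hne
      push_neg at hne
      obtain ⟨z, hz'⟩ := hne
      obtain ⟨v, hv, hvV⟩ := hVd.inter_open_nonempty _ hclosed ⟨z, not_nontrivial_iff_subsingleton.2 hz'⟩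
      obtain ⟨i, hi, -⟩ := (hcm v).1 (hY v)
      rcases lt_trichotomy i (-(d : ℤ)) with h | rfl | h
      · exact not_subsingleton_iff_nontrivial.2 hi (hz (hneg i h) v)
      · exact hv hi
      · obtain ⟨p, hp⟩ := Int.eq_ofNat_of_zero_le (show 0 ≤ i + d by omega)
        obtain rfl : i = (p : ℤ) - d := by omega
        exact not_subsingleton_iff_nontrivial.2 hi
          (@Equiv.subsingleton _ _ ((st v).mapIso (hiso p).some).addCommGroupIsoToAddEquiv.toEquiv
            (subsingleton_stalk_Rpush_of_isIso f V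
              (DCoh.HD ((DCoh.shriek f hf).obj K).obj (-(d : ℤ))) (p := p) (by omega) hvV))
    have := ((hcm y).1 (hY y)).unique (not_subsingleton_iff_nontrivial.1 hy) (hS y)
    omega
  · intro hR y
    obtain ⟨U, hU, hyU, -⟩ := exists_isAffineOpen_mem_and_subset (x := y) (U := ⊤) trivial
    obtain ⟨q, rfl⟩ := OX.mem_range_fromSpec hU hyU
    haveI : IsNoetherianRing Γ(Y, U) := IsLocallyNoetherian.component_noetherian ⟨U, hU⟩
    obtain ⟨ωA, hωA, h1, h2⟩ := DualRing.exists_chart hK hU.fromSpec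
    have k : ∀ i : ℤ, q ∈ Module.support Γ(Y, U) (Dual.HD Γ(Y, U) ωA i) → i = -(d : ℤ) := by
      intro i hi
      by_contra hne
      refine not_subsingleton_iff_nontrivial.2 ((h1 i q).2 hi) (hz ?_ _)
      rcases lt_or_gt_of_ne hne with h | h
      · exact hneg i h
      · obtain ⟨p, hp⟩ := Int.eq_ofNat_of_zero_le (show 0 ≤ i + d by omega)
        obtain rfl : i = (p : ℤ) - d := by omega
        exact (hR p (by omega)).of_iso (hiso p).some
    exact (h2 q).2 ((DualRing.isCM_iff_support hωA q).2 fun i j hi hj => (k i hi).trans (k j hj).symm)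

end GrothLib.RightAdj20
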