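import Groth.Agent.Lib.RightAdj20.TraceReductionAlg
import Groth.Agent.Lib.RightAdj20.GRVanishing
import Groth.Agent.Lib.RightAdj20.TraceCM
import Groth.Agent.Lib.RightAdj22.TopRep
import Groth.Agent.Lib.RightAdj22.TopRepApps
import Groth.Agent.Lib.RatSing29.Completion

/-! # The trace cokernel controls `H¹(O)` of a modification -/

set_option autoImplicit false
set_option maxHeartbeats 2000000
set_option linter.style.haveILetI false
set_option backward.isDefEq.respectTransparency false
universe u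

open CategoryTheory CategoryTheory.Limits AlgebraicGeometry CategoryTheory.Pretriangulated GrothLib.OX TopologicalSpace IsLocalRing Opposite

attribute [local instance] HasDerivedCategory.standard

noncomputable section

namespace GrothLib.RightAdj20.TraceRed

section Tilde

variable {A : Type u} [CommRing A] [PreservesFiniteLimits (tilde.functor (CommRingCat.of A))]

/-- Global sections of the cohomology of an associated object. -/
def phiIso (i : ℤ) (K : Dual.D A) :
    (moduleSpecΓFunctor (R := CommRingCat.of A)).obj (DCoh.HD ((DCoh.tildeD (CommRingCat.of A)).obj K) i) ≅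
      (DerivedCategory.homologyFunctor (ModuleCat.{u} A) i).obj K :=
  (moduleSpecΓFunctor (R := CommRingCat.of A)).mapIso (HDTildeIso (R := CommRingCat.of A) K i) ≪≫
    (tilde.toTildeΓNatIso.app _).symm

theorem phiIso_naturality (i : ℤ) {K L : Dual.D A} (g : K ⟶ L) :
    (moduleSpecΓFunctor (R := CommRingCat.of A)).map
        ((DerivedCategory.homologyFunctor _ i).map ((DCoh.tildeD (CommRingCat.of A)).map g)) ≫ (phiIso i L).hom =
      (phiIso i K).hom ≫ (DerivedCategory.homologyFunctor (ModuleCat.{u} A) i).map g := by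
  have h1 := (DerTrunc.homologyMapIso (tilde.functor (CommRingCat.of A)) i).hom.naturality g
  have h2 := (tilde.toTildeΓNatIso (R := CommRingCat.of A)).inv.naturality
    ((DerivedCategory.homologyFunctor (ModuleCat.{u} A) i).map g)
  simp only [phiIso, Iso.trans_hom, Functor.mapIso_hom, Iso.symm_hom, Iso.app_inv, Category.assoc]
  refine Eq.trans ?_ (congrArg ((moduleSpecΓFunctor (R := CommRingCat.of A)).map (HDTildeIso (R := CommRingCat.of A) K i).hom ≫ ·) h2)
  rw [← Category.assoc]
  refine Eq.trans (congrArg (· ≫ _) ((Functor.map_comp _ _ _).symm.trans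
    ((congrArg ((moduleSpecΓFunctor (R := CommRingCat.of A)).map ·) h1).trans (Functor.map_comp _ _ _)))) ?_
  exact Category.assoc _ _ _

theorem isQCohD_tildeD (K : Dual.D A) : DCoh.IsQCohD ((DCoh.tildeD (CommRingCat.of A)).obj K) := fun i =>
  isQCoh_of_iso (HDTildeIso (R := CommRingCat.of A) K i).symm
    (inferInstanceAs ((tilde (R := CommRingCat.of A) ((DerivedCategory.homologyFunctor (ModuleCat.{u} A) i).obj K)).IsQuasicoherent))

end Tilde

variable (A : Type u) [CommRing A] [IsDomain A] [IsLocalRing A] [IsNoetherianRing A] [IsIntegrallyClosed A]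
  [PreservesFiniteLimits (tilde.functor (CommRingCat.of A))]
  (hdim : ringKrullDim A = 2) (X : Scheme.{u}) [X.Over (Spec (CommRingCat.of A))]
  [IsProper (X ↘ Spec (CommRingCat.of A))] [IsIntegral X] (hXn : Pi1.IsNormalScheme X)
  (hbir : ∃ U : (Spec (CommRingCat.of A)).Opens, (U : Set (Spec (CommRingCat.of A))).Nonempty ∧
    IsIso ((X ↘ Spec (CommRingCat.of A)) ∣_ U))
  [DCoh.HasRpush (X ↘ Spec (CommRingCat.of A))] (hf : DCoh.RpushPreservesQCoh (X ↘ Spec (CommRingCat.of A)))
  [DCoh.HasShriek (X ↘ Spec (CommRingCat.of A)) hf]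
  {ωA : Type u} [AddCommGroup ωA] [Module A ωA] (hω : Dual.IsDualizing A (Dual.inD A ωA))

include hdim hXn hbir hω in
/-- **A bound on the cokernel of the trace kills the first cohomology.** -/
theorem smul_HH_one_eq_zero (d : A)
    (htr : ∀ s : ((DerivedCategory.homologyFunctor (Spec (CommRingCat.of A)).Modules 0).obj
        ((DCoh.tildeD (CommRingCat.of A)).obj (Dual.inD A ωA))).val.obj (Opposite.op ⊤),
      ∃ t, (((DerivedCategory.homologyFunctor (Spec (CommRingCat.of A)).Modules 0).map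
          ((ObjectProperty.ι DCoh.IsQCohD).map ((DCoh.trace (X ↘ Spec (CommRingCat.of A)) hf).app
            ⟨_, isQCohD_tildeD (Dual.inD A ωA)⟩))).val.app (Opposite.op ⊤)) t =
        ((Scheme.ΓSpecIso (CommRingCat.of A)).inv.hom d) • s) :
    ∀ x : Coh.HH X (Coh.structureModule X) 1, d • x = 0 := by
  let f := X ↘ Spec (CommRingCat.of A)
  haveI : IsLocallyNoetherian X := LocallyOfFiniteType.isLocallyNoetherian f
  haveI : HasInjectiveResolutions X.Modules := RpushSupp20.hasInjectiveResolutions X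
  let T := DCoh.tildeD (CommRingCat.of A)
  let O := DCoh.inD X (Coh.structureModule X)
  let W : DCoh.DQCoh (Spec (CommRingCat.of A)) := ⟨_, isQCohD_tildeD (Dual.inD A ωA)⟩
  let e : W.obj ≅ T.obj (Dual.inD A ωA) := Iso.refl _
  let aW := ((DCoh.shriek f hf).obj W).obj
  let Γ' := moduleSpecΓFunctor (R := CommRingCat.of A)
  haveI : aW.IsGE 0 :=
    (DerivedCategory.isGE_iff _ _).2 fun i hi => isZero_HD_shriek A hdim f hXn hbir hf hω W e hi.ne
  haveI : aW.IsLE 0 :=
    (DerivedCategory.isLE_iff _ _).2 fun i hi => isZero_HD_shriek A hdim f hXn hbir hf hω W e hi.ne'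
  obtain ⟨eA⟩ := DerTrunc.nonempty_iso_single aW 0
  let N := DCoh.HD aW 0
  haveI hNq : N.IsQuasicoherent := ((DCoh.shriek f hf).obj W).property 0
  have hO : DCoh.IsQCohD O := isQCohD_of_isPerfect (isPerfect_unit X)
  haveI : (Coh.structureModule X).IsQuasicoherent :=
    isQCoh_of_iso ((DerivedCategory.singleFunctorCompHomologyFunctorIso X.Modules 0).app (Coh.structureModule X)) (hO 0)
  obtain ⟨hfull, hfaith, hess⟩ := tildeD_full_faithful_essImage (R := CommRingCat.of A)
  haveI := hfull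
  haveI := hfaith
  obtain ⟨M, ⟨eM⟩⟩ := hess _ (hf O hO)
  let P : DRing.Cx A := DerivedCategory.Q.objPreimage M
  let eP : T.obj (DRing.toD P) ≅ (DCoh.Rpush f).obj O := T.mapIso (DerivedCategory.Q.objObjPreimageIso M) ≪≫ eM
  -- the cohomology of the direct image
  let R := rpushIsoRres f
  have hlin : ∀ p : ℕ, Nonempty (Dual.HD A (DRing.toD P) (p : ℤ) ≃ₗ[A] Coh.HH X (Coh.structureModule X) p) := fun p => by
    obtain ⟨ep⟩ := SiteDer.nonempty_homology_Rres_single (OX.rmor f) (Coh.structureModule X) p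
    obtain ⟨g, hg, -⟩ := RightAdj22.exists_HH_Rpush (A := A) f p
    let E : Coh.HH X (Coh.structureModule X) p ≃ₗ[A]
        (Γ'.obj ((Coh.Rpush f p).obj (Coh.structureModule X)) : ModuleCat.{u} A) :=
      { g (Coh.structureModule X) inferInstance with map_smul' := fun r x => hg (Coh.structureModule X) inferInstance r x }
    exact ⟨((phiIso (p : ℤ) (DRing.toD P)).symm ≪≫ Γ'.mapIso ((DerivedCategory.homologyFunctor _ (p : ℤ)).mapIso
      (eP ≪≫ R.app O) ≪≫ ep)).toLinearEquiv.trans E.symm⟩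
  have hneg : ∀ i : ℤ, i < 0 → Subsingleton (Dual.HD A (DRing.toD P) i) := fun i hi => by
    haveI : O.IsGE 0 := inferInstance
    haveI : ((RR f).obj O).IsGE 0 := SiteDer.isGE_Rres (OX.rmor f) O 0
    refine (DR.subsingleton_iff_isZero _).2 (IsZero.of_iso ?_ (phiIso i (DRing.toD P)).symm)
    exact Γ'.map_isZero ((DerivedCategory.isZero_of_isGE ((RR f).obj O) 0 i hi).of_iso
      ((DerivedCategory.homologyFunctor _ i).mapIso (eP ≪≫ R.app O)))
  have hP : ∀ i, i ≠ 0 → i ≠ 1 → Subsingleton (Dual.HD A (DRing.toD P) i) := fun i h0 h1 => by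
    by_cases hi : i < 0
    · exact hneg i hi
    obtain ⟨n, rfl⟩ := Int.eq_ofNat_of_zero_le (not_lt.1 hi)
    obtain ⟨l⟩ := hlin n
    haveI := RatSing29.subsingleton_HH_two_le f hdim hbir (Coh.structureModule X) n (by omega)
    exact l.toEquiv.subsingleton
  have hfin : ∀ i, Module.Finite A (Dual.HD A (DRing.toD P) i) := fun i =>
    (isCoh_tilde_iff _).1 (QCoh.isCoh_of_iso ((DerivedCategory.homologyFunctor _ i).mapIso eP.symm ≪≫
      HDTildeIso (R := CommRingCat.of A) (DRing.toD P) i) ((HomBC22.isCohD_Rpush_perfect f (isPerfect_unit X)).1 i))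
  -- global functions
  obtain ⟨U₀, hU₀, hU₀i⟩ := id hbir
  haveI happ := RatSing29.isIso_app_of_birational f (fun z => by
    haveI : IsIntegrallyClosed (Localization.AtPrime z.asIdeal) :=
      isIntegrallyClosed_of_isLocalization _ z.asIdeal.primeCompl z.asIdeal.primeCompl_le_nonZeroDivisors
    exact IsIntegrallyClosed.of_equiv (AlgebraicGeometry.Spec.stalkIso (CommRingCat.of A) z).symm.commRingCatIsoToRingEquiv)
    U₀ hU₀ hU₀i ⊤
  obtain ⟨l0⟩ := hlin 0
  let one₀ : Coh.HH X (Coh.structureModule X) 0 := (ProjCoh.H0top _).symm (FinCov.one X ⊤)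
  have hbij : Function.Bijective fun r : A => r • one₀ := by
    have h1 : (fun r : A => ProjCoh.H0top (Coh.structureModule X) (r • one₀)) =
        fun r : A => (show Γ(X, ⊤) from Coh.toGlobal f r) := by
      funext r
      show ProjCoh.H0top _ (r • (ProjCoh.H0top _).symm (FinCov.one X ⊤)) = _
      rw [ProjCoh.H0top_smul, AddEquiv.apply_symm_apply]
      show (show Γ(X, ⊤) from Coh.toGlobal f r) * (1 : Γ(X, ⊤)) = _
      rw [mul_one]
    refine (Function.Bijective.of_comp_iff' (ProjCoh.H0top (Coh.structureModule X)).bijective _).1 ?_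
    show Function.Bijective fun r : A => ProjCoh.H0top (Coh.structureModule X) (r • one₀)
    rw [h1]
    exact (ConcreteCategory.bijective_of_isIso (f.app ⊤)).comp
      (ConcreteCategory.bijective_of_isIso (Scheme.ΓSpecIso (CommRingCat.of A)).inv)
  let e0 : Dual.HD A (DRing.toD P) 0 ≃ₗ[A] A :=
    l0.trans (LinearEquiv.ofBijective (LinearMap.toSpanSingleton A _ one₀) hbij).symm
  -- the higher direct image is supported at the closed point
  have htor : ∀ q : Ideal A, q.IsPrime → q ≠ maximalIdeal A → ∀ x : Dual.HD A (DRing.toD P) 1,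
      ∃ t, t ∉ q ∧ t • x = 0 := fun q hq hqm x => by
    let y : Spec (CommRingCat.of A) := ⟨q, hq⟩
    let Op : (Spec (CommRingCat.of A)).Opens := ⟨{closedPoint A}ᶜ, (isClosed_singleton_closedPoint A).isOpen_compl⟩
    haveI := RatSing29.isIso_restrict_punctured hdim f hbir Op (fun h => h rfl)
    haveI h1 := subsingleton_stalk_Rpush_of_isIso f Op (Coh.structureModule X) one_pos (y := y)
      (fun h => hqm (congrArg PrimeSpectrum.asIdeal h))
    obtain ⟨ep⟩ := SiteDer.nonempty_homology_Rres_single (OX.rmor f) (Coh.structureModule X) 1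
    let t : (tilde.functor (CommRingCat.of A)).obj ((DerivedCategory.homologyFunctor (ModuleCat.{u} A) 1).obj (DRing.toD P)) ≅
        (Coh.Rpush f 1).obj (Coh.structureModule X) :=
      (HDTildeIso (R := CommRingCat.of A) (DRing.toD P) 1).symm ≪≫
        (DerivedCategory.homologyFunctor _ 1).mapIso (eP ≪≫ R.app O) ≪≫ ep
    have h2 : Subsingleton ((tilde (R := CommRingCat.of A) ((DerivedCategory.homologyFunctor (ModuleCat.{u} A) 1).obj (DRing.toD P))).presheaf.stalk y) :=
      @Equiv.subsingleton _ _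
        (((Scheme.Modules.toPresheaf _ ⋙ TopCat.Presheaf.stalkFunctor Ab.{u} y).mapIso t).addCommGroupIsoToAddEquiv).toEquiv h1
    have h3 : y ∉ Module.support A (Dual.HD A (DRing.toD P) 1) := fun h =>
      not_subsingleton_iff_nontrivial.2 ((DualRing.nontrivial_tilde_stalk_iff (R := CommRingCat.of A) _ y).2 h) h2
    exact Module.notMem_support_iff'.1 h3 x
  -- morphisms to the dualizing module
  have hvan : ∀ n : ℤ, n ≠ 0 → Subsingleton (DRing.toD P ⟶ (Dual.inD A ωA)⟦n⟧) := fun n hn => by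
    let sY := (shiftEquiv' (DCoh.D (Spec (CommRingCat.of A))) (-n) n (by omega)).toAdjunction
    let sX := (shiftEquiv' (DCoh.D X) (-n) n (by omega)).toAdjunction
    let e1 : (DRing.toD P ⟶ (Dual.inD A ωA)⟦n⟧) ≃ (T.obj (DRing.toD P) ⟶ T.obj ((Dual.inD A ωA)⟦n⟧)) :=
      Functor.FullyFaithful.homEquiv (Functor.FullyFaithful.ofFullyFaithful T)
    let e2 : (T.obj (DRing.toD P) ⟶ T.obj ((Dual.inD A ωA)⟦n⟧)) ≃ ((RR f).obj O ⟶ W.obj⟦n⟧) :=
      (eP ≪≫ R.app O).homCongr ((T.commShiftIso n).app _ ≪≫ (shiftFunctor _ n).mapIso e.symm)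
    let e3 : ((RR f).obj O ⟶ W.obj⟦n⟧) ≃ ((RR f).obj (O⟦-n⟧) ⟶ W.obj) :=
      (sY.homEquiv ((RR f).obj O) W.obj).symm.trans
        ((((RR f).commShiftIso (-n)).app O).symm.homCongr (Iso.refl W.obj))
    let e4 : (O⟦-n⟧ ⟶ aW) ≃ ((RR f).obj (O⟦-n⟧) ⟶ W.obj) :=
      Equiv.ofBijective _ (bijective_map_trR f hf (DCoh.shriekAdj f hf) _ (isQCohD_shift hO (-n)) W)
    let e5 : (O⟦-n⟧ ⟶ aW) ≃ (O ⟶ (DCoh.inD X N)⟦n⟧) :=
      (sX.homEquiv O aW).trans ((Iso.refl O).homCongr ((shiftFunctor _ n).mapIso eA))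
    let k := (((e1.trans e2).trans e3).trans e4.symm).trans e5
    haveI : Subsingleton (O ⟶ (DCoh.inD X N)⟦n⟧) := by
      rcases lt_or_gt_of_ne hn with hlt | hgt
      · haveI : O.IsLE 0 := inferInstance
        haveI : ((DCoh.inD X N)⟦n⟧).IsGE (-n) :=
          DerivedCategory.TStructure.t.isGE_shift (DCoh.inD X N) 0 n (-n) (by omega)
        exact ⟨fun a b => (DerivedCategory.TStructure.t.zero a 0 (-n) (by omega)).trans
          (DerivedCategory.TStructure.t.zero b 0 (-n) (by omega)).symm⟩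
      · obtain ⟨m, rfl⟩ := Int.eq_ofNat_of_zero_le hgt.le
        obtain ⟨h⟩ := nonempty_hh_equiv_hom A N m
        by_cases hm : m = 1
        · subst hm
          haveI : Subsingleton (Coh.HH X N 1) := subsingleton_H1_shriek A hdim f hXn hbir hf hω W e
          exact h.symm.subsingleton
        · haveI := RatSing29.subsingleton_HH_two_le f hdim hbir N m (by omega)
          exact h.symm.subsingleton
    exact k.subsingleton
  -- the trace
  have hsurj : ∀ v : Dual.inD A A ⟶ Dual.inD A ωA, ∃ (u0 : Dual.inD A A ⟶ DRing.toD P)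
      (z : DRing.toD P ⟶ Dual.inD A ωA), u0 ≫ z = d • v := fun v => by
    obtain ⟨M0, ⟨eM0⟩⟩ := hess _ (hf aW ((DCoh.shriek f hf).obj W).property)
    let tr : T.obj M0 ⟶ T.obj (Dual.inD A ωA) :=
      eM0.hom ≫ (ObjectProperty.ι DCoh.IsQCohD).map ((DCoh.trace f hf).app W)
    let tr' := T.preimage tr
    let s := (phiIso 0 (Dual.inD A ωA)).inv (ev _ v)
    obtain ⟨t, ht⟩ := htr s
    let t' : (Γ'.obj (DCoh.HD (T.obj M0) 0) : ModuleCat.{u} A) :=
      Γ'.map ((DerivedCategory.homologyFunctor _ 0).map eM0.inv) t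
    obtain ⟨v0, hv0⟩ := (ev_bijective M0).2 ((phiIso 0 M0).hom t')
    have hv : v0 ≫ tr' = d • v := by
      refine (ev_bijective (Dual.inD A ωA)).1 ?_
      rw [ev_comp, hv0, map_smul]
      refine (ConcreteCategory.congr_hom (phiIso_naturality 0 tr').symm t').trans ?_
      rw [Functor.map_preimage]
      show (phiIso 0 (Dual.inD A ωA)).hom (Γ'.map ((DerivedCategory.homologyFunctor _ 0).map tr) t') = _
      have h1 : Γ'.map ((DerivedCategory.homologyFunctor _ 0).map tr) t' = d • s := by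
        show (Γ'.map ((DerivedCategory.homologyFunctor _ 0).map eM0.inv) ≫
          Γ'.map ((DerivedCategory.homologyFunctor _ 0).map tr)) t = _
        rw [← Functor.map_comp, ← Functor.map_comp, show eM0.inv ≫ tr = _ from eM0.inv_hom_id_assoc _]
        refine ht.trans ?_
        let s' : Γ(DCoh.HD (T.obj (Dual.inD A ωA)) 0, ⊤) := s
        refine Eq.trans ?_ (Scheme.Modules.smul_Spec_def (R := CommRingCat.of A)
          (M := DCoh.HD (T.obj (Dual.inD A ωA)) 0) (U := ⊤) d s').symm
        refine congrArg (fun z : Γ(Spec (CommRingCat.of A), ⊤) => z • s') ?_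
        rw [show ((⊤ : (Spec (CommRingCat.of A)).Opens).leTop).op = 𝟙 _ from Subsingleton.elim _ _]
        exact (ConcreteCategory.congr_hom ((Spec (CommRingCat.of A)).presheaf.map_id _) _).symm
      rw [h1, map_smul]
      exact congrArg (d • ·) ((phiIso 0 (Dual.inD A ωA)).inv_hom_id_apply _)
    haveI := OX.hasLpull f
    obtain ⟨adjL⟩ := OX.nonempty_lpullAdj f
    let b := adjL.ofNatIsoRight R
    obtain ⟨l⟩ := Detect22.nonempty_lpull_unit f
    let eY : T.obj (Dual.inD A A) ≅ DCoh.inD (Spec (CommRingCat.of A)) (Coh.structureModule _) :=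
      ((tilde.functor (CommRingCat.of A)).mapDerivedCategorySingleFunctor 0).app _ ≪≫
        (DerivedCategory.singleFunctor _ 0).mapIso (tildeSelf (R := CommRingCat.of A))
    let eL : (DCoh.Lpull f).obj (T.obj (Dual.inD A A)) ≅ O :=
      (DCoh.Lpull f).mapIso (eY ≪≫ (unitCxQIso _).symm) ≪≫ l ≪≫ unitCxQIso X
    let φ : T.obj (Dual.inD A A) ⟶ (RR f).obj aW := T.map v0 ≫ eM0.hom ≫ R.hom.app aW
    let y : O ⟶ aW := eL.inv ≫ (b.homEquiv _ _).symm φ
    let s0 := b.unit.app (T.obj (Dual.inD A A)) ≫ (RR f).map eL.hom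
    have hφ : s0 ≫ (RR f).map y = φ := by
      show (b.unit.app _ ≫ (RR f).map eL.hom) ≫ (RR f).map (eL.inv ≫ (b.homEquiv _ _).symm φ) = φ
      rw [Category.assoc, ← Functor.map_comp, Iso.hom_inv_id_assoc]
      exact ((b.homEquiv_unit _ _ _).symm).trans (Equiv.apply_symm_apply _ _)
    refine ⟨T.preimage (s0 ≫ R.inv.app O ≫ eP.inv),
      T.preimage (eP.hom ≫ (DCoh.Rpush f).map y ≫ (ObjectProperty.ι DCoh.IsQCohD).map ((DCoh.trace f hf).app W)), ?_⟩
    rw [← hv]
    refine T.map_injective ?_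
    simp only [tr', T.map_comp, T.map_preimage]
    simp only [Category.assoc, Iso.inv_hom_id_assoc]
    have hn : R.inv.app O ≫ (DCoh.Rpush f).map y = (RR f).map y ≫ R.inv.app aW := (R.inv.naturality y).symm
    rw [reassoc_of% hn, ← Category.assoc]
    refine (congrArg (· ≫ _) hφ).trans ?_
    simp [φ, tr]
  obtain ⟨l1⟩ := hlin 1
  intro x
  rw [← l1.apply_symm_apply x, ← map_smul,
    smul_HD_one_eq_zero hω hdim P hfin e0 hP htor hvan d hsurj (l1.symm x), map_zero]

end GrothLib.RightAdj20.TraceRed
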