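import Groth.Agent.Lib.RightAdj20.DualHom
import Groth.Agent.Lib.DerCat.Theta
import Groth.Agent.Lib.DerCat.Truncation
import Groth.Agent.Lib.DCxRing.KoszulCone

/-! # A bound on the trace cokernel bounds the first cohomology -/

set_option autoImplicit false
set_option maxHeartbeats 1000000
set_option linter.style.haveILetI false
set_option backward.isDefEq.respectTransparency false
universe u

open CategoryTheory CategoryTheory.Limits DerivedCategory IsLocalRing Pretriangulated
open GrothLib.SiteDer (theta)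

attribute [local instance] HasDerivedCategory.standard

noncomputable section

namespace GrothLib.RightAdj20.TraceRed

open GrothLib.DualCx22

variable {A : Type u} [CommRing A]

/-- The value at `1` of a morphism out of the ring, in cohomology. -/
def ev (K : Dual.D A) : (Dual.inD A A ⟶ K) →ₗ[A] Dual.HD A K 0 where
  toFun φ := (theta φ).hom (1 : A)
  map_add' φ ψ := by simp [SiteDer.theta]
  map_smul' a φ := by
    erw [DR.theta_smul]
    rfl

theorem ev_comp {K L : Dual.D A} (φ : Dual.inD A A ⟶ K) (g : K ⟶ L) :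
    ev L (φ ≫ g) = ((homologyFunctor (ModuleCat.{u} A) 0).map g).hom (ev K φ) := by
  show (theta (φ ≫ g)).hom (1 : A) = _
  rw [SiteDer.theta_comp]
  rfl

theorem ev_bijective (K : Dual.D A) : Function.Bijective (ev K) := by
  haveI : Projective (ModuleCat.of A A) := (IsProjective.iff_projective (R := A) A).1 inferInstance
  have h := DerTheta.thetaBij_of_projective (ModuleCat.of A A) 0 K
  refine ⟨fun φ ψ e => h.1 (ModuleCat.hom_ext (LinearMap.ext_ring e)), fun x => ?_⟩
  obtain ⟨φ, hφ⟩ := h.2 (ModuleCat.ofHom (LinearMap.toSpanSingleton A (Dual.HD A K 0) x))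
  refine ⟨φ, ?_⟩
  show (theta φ).hom (1 : A) = x
  simp only at hφ
  rw [hφ]
  exact one_smul A x

variable [IsDomain A] [IsLocalRing A] [IsNoetherianRing A]
  {ωA : Type u} [AddCommGroup ωA] [Module A ωA] (hω : Dual.IsDualizing A (Dual.inD A ωA))
  (hdim : ringKrullDim A = 2)

include hω hdim in
/-- No maps to the dualizing module from an object with torsion cohomology in degree one. -/
theorem subsingleton_hom_of_torsion (C : Dual.D A) (hfin : Module.Finite A (Dual.HD A C 1))
    (hC : ∀ i, i ≠ 1 → Subsingleton (Dual.HD A C i))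
    (htor : ∀ q : Ideal A, q.IsPrime → q ≠ maximalIdeal A → ∀ x : Dual.HD A C 1, ∃ t, t ∉ q ∧ t • x = 0) :
    Subsingleton (C ⟶ Dual.inD A ωA) := by
  obtain ⟨G, hG⟩ := (IsNoetherian.noetherian (maximalIdeal A) : (maximalIdeal A).FG)
  have hdeg := deg_maximal_of_module 2 hdim hω
  have htop : DualRing.len (maximalIdeal A) (Dual.HD A C 1) ≠ ⊤ := by
    refine DualRing.len_ne_top_of_torsion (maximalIdeal A) (G : Set A) hG.ge (Dual.HD A C 1) fun g hg z => ?_
    have h1 : g ∈ Ideal.radical (LinearMap.ker (LinearMap.toSpanSingleton A (Dual.HD A C 1) z) : Ideal A) := by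
      rw [Ideal.radical_eq_sInf, Ideal.mem_sInf]
      rintro J ⟨hJ, hJp⟩
      by_cases hJm : J = maximalIdeal A
      · rw [hJm, ← hG]; exact Ideal.subset_span hg
      · obtain ⟨t, ht, htz⟩ := htor J hJp hJm z
        exact (ht (hJ (LinearMap.mem_ker.2 (show LinearMap.toSpanSingleton A _ z t = 0 from htz)))).elim
    obtain ⟨k, hk⟩ := h1
    exact ⟨k, LinearMap.mem_ker.1 hk⟩
  have hGood : DualRing.Good (maximalIdeal A) C :=
    { finite := fun i => by
        by_cases hi : i = 1
        · subst hi; exact hfin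
        · haveI := hC i hi; infer_instance
      ne_top := fun i => by
        by_cases hi : i = 1
        · subst hi; exact htop
        · haveI := hC i hi; rw [DualRing.len_eq_zero_of_subsingleton]; exact ENat.zero_ne_top
      bdd := ⟨1, 1, fun i hi => hC i (by omega)⟩ }
  have h0 : DualRing.len (maximalIdeal A) (DualRing.EH (Dual.inD A ωA) C 0) = 0 :=
    DualRing.vanish hGood 0 fun j => by
      by_cases hj : j = 1
      · subst hj
        exact Or.inr (DualRing.mu_ne_deg hω (maximalIdeal A) (by rw [hdeg]; norm_num))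
      · haveI := hC j hj
        exact Or.inl DualRing.len_eq_zero_of_subsingleton
  haveI : Subsingleton (C ⟶ (Dual.inD A ωA)⟦(0 : ℤ)⟧) := subsingleton_of_forall_eq 0 fun x => by
    obtain ⟨s, hs, hx⟩ := DualRing.len_eq_zero_iff.1 h0 x
    obtain ⟨v, rfl⟩ := notMem_maximalIdeal.1 hs
    have h2 : ((v⁻¹ : Aˣ) : A) • ((v : A) • x) = 0 := by rw [hx, smul_zero]
    rwa [smul_smul, Units.inv_mul, one_smul] at h2
  exact ((Iso.refl C).homCongr ((shiftFunctorZero (Dual.D A) ℤ).app (Dual.inD A ωA))).symm.subsingleton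

include hω hdim in
/-- **If the restriction to the ring has cokernel killed by `d`, then `d` kills the first cohomology.** -/
theorem smul_HD_one_eq_zero (P : DRing.Cx A) (hfin : ∀ i, Module.Finite A (Dual.HD A (DRing.toD P) i))
    (e0 : Dual.HD A (DRing.toD P) 0 ≃ₗ[A] A)
    (hP : ∀ i, i ≠ 0 → i ≠ 1 → Subsingleton (Dual.HD A (DRing.toD P) i))
    (htor : ∀ q : Ideal A, q.IsPrime → q ≠ maximalIdeal A → ∀ x : Dual.HD A (DRing.toD P) 1, ∃ t, t ∉ q ∧ t • x = 0)
    (hvan : ∀ n : ℤ, n ≠ 0 → Subsingleton (DRing.toD P ⟶ (Dual.inD A ωA)⟦n⟧))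
    (d : A) (hsurj : ∀ v : Dual.inD A A ⟶ Dual.inD A ωA, ∃ (u0 : Dual.inD A A ⟶ DRing.toD P)
      (z : DRing.toD P ⟶ Dual.inD A ωA), u0 ≫ z = d • v) :
    ∀ x : Dual.HD A (DRing.toD P) 1, d • x = 0 := by
  let ω := Dual.inD A ωA
  let H := homologyFunctor (ModuleCat.{u} A)
  let S := DerivedCategory.singleFunctor (ModuleCat.{u} A) 0
  -- the generator
  obtain ⟨u, hu⟩ := (ev_bijective (DRing.toD P)).2 (e0.symm 1)
  have hgen : ∀ y : Dual.HD A (DRing.toD P) 0, e0 y • ev (DRing.toD P) u = y := fun y => by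
    rw [hu, ← map_smul, smul_eq_mul, mul_one, LinearEquiv.symm_apply_apply]
  have hinjθ : Function.Injective (theta u).hom := (injective_iff_map_eq_zero _).2 fun a ha => by
    let a' : A := a
    have h1 : (theta u).hom (a' • (1 : A)) = a' • ev (DRing.toD P) u := map_smul _ _ _
    rw [smul_eq_mul, mul_one, hu] at h1
    have h2 := congrArg e0 (h1.symm.trans ha)
    rwa [map_smul, LinearEquiv.apply_symm_apply, map_zero, smul_eq_mul, mul_one] at h2
  have hsurjθ : Function.Surjective (theta u).hom := fun y => ⟨(show A from e0 y), by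
    let c : A := e0 y
    have h1 : (theta u).hom (c • (1 : A)) = c • ev (DRing.toD P) u := map_smul _ _ _
    rw [smul_eq_mul, mul_one] at h1
    exact h1.trans (hgen y)⟩
  haveI : IsIso (theta u) := (ConcreteCategory.isIso_iff_bijective _).2 ⟨hinjθ, hsurjθ⟩
  haveI hiu : IsIso ((H 0).map u) := by
    have h1 : (H 0).map u = (singleFunctorCompHomologyFunctorIso (ModuleCat.{u} A) 0).hom.app (ModuleCat.of A A) ≫
        theta u := by
      simp [SiteDer.theta, H]
    rw [h1]
    infer_instance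
  -- the cone
  obtain ⟨C, g, h, hT⟩ := Pretriangulated.distinguished_cocone_triangle u
  let T := Triangle.mk u g h
  have hA : ∀ i : ℤ, i ≠ 0 → IsZero ((H i).obj T.obj₁) := fun i hi =>
    (DR.subsingleton_iff_isZero _).1 (DR.subsingleton_HD_inD (A := A) A i hi)
  have hC : ∀ i, i ≠ 1 → IsZero ((H i).obj C) := fun i hi => by
    refine (HomologySequence.exact₃ T hT i (i + 1) rfl).isZero_X₂ ?_ ?_
    · show (H i).map g = 0
      by_cases hi0 : i = 0
      · subst hi0
        have h1 : (H 0).map u ≫ (H 0).map g = 0 := by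
          rw [← Functor.map_comp, show u ≫ g = 0 from comp_distTriang_mor_zero₁₂ T hT, Functor.map_zero]
        exact (cancel_epi ((H 0).map u)).1 (h1.trans comp_zero.symm)
      · exact ((DR.subsingleton_iff_isZero _).1 (hP i hi0 hi)).eq_of_src _ _
    · show HomologySequence.δ T i (i + 1) rfl = 0
      by_cases hi0 : i + 1 = 0
      · have h1 := HomologySequence.δ_comp T hT i (i + 1) rfl
        haveI : Mono ((H (i + 1)).map T.mor₁) := by
          rw [hi0]
          exact inferInstanceAs (Mono ((H 0).map u))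
        exact (cancel_mono ((H (i + 1)).map T.mor₁)).1 (h1.trans zero_comp.symm)
      · exact (hA (i + 1) hi0).eq_of_tgt _ _
  have hg1 : Function.Surjective ((H 1).map g).hom := fun y => by
    have hex := HomologySequence.exact₃ T hT 1 2 rfl
    have h0 : (HomologySequence.δ T 1 2 rfl).hom y = 0 := by
      rw [(hA 2 (by omega)).eq_of_tgt (HomologySequence.δ T 1 2 rfl) 0]
      rfl
    exact ((ShortComplex.moduleCat_exact_iff _).1 hex) y h0
  haveI := subsingleton_hom_of_torsion hω hdim C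
    (haveI := hfin 1; Module.Finite.of_surjective ((H 1).map g).hom hg1)
    (fun i hi => (DR.subsingleton_iff_isZero _).2 (hC i hi)) fun q hq hqm y => by
      obtain ⟨x, rfl⟩ := hg1 y
      obtain ⟨t, ht, htx⟩ := htor q hq hqm x
      exact ⟨t, ht, by rw [← map_smul, htx, map_zero]⟩
  have hres : ∀ z : DRing.toD P ⟶ ω, u ≫ z = 0 → z = 0 := fun z hz => by
    obtain ⟨w, hw⟩ := Triangle.yoneda_exact₂ T hT z hz
    rw [show z = g ≫ w from hw, Subsingleton.elim (α := C ⟶ Dual.inD A ωA) w 0]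
    exact comp_zero
  -- divisibility by `d`
  have hdiv : ∀ v : Dual.inD A A ⟶ ω, ∃ z : DRing.toD P ⟶ ω, u ≫ z = d • v := fun v => by
    obtain ⟨u0, z, hz⟩ := hsurj v
    refine ⟨e0 (ev _ u0) • z, ?_⟩
    rw [← hz, Linear.comp_smul, ← Linear.smul_comp]
    refine congrArg (· ≫ z) ((ev_bijective (DRing.toD P)).1 ?_)
    rw [map_smul]
    exact hgen _
  -- the dual
  obtain ⟨r⟩ := nonempty_injRep hω
  let D := DRing.toD (r.dual P)
  have hD : ∀ i, i ≠ 0 → Subsingleton (Dual.HD A D i) := fun i hi => by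
    obtain ⟨l⟩ := r.nonempty_HD_dual P i
    haveI := hvan i hi
    exact l.toEquiv.subsingleton
  haveI : D.IsGE 0 := (DerivedCategory.isGE_iff _ _).2 fun i hi => (DR.subsingleton_iff_isZero _).1 (hD i hi.ne)
  haveI : D.IsLE 0 := (DerivedCategory.isLE_iff _ _).2 fun i hi => (DR.subsingleton_iff_isZero _).1 (hD i hi.ne')
  obtain ⟨eD⟩ := DerTrunc.nonempty_iso_single D 0
  obtain ⟨l0'⟩ := r.nonempty_HD_dual P 0
  let l0 : Dual.HD A D 0 ≃ₗ[A] (DRing.toD P ⟶ ω) :=
    l0'.trans (Linear.homCongr A (Iso.refl _) ((shiftFunctorZero (Dual.D A) ℤ).app ω))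
  let G : (Dual.inD A A ⟶ ω) ≃ₗ[A] ωA :=
    (LinearEquiv.ofBijective (ev ω) (ev_bijective ω)).trans (DR.inDHomologyIso ωA).toLinearEquiv
  let iot : Dual.HD A D 0 →ₗ[A] ωA :=
    G.toLinearMap ∘ₗ (Linear.leftComp A ω u) ∘ₗ l0.toLinearMap
  have hiot : Function.Injective iot := (injective_iff_map_eq_zero _).2 fun m hm =>
    l0.map_eq_zero_iff.1 (hres _ (G.map_eq_zero_iff.1 hm))
  have hrange : ∀ x : ωA, d • x ∈ LinearMap.range iot := fun x => by
    obtain ⟨z, hz⟩ := hdiv (G.symm x)
    refine ⟨l0.symm z, ?_⟩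
    show G (u ≫ l0 (l0.symm z)) = d • x
    rw [LinearEquiv.apply_symm_apply, hz, map_smul, LinearEquiv.apply_symm_apply]
  let j : ωA →ₗ[A] Dual.HD A D 0 :=
    (LinearEquiv.ofInjective iot hiot).symm.toLinearMap ∘ₗ
      LinearMap.codRestrict (LinearMap.range iot) (d • LinearMap.id) hrange
  have hij : ∀ x, iot (j x) = d • x := fun x =>
    (LinearEquiv.ofInjective_apply (f := iot) (h := hiot) (j x)).symm.trans
      (congrArg Subtype.val ((LinearEquiv.ofInjective iot hiot).apply_symm_apply _))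
  have hji : ∀ m, j (iot m) = d • m := fun m => hiot (by rw [hij, map_smul])
  haveI : Subsingleton (Dual.inD A ωA ⟶ ω⟦(1 : ℤ)⟧) := hω.ext_self_subsingleton 1 (by norm_num)
  obtain ⟨e⟩ := r.nonempty_hom_dual P hfin 1
  intro x
  rw [← e.apply_symm_apply x, ← map_smul]
  refine e.map_eq_zero_iff.2 ?_
  generalize e.symm x = y
  obtain ⟨φ, rfl⟩ : ∃ φ, eD.hom ≫ φ = y := ⟨eD.inv ≫ y, by simp⟩
  rw [← Linear.comp_smul]
  have hid : d • 𝟙 (ModuleCat.of A (Dual.HD A D 0)) = ModuleCat.ofHom iot ≫ ModuleCat.ofHom j :=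
    ModuleCat.hom_ext (LinearMap.ext fun m => (hji m).symm)
  have hfac : d • 𝟙 (S.obj (ModuleCat.of A (Dual.HD A D 0))) = S.map (ModuleCat.ofHom iot) ≫ S.map (ModuleCat.ofHom j) := by
    rw [← Functor.map_comp, ← hid, Functor.map_smul, CategoryTheory.Functor.map_id]
  have hzero : d • φ = 0 := by
    calc d • φ = (d • 𝟙 (S.obj (ModuleCat.of A (Dual.HD A D 0)))) ≫ φ := by
          rw [Linear.smul_comp, Category.id_comp]
      _ = S.map (ModuleCat.ofHom iot) ≫ (S.map (ModuleCat.ofHom j) ≫ φ) := by rw [hfac, Category.assoc]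
      _ = 0 := by
        rw [Subsingleton.elim (α := Dual.inD A ωA ⟶ ω⟦(1 : ℤ)⟧) (S.map (ModuleCat.ofHom j) ≫ φ) 0, comp_zero]
  rw [hzero, comp_zero]

end GrothLib.RightAdj20.TraceRed
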