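import Groth.Agent.Lib.HomBC22.LocalAdj
import Groth.Agent.Lib.RightAdj22.UnitEnd
import Groth.Agent.Lib.RightAdj20.BCMapLocal
import Groth.Agent.Lib.TorBC25.Splits
import Groth.Agent.Lib.TorBC25.ThA
import Groth.Agent.Lib.ShriekBridge22.Dualizing
import Groth.Agent.Lib.KSix19.ProjPush.Detect
import Groth.Agent.Lib.OX.AffineApps
import Groth.Agent.Lib.OX.TildeD
import Groth.Agent.Lib.PPGen.TildeHom

/-! # The trace and the unit of a proper morphism -/

set_option autoImplicit false
set_option maxHeartbeats 2000000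
set_option linter.style.haveILetI false
set_option backward.isDefEq.respectTransparency false
universe u v w v' w'

open CategoryTheory CategoryTheory.Limits AlgebraicGeometry CategoryTheory.Pretriangulated GrothLib.OX

attribute [local instance] HasDerivedCategory.standard

noncomputable section

namespace GrothLib.RightAdj20

section Local

variable {X U U' : Scheme.{u}}

/-- A map between local objects invertible on the open is invertible. -/
theorem isIso_of_restrBij (j : U ⟶ X) [IsOpenImmersion j] {A B : DCoh.D X} (hA : DCoh.IsQCohD A)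
    (hB : DCoh.IsQCohD B) (hA' : HomBC22.RestrBij j A) (hB' : HomBC22.RestrBij j B) (φ : A ⟶ B)
    (h : IsIso ((resD j).map φ)) : IsIso φ := by
  haveI := h
  obtain ⟨ψ, hψ⟩ := (hA' B hB).2 (inv ((resD j).map φ))
  refine ⟨ψ, (hA' A hA).1 ?_, (hB' B hB).1 ?_⟩
  · show (resD j).map (φ ≫ ψ) = (resD j).map (𝟙 A)
    rw [Functor.map_comp, show (resD j).map ψ = inv ((resD j).map φ) from hψ, IsIso.hom_inv_id,
      CategoryTheory.Functor.map_id]
  · show (resD j).map (ψ ≫ φ) = (resD j).map (𝟙 B)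
    rw [Functor.map_comp, show (resD j).map ψ = inv ((resD j).map φ) from hψ, IsIso.inv_hom_id,
      CategoryTheory.Functor.map_id]

theorem restrBij_congr {i j : U ⟶ X} [IsOpenImmersion i] [IsOpenImmersion j] (e : i = j) {K : DCoh.D X}
    (h : HomBC22.RestrBij i K) : HomBC22.RestrBij j K := by
  subst e
  exact h

/-- Locality does not depend on the parametrisation of the open. -/
theorem restrBij_iso_comp (k : U' ⟶ U) [IsIso k] (j : U ⟶ X) [IsOpenImmersion j] {K : DCoh.D X}
    (h : HomBC22.RestrBij j K) : HomBC22.RestrBij (k ≫ j) K := fun M hM => by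
  have hk := (HomBC22.restrBij_of_isIso_unit k ((resD j).obj K)
    (isIso_resDAdj_unit_of_surjective k k.homeomorph.surjective ((resD j).obj K)))
    ((resD j).obj M) (isQCohD_resD j hM)
  let c := resDCompIso k j
  have e : (fun φ : M ⟶ K => (resD (k ≫ j)).map φ) = (Iso.homCongr (c.app M) (c.app K)) ∘
      (fun t : (resD j).obj M ⟶ (resD j).obj K => (resD k).map t) ∘ fun φ : M ⟶ K => (resD j).map φ := funext fun φ => by
    show _ = c.inv.app M ≫ (resD j ⋙ resD k).map φ ≫ c.hom.app K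
    rw [c.hom.naturality, Iso.inv_hom_id_app_assoc]
  rw [e]
  exact (Equiv.bijective _).comp (hk.comp (h M hM))

end Local

section Trace

variable {X Y : Scheme.{u}} (f : X ⟶ Y) [DCoh.HasRpush f] (hf : DCoh.RpushPreservesQCoh f)
  {a : DCoh.DQCoh Y ⥤ DCoh.DQCoh X} (adj : DCoh.RpushQ f hf ⊣ a)

/-- The trace, on the total direct image. -/
def trR (K : DCoh.DQCoh Y) : (RR f).obj (a.obj K).obj ⟶ K.obj :=
  (rpushIsoRres f).inv.app _ ≫ (adj.counit.app K).hom

theorem trR_naturality {K K' : DCoh.DQCoh Y} (η : K ⟶ K') :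
    (RR f).map (a.map η).hom ≫ trR f hf adj K' = trR f hf adj K ≫ η.hom := by
  refine ((rpushIsoRres f).inv.naturality_assoc (a.map η).hom _).trans ?_
  refine Eq.trans ?_ (Category.assoc _ _ _).symm
  exact congrArg ((rpushIsoRres f).inv.app _ ≫ ·) (congrArg InducedCategory.Hom.hom (adj.counit.naturality η))

include adj in
/-- The trace is universal. -/
theorem bijective_map_trR (N : DCoh.D X) (hN : DCoh.IsQCohD N) (K : DCoh.DQCoh Y) :
    Function.Bijective fun y : N ⟶ (a.obj K).obj => (RR f).map y ≫ trR f hf adj K := by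
  let N₀ : DCoh.DQCoh X := ⟨N, hN⟩
  let r := rpushIsoRres f
  have e : (fun y : N ⟶ (a.obj K).obj => (RR f).map y ≫ trR f hf adj K) =
      (fun t : (DCoh.RpushQ f hf).obj N₀ ⟶ K => r.inv.app N ≫ t.hom) ∘
        (adj.homEquiv N₀ K).symm ∘ fun y => ObjectProperty.homMk y := by
    funext y
    simp only [Function.comp_apply, Adjunction.homEquiv_counit]
    exact r.inv.naturality_assoc y _
  rw [e]
  refine (Function.Bijective.comp ⟨fun t t' h => ObjectProperty.hom_ext _ ((cancel_epi (r.inv.app N)).1 h),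
    fun s => ⟨ObjectProperty.homMk (r.hom.app N ≫ s), Iso.inv_hom_id_app_assoc r N s⟩⟩ ((Equiv.bijective _).comp ?_))
  exact ⟨fun y y' h => congrArg InducedCategory.Hom.hom h, fun t => ⟨t.hom, rfl⟩⟩

variable [DCoh.HasLpull f] (b : DCoh.Lpull f ⊣ RR f)

include adj in
/-- Composing with the trace is composing with the unit. -/
theorem comp_trR_surjective {M : DCoh.D Y} (hM : DCoh.IsQCohD M) (ρ : (RR f).obj ((DCoh.Lpull f).obj M) ⟶ M)
    (hρ : b.unit.app M ≫ ρ = 𝟙 M) (K : DCoh.DQCoh Y) :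
    Function.Surjective fun x : M ⟶ (RR f).obj (a.obj K).obj => x ≫ trR f hf adj K := fun z => by
  obtain ⟨y, hy⟩ := (bijective_map_trR f hf adj _ (TorBC25.isQCohD_lpull f hM) K).2 (ρ ≫ z)
  refine ⟨b.unit.app M ≫ (RR f).map y, ?_⟩
  show (b.unit.app M ≫ (RR f).map y) ≫ _ = z
  rw [Category.assoc]
  exact (congrArg (b.unit.app M ≫ ·) hy).trans (by rw [← Category.assoc, hρ]; exact Category.id_comp z)

include adj in
theorem comp_trR_bijective {M : DCoh.D Y} (hM : DCoh.IsQCohD M) (h : IsIso (b.unit.app M)) (K : DCoh.DQCoh Y) :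
    Function.Bijective fun x : M ⟶ (RR f).obj (a.obj K).obj => x ≫ trR f hf adj K := by
  haveI := h
  refine ⟨fun x x' hx => ?_, comp_trR_surjective f hf adj b hM (inv (b.unit.app M)) (IsIso.hom_inv_id _) K⟩
  rw [← (b.homEquiv M (a.obj K).obj).apply_symm_apply x, ← (b.homEquiv M (a.obj K).obj).apply_symm_apply x'] at hx ⊢
  simp only [Adjunction.homEquiv_unit, Category.assoc] at hx ⊢
  exact congrArg (b.unit.app M ≫ ·) (congrArg (fun y => (RR f).map y)
    ((bijective_map_trR f hf adj _ (TorBC25.isQCohD_lpull f hM) K).1 ((cancel_epi (b.unit.app M)).1 hx)))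

include adj in
theorem precomp_unit_bijective {M : DCoh.D Y} (hM : DCoh.IsQCohD M) (K : DCoh.DQCoh Y)
    (h : IsIso (trR f hf adj K)) :
    Function.Bijective fun z : (RR f).obj ((DCoh.Lpull f).obj M) ⟶ K.obj => b.unit.app M ≫ z := by
  haveI := h
  refine (Function.Bijective.of_comp_iff _ (bijective_map_trR f hf adj _ (TorBC25.isQCohD_lpull f hM) K)).1 ?_
  have e : (fun z : (RR f).obj ((DCoh.Lpull f).obj M) ⟶ K.obj => b.unit.app M ≫ z) ∘
      (fun y : (DCoh.Lpull f).obj M ⟶ (a.obj K).obj => (RR f).map y ≫ trR f hf adj K) =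
      (asIso (trR f hf adj K)).homToEquiv ∘ (b.homEquiv M (a.obj K).obj) := funext fun y => by
    show b.unit.app M ≫ (RR f).map y ≫ trR f hf adj K = b.homEquiv M (a.obj K).obj y ≫ trR f hf adj K
    rw [Adjunction.homEquiv_unit]
    exact (Category.assoc _ _ _).symm
  rw [e]
  exact (Equiv.bijective _).comp (Equiv.bijective _)

/-- Shifting the unit. -/
theorem unit_shift (M : DCoh.D Y) (n : ℤ) :
    letI := TorBC25.lpullCommShift f b
    b.unit.app (M⟦n⟧) = (shiftFunctor (DCoh.D Y) n).map (b.unit.app M) ≫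
      ((RR f).commShiftIso n).inv.app ((DCoh.Lpull f).obj M) ≫
        (RR f).map (((DCoh.Lpull f).commShiftIso n).inv.app M) := by
  letI := TorBC25.lpullCommShift f b
  haveI : b.CommShift ℤ := b.commShift_of_rightAdjoint ℤ
  rw [b.shift_unit_app n M]
  simp only [Category.assoc, Iso.hom_inv_id_app_assoc]
  rw [← Functor.map_comp]
  erw [Iso.hom_inv_id_app, CategoryTheory.Functor.map_id, Category.comp_id]

theorem isIso_unit_shift (M : DCoh.D Y) (n : ℤ) (h : IsIso (b.unit.app M)) : IsIso (b.unit.app (M⟦n⟧)) := by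
  letI := TorBC25.lpullCommShift f b
  haveI := h
  rw [unit_shift f b M n]
  infer_instance

theorem exists_retraction_shift (M : DCoh.D Y) (n : ℤ)
    (h : ∃ ρ, b.unit.app M ≫ ρ = 𝟙 M) : ∃ ρ, b.unit.app (M⟦n⟧) ≫ ρ = 𝟙 (M⟦n⟧) := by
  letI := TorBC25.lpullCommShift f b
  obtain ⟨ρ, hρ⟩ := h
  refine ⟨(RR f).map (((DCoh.Lpull f).commShiftIso n).hom.app M) ≫
    ((RR f).commShiftIso n).hom.app ((DCoh.Lpull f).obj M) ≫ (shiftFunctor (DCoh.D Y) n).map ρ, ?_⟩
  rw [unit_shift f b M n]
  simp only [Category.assoc, ← Functor.map_comp_assoc, Iso.inv_hom_id_app]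
  erw [CategoryTheory.Functor.map_id, Category.id_comp, Iso.inv_hom_id_app_assoc, ← Functor.map_comp, hρ]
  exact CategoryTheory.Functor.map_id _ _

end Trace

section Global

variable {X Y : Scheme.{u}} [IsNoetherian Y] (f : X ⟶ Y) [IsProper f] [DCoh.HasRpush f]
  (hf : DCoh.RpushPreservesQCoh f) {a : DCoh.DQCoh Y ⥤ DCoh.DQCoh X} (adj : DCoh.RpushQ f hf ⊣ a)
  (K : DCoh.DQCoh Y) (c : ℤ) [K.obj.IsGE c] {V : Y.Opens} (hV : IsAffineOpen V)

include adj c in
/-- The localisation of the trace over an affine open of the base. -/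
theorem exists_local_trR :
    ∃ (K' : DCoh.DQCoh Y) (η : K ⟶ K'), HomBC22.RestrBij hV.fromSpec K'.obj ∧
      HomBC22.RestrBij hV.fromSpec ((RR f).obj (a.obj K').obj) ∧
      IsIso ((resD hV.fromSpec).map η.hom) ∧ IsIso ((resD hV.fromSpec).map ((RR f).map (a.map η).hom)) := by
  haveI : CompactSpace V.toScheme := isCompact_iff_compactSpace.1 hV.isCompact
  haveI : QuasiCompact V.ι := quasiCompact_of_compactSpace V.ι
  haveI : CompactSpace X := QuasiCompact.compactSpace_of_compactSpace f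
  haveI : QuasiSeparatedSpace X := quasiSeparatedSpace_of_quasiSeparated f
  haveI : QuasiCompact f := inferInstance
  let K' := HomBC22.locObj V K
  let η : K ⟶ K' := HomBC22.locUnit V K
  let k := hV.isoSpec.inv
  have hk : k ≫ V.ι = hV.fromSpec := by
    rw [Iso.inv_comp_eq, hV.isoSpec_hom_fromSpec]
  let i' := (f ⁻¹ᵁ V).ι
  haveI : QuasiCompact i' :=
    MorphismProperty.of_isPullback (P := @QuasiCompact) (isPullback_morphismRestrict f V) ‹_›
  have hloc : HomBC22.RestrBij i' (a.obj K').obj :=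
    HomBC22.restrBij_adjoint (f := f) (hf := hf) V adj (HomBC22.restrBij_locObj V K)
  -- the unit of the adjoint over the preimage
  let E := (a.obj K').obj
  have hu : IsIso ((resDAdj i').unit.app E) :=
    isIso_of_restrBij i' (a.obj K').property (isQCohD_Rres i' _ (isQCohD_resD i' (a.obj K').property)) hloc
      (HomBC22.restrBij_RR i' _) _ (isIso_resD_unit i' E)
  have hR : HomBC22.RestrBij V.ι ((RR f).obj E) := by
    haveI := hu
    exact restrBij_of_iso _ ((RR f).mapIso (asIso ((resDAdj i').unit.app E)) ≪≫ (RRCompIso i' f).app _ ≪≫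
      (RRCongr (morphismRestrict_ι f V).symm).app _ ≪≫ ((RRCompIso (f ∣_ V) V.ι).app _).symm).symm
      (HomBC22.restrBij_RR V.ι _)
  have hη : IsIso ((resD V.ι).map η.hom) := HomBC22.isIso_resD_locUnit V K
  have hsa : IsIso ((resD i').map (a.map η).hom) :=
    HomBC22.isIso_resD_map_locUnit_of_isGE (f := f) (hf := hf) V adj K c
  have hη' : IsIso ((resD V.ι).map ((RR f).map (a.map η).hom)) := by
    haveI := hsa
    exact (NatIso.isIso_map_iff (resDRRBaseChange f V) (a.map η).hom).2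
      (inferInstanceAs (IsIso ((RR (f ∣_ V)).map ((resD i').map (a.map η).hom))))
  refine ⟨K', η, ?_, ?_, ?_, ?_⟩
  · exact restrBij_congr hk (restrBij_iso_comp k V.ι (HomBC22.restrBij_locObj V K))
  · exact restrBij_congr hk (restrBij_iso_comp k V.ι hR)
  · exact isIso_resD_of_factor hV.fromSpec V.ι k hk _ hη
  · exact isIso_resD_of_factor hV.fromSpec V.ι k hk _ hη'

include adj c in
/-- Composition with the trace, over an affine open of the base. -/
theorem resD_comp_trR (M : DCoh.D Y) (hM : DCoh.IsQCohD M) :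
    ((∀ L : DCoh.DQCoh Y, Function.Surjective fun x : M ⟶ (RR f).obj (a.obj L).obj => x ≫ trR f hf adj L) →
      Function.Surjective fun x : (resD hV.fromSpec).obj M ⟶ (resD hV.fromSpec).obj ((RR f).obj (a.obj K).obj) =>
        x ≫ (resD hV.fromSpec).map (trR f hf adj K)) ∧
    ((∀ L : DCoh.DQCoh Y, Function.Bijective fun x : M ⟶ (RR f).obj (a.obj L).obj => x ≫ trR f hf adj L) →
      Function.Bijective fun x : (resD hV.fromSpec).obj M ⟶ (resD hV.fromSpec).obj ((RR f).obj (a.obj K).obj) =>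
        x ≫ (resD hV.fromSpec).map (trR f hf adj K)) := by
  obtain ⟨K', η, hK', hR, hη, hη'⟩ := exists_local_trR f hf adj K c hV
  let i := hV.fromSpec
  haveI := hη
  haveI := hη'
  let eA : (M ⟶ (RR f).obj (a.obj K').obj) → ((resD i).obj M ⟶ (resD i).obj ((RR f).obj (a.obj K).obj)) :=
    fun x => (resD i).map x ≫ inv ((resD i).map ((RR f).map (a.map η).hom))
  let eB : (M ⟶ K'.obj) → ((resD i).obj M ⟶ (resD i).obj K.obj) :=
    fun x => (resD i).map x ≫ inv ((resD i).map η.hom)
  have hA : Function.Bijective eA :=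
    Function.Bijective.comp (asIso ((resD i).map ((RR f).map (a.map η).hom))).symm.homToEquiv.bijective (hR M hM)
  have hB : Function.Bijective eB :=
    Function.Bijective.comp (asIso ((resD i).map η.hom)).symm.homToEquiv.bijective (hK' M hM)
  have hsq : (fun x : (resD i).obj M ⟶ (resD i).obj ((RR f).obj (a.obj K).obj) =>
      x ≫ (resD i).map (trR f hf adj K)) ∘ eA = eB ∘ fun x => x ≫ trR f hf adj K' := by
    funext x
    simp only [Function.comp_apply, eA, eB, Functor.map_comp, Category.assoc]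
    congr 1
    rw [IsIso.inv_comp_eq, ← Category.assoc, IsIso.eq_comp_inv, ← Functor.map_comp, ← Functor.map_comp,
      trR_naturality]
  refine ⟨fun h => ?_, fun h => ?_⟩
  · refine Function.Surjective.of_comp (g := eA) ?_
    rw [hsq]
    exact hB.2.comp (h K')
  · refine (Function.Bijective.of_comp_iff _ hA).1 ?_
    rw [hsq]
    exact hB.comp (h K')

include adj c in
/-- Maps killed by all composites with the unit vanish over affine opens. -/
theorem hom_eq_zero_of_isIso_trR [DCoh.HasLpull f] (b : DCoh.Lpull f ⊣ RR f) (htr : IsIso (trR f hf adj K))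
    {M C : DCoh.D Y} (hM : DCoh.IsQCohD M) (g : (RR f).obj ((DCoh.Lpull f).obj M) ⟶ C) (d : C ⟶ M⟦(1 : ℤ)⟧)
    (hT : Triangle.mk (b.unit.app M) g d ∈ distTriang (DCoh.D Y)) (n : ℤ)
    (z : (resD hV.fromSpec).obj (C⟦n⟧) ⟶ (resD hV.fromSpec).obj K.obj) : z = 0 := by
  haveI : CompactSpace X := QuasiCompact.compactSpace_of_compactSpace f
  haveI : QuasiSeparatedSpace X := quasiSeparatedSpace_of_quasiSeparated f
  haveI : QuasiCompact f := inferInstance
  obtain ⟨K', η, hK', hR, hη, hη'⟩ := exists_local_trR f hf adj K c hV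
  let i := hV.fromSpec
  haveI := hη
  haveI := hη'
  have htr' : IsIso (trR f hf adj K') := by
    refine isIso_of_restrBij i (isQCohD_Rres f _ (a.obj K').property) K'.property hR hK' _ ?_
    haveI := htr
    have e := congrArg (resD i).map (trR_naturality f hf adj η)
    rw [Functor.map_comp, Functor.map_comp] at e
    haveI : IsIso ((resD i).map ((RR f).map (a.map η).hom) ≫ (resD i).map (trR f hf adj K')) := by
      rw [e]; infer_instance
    exact IsIso.of_isIso_comp_left ((resD i).map ((RR f).map (a.map η).hom)) _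
  have hpre : ∀ m : ℤ, Function.Bijective fun z : (RR f).obj ((DCoh.Lpull f).obj (M⟦m⟧)) ⟶ K'.obj =>
      b.unit.app (M⟦m⟧) ≫ z := fun m => precomp_unit_bijective f hf adj b (isQCohD_shift hM m) K' htr'
  letI := TorBC25.lpullCommShift f b
  have hpre' : ∀ m : ℤ, Function.Bijective
      fun z : ((RR f).obj ((DCoh.Lpull f).obj M))⟦m⟧ ⟶ K'.obj => (b.unit.app M)⟦m⟧' ≫ z := fun m => by
    let e : (RR f).obj ((DCoh.Lpull f).obj (M⟦m⟧)) ≅ ((RR f).obj ((DCoh.Lpull f).obj M))⟦m⟧ :=
      (RR f).mapIso (((DCoh.Lpull f).commShiftIso m).app M) ≪≫ ((RR f).commShiftIso m).app _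
    have he : b.unit.app (M⟦m⟧) = (b.unit.app M)⟦m⟧' ≫ e.inv := by
      rw [unit_shift f b M m]; rfl
    refine (Function.Bijective.of_comp_iff _ e.homFromEquiv.bijective).1 ?_
    have h := hpre m
    simp only [he, Category.assoc] at h
    exact h
  obtain ⟨z', hz'⟩ := (hK' _ (isQCohD_shift (isQCohD_obj₃ hT hM
    (isQCohD_Rres f _ (TorBC25.isQCohD_lpull f hM))) n)).2 (z ≫ (resD i).map η.hom)
  suffices h0 : z' = 0 by
    rw [← cancel_mono ((resD i).map η.hom), zero_comp]
    exact hz'.symm.trans (by rw [h0]; exact Functor.map_zero _ _ _)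
  have hTn := Triangle.shift_distinguished _ hT n
  obtain ⟨t, ht⟩ := Triangle.yoneda_exact₃ _ hTn z' ((hpre' n).1 (by
    show (b.unit.app M)⟦n⟧' ≫ (n.negOnePow • g⟦n⟧') ≫ z' = (b.unit.app M)⟦n⟧' ≫ 0
    have h0 := comp_distTriang_mor_zero₁₂ _ hT
    simp only [Triangle.mk_mor₁, Triangle.mk_mor₂] at h0
    rw [Linear.units_smul_comp, Linear.comp_units_smul, ← Functor.map_comp_assoc, h0, Functor.map_zero, zero_comp,
      smul_zero, comp_zero]))
  let s := shiftFunctorAdd' (DCoh.D Y) n (1 : ℤ) (n + 1) rfl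
  let σ : (M⟦n⟧)⟦(1 : ℤ)⟧ ≅ M⟦n + 1⟧ := (s.app M).symm
  obtain ⟨t', ht'⟩ := (hpre' (n + 1)).2 (σ.inv ≫ t)
  have hσ : σ.hom ≫ (b.unit.app M)⟦n + 1⟧' = ((b.unit.app M)⟦n⟧')⟦(1 : ℤ)⟧' ≫ s.inv.app _ :=
    (s.inv.naturality (b.unit.app M)).symm
  have ht'' : t = ((b.unit.app M)⟦n⟧')⟦(1 : ℤ)⟧' ≫ s.inv.app _ ≫ t' := by
    rw [← Category.assoc, ← hσ, Category.assoc]
    rw [show (b.unit.app M)⟦n + 1⟧' ≫ t' = σ.inv ≫ t from ht', Iso.hom_inv_id_assoc]
  rw [ht, ht'']
  let T' := (Triangle.shiftFunctor (DCoh.D Y) n).obj (Triangle.mk (b.unit.app M) g d)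
  have h31' : T'.mor₃ ≫ ((b.unit.app M)⟦n⟧')⟦(1 : ℤ)⟧' = 0 := by
    have h : T'.mor₃ ≫ (shiftFunctor (DCoh.D Y) (1 : ℤ)).map (n.negOnePow • (b.unit.app M)⟦n⟧') = 0 :=
      comp_distTriang_mor_zero₃₁ _ hTn
    rw [Functor.map_units_smul, Linear.comp_units_smul] at h
    exact (smul_eq_zero_iff_eq _).1 h
  erw [reassoc_of% h31']
  exact zero_comp

include adj c in
/-- Over an affine open, an invertible unit at the structure sheaf makes the trace invertible. -/
theorem isIso_resD_trR [DCoh.HasLpull f] (b : DCoh.Lpull f ⊣ RR f)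
    (hu : IsIso (b.unit.app (DCoh.inD Y (Coh.structureModule Y)))) :
    IsIso ((resD hV.fromSpec).map (trR f hf adj K)) := by
  haveI : CompactSpace X := QuasiCompact.compactSpace_of_compactSpace f
  haveI : QuasiSeparatedSpace X := quasiSeparatedSpace_of_quasiSeparated f
  haveI : QuasiCompact f := inferInstance
  let i := hV.fromSpec
  let S := Spec Γ(Y, V)
  let O := DCoh.inD Y (Coh.structureModule Y)
  let τ := (resD i).map (trR f hf adj K)
  have hO : DCoh.IsQCohD O := isQCohD_of_isPerfect (isPerfect_unit Y)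
  have hb : ∀ n : ℤ, Function.Bijective fun x : ((resD i).obj O)⟦n⟧ ⟶ (resD i).obj ((RR f).obj (a.obj K).obj) =>
      x ≫ τ := fun n => by
    have h := (resD_comp_trR f hf adj K c hV (O⟦n⟧) (isQCohD_shift hO n)).2 fun L =>
      comp_trR_bijective f hf adj b (isQCohD_shift hO n) (isIso_unit_shift f b O n hu) L
    let e := ((resD i).commShiftIso n).app O
    have he : (fun x : ((resD i).obj O)⟦n⟧ ⟶ (resD i).obj ((RR f).obj (a.obj K).obj) => x ≫ τ) =
        (fun y => e.inv ≫ y) ∘ (fun x => x ≫ τ) ∘ (fun x => e.hom ≫ x) := funext fun x => by simp [Iso.inv_hom_id_assoc]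
    rw [he]
    exact e.homFromEquiv.bijective.comp (h.comp e.symm.homFromEquiv.bijective)
  obtain ⟨C, g, d, hT⟩ := distinguished_cocone_triangle τ
  suffices hC : IsZero C from (Triangle.isZero₃_iff_isIso₁ _ hT).1 hC
  refine KSix19.ProjPush.isZero_of_hom_structure (isQCohD_obj₃ hT (isQCohD_resD i (isQCohD_Rres f _ (a.obj K).property))
    (isQCohD_resD i K.property)) fun m φ => ?_
  obtain ⟨r⟩ := BCPerf20.nonempty_resD_inD i (Coh.structureModule Y)
  let w : ((resD i).obj O)⟦-m⟧ ≅ (DerivedCategory.singleFunctor S.Modules m).obj (Coh.structureModule S) :=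
    (shiftFunctor _ (-m)).mapIso (r ≪≫ (DerivedCategory.singleFunctor S.Modules 0).mapIso (OX.pullUnitIso i)) ≪≫
      ((DerivedCategory.singleFunctors S.Modules).shiftIso (-m) m 0 (by omega)).app _
  rw [← cancel_epi w.hom, comp_zero]
  have hd : (w.hom ≫ φ) ≫ d = 0 := by
    let A := (resD i).obj ((RR f).obj (a.obj K).obj)
    let σ : (((resD i).obj O)⟦-m - 1⟧)⟦(1 : ℤ)⟧ ≅ ((resD i).obj O)⟦-m⟧ :=
      ((shiftFunctorAdd' (DCoh.D S) (-m - 1) 1 (-m) (by omega)).app _).symm
    obtain ⟨x, hx⟩ := (shiftFunctor (DCoh.D S) (1 : ℤ)).map_surjective (X := ((resD i).obj O)⟦-m - 1⟧) (Y := A)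
      (σ.hom ≫ (w.hom ≫ φ) ≫ d)
    have h31 : d ≫ τ⟦(1 : ℤ)⟧' = 0 := comp_distTriang_mor_zero₃₁ _ hT
    have hx0 : x = 0 := (hb _).1 ((shiftFunctor (DCoh.D S) (1 : ℤ)).map_injective (by
      show (x ≫ τ)⟦(1 : ℤ)⟧' = ((0 : _ ⟶ A) ≫ τ)⟦(1 : ℤ)⟧'
      rw [Functor.map_comp, hx, zero_comp, Functor.map_zero]
      simp only [Category.assoc]
      erw [h31]
      simp))
    rw [← cancel_epi σ.hom, comp_zero, ← hx, hx0, Functor.map_zero]
  obtain ⟨y, hy⟩ := Triangle.coyoneda_exact₃ _ hT (w.hom ≫ φ) hd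
  obtain ⟨x, hx⟩ := (hb _).2 y
  rw [hy, ← hx]
  show (x ≫ τ) ≫ g = 0
  rw [Category.assoc, show τ ≫ g = 0 from comp_distTriang_mor_zero₁₂ _ hT, comp_zero]

include adj c in
/-- Over an affine open, a retraction of the unit at the structure sheaf makes the trace surjective on cohomology. -/
theorem epi_resD_trR [DCoh.HasLpull f] (b : DCoh.Lpull f ⊣ RR f)
    (hu : ∃ ρ, b.unit.app (DCoh.inD Y (Coh.structureModule Y)) ≫ ρ = 𝟙 _) (q : ℤ) :
    Epi ((DerivedCategory.homologyFunctor _ q).map ((resD hV.fromSpec).map (trR f hf adj K))) := by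
  haveI : CompactSpace X := QuasiCompact.compactSpace_of_compactSpace f
  haveI : QuasiSeparatedSpace X := quasiSeparatedSpace_of_quasiSeparated f
  haveI : QuasiCompact f := inferInstance
  let i := hV.fromSpec
  let S := Spec Γ(Y, V)
  let O := DCoh.inD Y (Coh.structureModule Y)
  let τ := (resD i).map (trR f hf adj K)
  have hO : DCoh.IsQCohD O := isQCohD_of_isPerfect (isPerfect_unit Y)
  obtain ⟨ρ, hρ⟩ := exists_retraction_shift f b O (-q) hu
  have h := (resD_comp_trR f hf adj K c hV (O⟦-q⟧) (isQCohD_shift hO (-q))).1 fun L =>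
    comp_trR_surjective f hf adj b (isQCohD_shift hO (-q)) ρ hρ L
  obtain ⟨r⟩ := BCPerf20.nonempty_resD_inD i (Coh.structureModule Y)
  let w : (resD i).obj (O⟦-q⟧) ≅ (DerivedCategory.singleFunctor S.Modules q).obj ((genF S).obj ⊤) :=
    ((resD i).commShiftIso (-q)).app O ≪≫
    (shiftFunctor _ (-q)).mapIso (r ≪≫ (DerivedCategory.singleFunctor S.Modules 0).mapIso (OX.pullUnitIso i)) ≪≫
      ((DerivedCategory.singleFunctors S.Modules).shiftIso (-q) q 0 (by omega)).app _ ≪≫
      (DerivedCategory.singleFunctor S.Modules q).mapIso (genTopIso S).symm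
  let H := DerivedCategory.homologyFunctor S.Modules q
  have hBq : DCoh.IsQCohD ((resD i).obj K.obj) := isQCohD_resD i K.property
  obtain ⟨C, g, d, hT⟩ := distinguished_cocone_triangle τ
  have hT' := (DerivedCategory.HomologySequence.exact₂ _ hT q)
  refine hT'.epi_f ?_
  show H.map g = 0
  haveI : (DCoh.HD ((resD i).obj K.obj) q).IsQuasicoherent := hBq q
  refine PPGen.hom_ext_top (R := Γ(Y, V)) (DCoh.HD ((resD i).obj K.obj) q) _ (H.map g) 0 fun s => ?_
  obtain ⟨φ, hφ⟩ := (theta_bijective (isAffineOpen_top S) hBq q).2 ((genSec (DCoh.HD _ q) ⊤).symm s)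
  obtain ⟨x, hx⟩ := h (w.hom ≫ φ)
  have h0 : φ ≫ g = 0 := by
    rw [← cancel_epi w.hom, comp_zero, ← Category.assoc, ← hx]
    show (x ≫ τ) ≫ g = 0
    rw [Category.assoc, show τ ≫ g = 0 from comp_distTriang_mor_zero₁₂ _ hT, comp_zero]
  have h1 := genSec_comp ⊤ (SiteDer.theta φ) (H.map g)
  rw [← SiteDer.theta_comp, h0, show SiteDer.theta φ = _ from hφ, Equiv.apply_symm_apply, SiteDer.theta_zero] at h1
  exact h1.symm.trans (SiteDer.secMod_zero _ _)

end Global

end GrothLib.RightAdj20
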