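import Groth.Agent.Lib.RightAdj20.AdjQCoh
import Groth.Agent.Lib.RightAdj20.DualBdd
import Groth.Agent.Lib.RightAdj22.Shriek
import Groth.Agent.Lib.OX.PerfectLemmas
import Groth.Agent.Lib.OX.CohRHom
import Groth.Prelude.Def_Dual3

/-! # `f^!` through duality -/

set_option autoImplicit false
set_option maxHeartbeats 1000000
set_option linter.style.haveILetI false
set_option backward.isDefEq.respectTransparency false
universe u

open CategoryTheory CategoryTheory.Limits AlgebraicGeometry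

attribute [local instance] HasDerivedCategory.standard

noncomputable section

namespace GrothLib.RightAdj20

open GrothLib.OX GrothLib.RightAdj22

variable {X Y : Scheme.{u}}

/-- The derived pullback only depends on the morphism. -/
theorem nonempty_lpull_congr {f g : X ⟶ Y} (h : f = g) [DCoh.HasLpull f] [DCoh.HasLpull g] :
    Nonempty (DCoh.Lpull f ≅ DCoh.Lpull g) := by
  subst h
  exact ⟨Iso.refl _⟩

/-- **`f^! M = D_X (Lf^* D_Y M)`.** -/
theorem nonempty_shriek_via_duality [IsLocallyNoetherian Y] [CompactSpace Y]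
    [∀ (U : Scheme.{u}) (j : U ⟶ Y) [IsOpenImmersion j], PreservesFiniteLimits (Scheme.Modules.restrictFunctor j)]
    [∀ (R : CommRingCat.{u}), PreservesFiniteLimits (tilde.functor R)]
    {Xb : Scheme.{u}} (p : Xb ⟶ Y) [IsProper p] [DCoh.HasRpush p] (hp : DCoh.RpushPreservesQCoh p)
    {a : DCoh.DQCoh Y ⥤ DCoh.DQCoh Xb} (adj : DCoh.RpushQ p hp ⊣ a) (j : X ⟶ Xb) [IsOpenImmersion j]
    {f : X ⟶ Y} (hf : j ≫ p = f) [DCoh.HasLpull f]
    (K : DCoh.DQCoh Y) (c₀ : ℤ) [hKc : K.obj.IsGE c₀] (hKd : Dual2.IsDualizingSch Y K.obj)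
    (M : DCoh.DQCoh Y) (c₁ : ℤ) [hMc' : M.obj.IsGE c₁] (hMc : ∀ i : ℤ, Coh.IsCoh (DCoh.HD M.obj i))
    (M' : CochainComplex Y.Modules ℤ) (eM : DCoh.toD Y M' ≅ M.obj) [DCoh.HasLTensorCx M'] [DCoh.HasRSheafHom M']
    (N' : CochainComplex X.Modules ℤ)
    (eN : DCoh.toD X N' ≅ (DCoh.Lpull f).obj ((DCoh.RSheafHom M').obj K.obj))
    [DCoh.HasLTensorCx N'] [DCoh.HasRSheafHom N'] :
    Nonempty ((resD j).obj (a.obj M).obj ≅ (DCoh.RSheafHom N').obj ((resD j).obj (a.obj K).obj)) := by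
  haveI : AlgebraicGeometry.IsNoetherian Y := {}
  have hL : ∀ i : ℤ, Coh.IsCoh (DCoh.HD (DCoh.toD Y M') i) := fun i =>
    QCoh.isCoh_of_iso ((DerivedCategory.homologyFunctor _ i).mapIso eM.symm) (hMc i)
  haveI : (DCoh.toD Y M').IsGE c₁ := (DerivedCategory.isGE_iff _ _).2 fun i hi =>
    (DerivedCategory.isZero_of_isGE M.obj c₁ i hi).of_iso ((DerivedCategory.homologyFunctor _ i).mapIso eM)
  obtain ⟨N, hN, ⟨eD⟩⟩ := exists_kflat_rep ((DCoh.RSheafHom M').obj K.obj)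
  haveI := hasLTensorCx N
  haveI := hasRSheafHom N
  obtain ⟨B, hB⟩ := exists_isLE_dual hKd M' hL c₁
  haveI : (DerivedCategory.Q.obj N).IsLE B := (DerivedCategory.isLE_iff _ _).2 fun i hi =>
    (haveI := hB; DerivedCategory.isZero_of_isLE ((DCoh.RSheafHom M').obj K.obj) B i hi).of_iso
      ((DerivedCategory.homologyFunctor _ i).mapIso eD)
  have hNc : DCoh.IsCohD (DerivedCategory.Q.obj N) := fun i =>
    QCoh.isCoh_of_iso ((DerivedCategory.homologyFunctor _ i).mapIso eD.symm) (DualRing.isCoh_dual hKd M' hL i)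
  obtain ⟨bid⟩ := DualRing.nonempty_biduality hKd M' hL N eD
  -- the twisted inverse image of the dual
  let N₁ := (pullCxF p).obj N
  haveI := hasLTensorCx N₁
  haveI := hasRSheafHom N₁
  haveI := hasLpull p
  obtain ⟨v⟩ := lpull_value p N hN
  let Kb : BQ Y := ⟨K, c₀, hKc⟩
  obtain ⟨c', hc'⟩ := ((aB p).obj Kb).property
  let ea : (aQ p).obj K ≅ a.obj K := ((aQUniq p hp adj).app K).symm
  haveI : (a.obj K).obj.IsGE c' := (DerivedCategory.isGE_iff _ _).2 fun i hi =>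
    (haveI := hc'; DerivedCategory.isZero_of_isGE ((aB p).obj Kb).obj.obj c' i hi).of_iso
      ((DerivedCategory.homologyFunctor _ i).mapIso ((DCoh.IsQCohD (X := Xb)).ι.mapIso ea).symm)
  have hN₁ : DCoh.IsQCohD ((DCoh.RSheafHom N₁).obj (a.obj K).obj) := fun i =>
    isQCoh_HD_RSheafHom_of_pseudo N₁ (c' - i - 1)
      (isPseudoCoherentD_of_iso (isPseudoCoherent_lpull p (isPseudoCoherentD_of_isCohD hNc B _)) v)
      (a.obj K).property c' (fun m hm => DerivedCategory.isZero_of_isGE _ c' m hm) i (by omega)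
  obtain ⟨n⟩ := nonempty_adjoint_RHom_qcoh p hp adj N hN (fun i => (hNc i).1) K M (eM.symm ≪≫ bid.symm) hN₁
  -- restriction to the open
  let N₂ := (resCx j).obj N₁
  haveI := hasLTensorCx N₂
  haveI := hasRSheafHom N₂
  obtain ⟨β⟩ := nonempty_resD_RSheafHom (j := j) (K := N₁)
  haveI := hasLpull j
  haveI := hasLpull (j ≫ p)
  obtain ⟨l⟩ := SuppTens22.nonempty_lpull_openImmersion j
  obtain ⟨g⟩ := nonempty_lpull_congr hf
  let i₂ : DerivedCategory.Q.obj N₂ ≅ DCoh.toD X N' :=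
    ((resDFac j).app N₁).symm ≪≫ (resD j).mapIso (v.symm ≪≫ (DCoh.Lpull p).mapIso eD) ≪≫
      (l.app _).symm ≪≫ (lpullCompIso j p).app _ ≪≫ g.app _ ≪≫ eN.symm
  obtain ⟨c⟩ := nonempty_RSheafHom_congr i₂
  exact ⟨(resD j).mapIso n ≪≫ β.app _ ≪≫ c.app _⟩

end GrothLib.RightAdj20
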